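import Mathlib

/-!
Lemmas on finite groups used for small supports: almost central elements, four-groups, disjoint conjugates.
-/

set_option autoImplicit false
set_option linter.unusedSectionVars false

namespace Cfsg.Agent.H58.CSixPlus

open Subgroup

variable {G : Type*} [Group G] [Finite G]

/-- A 2-group normalising a normal subgroup of even order centralises an involution of it. -/
theorem exists_central_invol (S P : Subgroup G) [S.Normal] (hP : IsPGroup 2 P) {x : G} (hx : x ∈ S) (hx1 : x ≠ 1)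
    (hxx : x * x = 1) : ∃ t ∈ S, t ≠ 1 ∧ t * t = 1 ∧ ∀ p ∈ P, p * t = t * p := by
  classical
  have : Fact (Nat.Prime 2) := ⟨Nat.prime_two⟩
  obtain ⟨T, hPT⟩ := hP.exists_le_sylow
  -- a conjugate of x lies in T
  obtain ⟨U, hxU⟩ : ∃ U : Sylow 2 G, x ∈ (U : Subgroup G) := by
    have hp : IsPGroup 2 (Subgroup.zpowers x) := by
      refine IsPGroup.of_card (n := 1) ?_
      rw [Nat.card_zpowers, pow_one]
      exact orderOf_eq_prime (by rw [pow_two, hxx]) hx1
    obtain ⟨U, hU⟩ := hp.exists_le_sylow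
    exact ⟨U, hU (Subgroup.mem_zpowers x)⟩
  obtain ⟨g, hg⟩ := MulAction.exists_smul_eq G U T
  have hy : g * x * g⁻¹ ∈ (T : Subgroup G) := by
    rw [← hg, Sylow.coe_subgroup_smul, Subgroup.mem_pointwise_smul_iff_inv_smul_mem]
    simpa [MulAut.smul_def, mul_assoc] using hxU
  set y : (T : Subgroup G) := ⟨g * x * g⁻¹, hy⟩
  set K := S.subgroupOf (T : Subgroup G) with hK
  have : Group.IsNilpotent (T : Subgroup G) := T.isPGroup'.isNilpotent
  have hK1 : Nontrivial K := ⟨⟨⟨y, show g * x * g⁻¹ ∈ S from Subgroup.Normal.conj_mem ‹_› x hx g⟩, 1,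
    fun h => hx1 (by simpa [y] using congrArg (fun z : K => ((z : (T : Subgroup G)) : G)) h)⟩⟩
  let : MulAction (T : Subgroup G) K := MulAction.compHom K (MulAut.conjNormal (H := K))
  obtain ⟨n, hn, hn'⟩ := (T.isPGroup'.to_subgroup K).nontrivial_iff_card.1 hK1
  obtain ⟨b, hb, hb1⟩ := (T.isPGroup').exists_fixed_point_of_prime_dvd_card_of_fixed_point K
    (a := (1 : K)) (by rw [hn']; exact dvd_pow_self 2 (by omega)) (fun g => map_one (MulAut.conjNormal (H := K) g))
  -- the power of order two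
  obtain ⟨m, hm⟩ := (IsPGroup.iff_orderOf.1 (T.isPGroup'.to_subgroup K)) b
  have hm0 : m ≠ 0 := fun e => hb1 (by rw [e, pow_zero, orderOf_eq_one_iff] at hm; exact hm.symm)
  set t := b ^ 2 ^ (m - 1)
  have ht2 : t * t = 1 := by
    rw [← pow_add, ← two_mul, ← pow_succ', Nat.sub_add_cancel (by omega), ← hm, pow_orderOf_eq_one]
  have ht1 : t ≠ 1 := pow_ne_one_of_lt_orderOf (by positivity) (by
    rw [hm]; exact Nat.pow_lt_pow_right (by norm_num) (by omega))
  refine ⟨((t : (T : Subgroup G)) : G), Subgroup.mem_subgroupOf.1 t.2, fun h => ht1 (Subtype.ext (Subtype.ext h)),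
    congrArg (fun z : K => ((z : (T : Subgroup G)) : G)) ht2, fun p hp => ?_⟩
  have e : MulAut.conjNormal (⟨p, hPT hp⟩ : (T : Subgroup G)) b = b := hb ⟨p, hPT hp⟩
  have e2 := congrArg (fun z : K => ((z : (T : Subgroup G)) : G)) (show MulAut.conjNormal (⟨p, hPT hp⟩ : (T : Subgroup G)) t = t by
    rw [map_pow, e])
  simp only [MulAut.conjNormal_apply] at e2
  exact mul_inv_eq_iff_eq_mul.1 (by simpa using e2)

/-- A four-group acting on a nontrivial group has a nontrivial fixed point of one of its involutions. -/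
theorem exists_fixed_four (S : Subgroup G) {a b : G} (hab : a * b = b * a) (ha : a * a = 1) (hb : b * b = 1)
    (hSa : ∀ x ∈ S, a * x * a ∈ S) (hSb : ∀ x ∈ S, b * x * b ∈ S) {x : G} (hx : x ∈ S) (hx1 : x ≠ 1) :
    ∃ y ∈ S, y ≠ 1 ∧ (a * y = y * a ∨ b * y = y * b ∨ a * b * y = y * (a * b)) := by
  classical
  by_contra hno
  push Not at hno
  have inv : ∀ {u : G}, u * u = 1 → (∀ y ∈ S, u * y * u ∈ S) → (∀ y ∈ S, y ≠ 1 → u * y ≠ y * u) →
      ∀ y ∈ S, u * y * u = y⁻¹ := by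
    intro u hu hS hfree y hy
    have hui : u⁻¹ = u := inv_eq_of_mul_eq_one_right hu
    let φ : S → S := fun z => ⟨z.1⁻¹ * (u * z.1 * u), S.mul_mem (S.inv_mem z.2) (hS _ z.2)⟩
    have hinj : Function.Injective φ := fun z w hzw => by
      have e : z.1⁻¹ * (u * z.1 * u) = w.1⁻¹ * (u * w.1 * u) := congrArg Subtype.val hzw
      have e0 : z.1⁻¹ * u * z.1 = w.1⁻¹ * u * w.1 := mul_right_cancel (b := u) (by
        simpa [mul_assoc] using e)
      have e' : u * (w.1 * z.1⁻¹) = w.1 * z.1⁻¹ * u := by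
        calc u * (w.1 * z.1⁻¹) = w.1 * (w.1⁻¹ * u * w.1) * z.1⁻¹ := by group
          _ = w.1 * (z.1⁻¹ * u * z.1) * z.1⁻¹ := by rw [e0]
          _ = w.1 * z.1⁻¹ * u := by group
      by_contra hne
      exact hfree _ (S.mul_mem w.2 (S.inv_mem z.2)) (fun h => hne (Subtype.ext (mul_inv_eq_one.1 h).symm)) e'
    obtain ⟨z, hz⟩ := (Finite.injective_iff_surjective.1 hinj) ⟨y, hy⟩
    have hz' : y = z.1⁻¹ * (u * z.1 * u) := (congrArg Subtype.val hz).symm
    rw [hz', mul_inv_rev, inv_inv, mul_inv_rev, mul_inv_rev, hui,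
      show u * (z.1⁻¹ * (u * z.1 * u)) * u = u * z.1⁻¹ * u * z.1 * (u * u) by group, hu, mul_one]
    group
  have hA := inv ha hSa fun y hy hy1 => (hno y hy hy1).1
  have hB := inv hb hSb fun y hy hy1 => (hno y hy hy1).2.1
  refine (hno x hx hx1).2.2 ?_
  have hbi : b⁻¹ = b := inv_eq_of_mul_eq_one_right hb
  have hai : a⁻¹ = a := inv_eq_of_mul_eq_one_right ha
  have e : a * (b * x * b) * a = x := by rw [hB x hx, hA _ (S.inv_mem hx), inv_inv]
  have ha' : ∀ y : G, a * (a * y) = y := fun y => by rw [← mul_assoc, ha, one_mul]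
  calc a * b * x = a * (b * x * b) * a * (b * a)⁻¹ := by rw [mul_inv_rev, hai, hbi]; simp [mul_assoc, ha', hb]
    _ = x * (a * b) := by rw [e, mul_inv_rev, hai, hbi]

/-- An elementary abelian self-normalising 2-subgroup containing the centralisers of a four-group is everything. -/
theorem eq_top_of_self_normalizing (E : Subgroup G) (hE : ∀ x ∈ E, x * x = 1)
    (hN : ∀ g, (∀ x ∈ E, g * x * g⁻¹ ∈ E) → g ∈ E) {a b : G} (ha : a ∈ E) (hb : b ∈ E)
    (hCa : ∀ g, g * a = a * g → g ∈ E) (hCb : ∀ g, g * b = b * g → g ∈ E)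
    (hCab : ∀ g, g * (a * b) = a * b * g → g ∈ E) : E = ⊤ := by
  classical
  have : Fact (Nat.Prime 2) := ⟨Nat.prime_two⟩
  have hp : IsPGroup 2 E := fun g => ⟨1, Subtype.ext (by simpa [pow_two] using hE g g.2)⟩
  have hcomm : ∀ x ∈ E, ∀ y ∈ E, x * y = y * x := fun x hx y hy => by
    have h := hE _ (E.mul_mem hx hy)
    have hx' : x⁻¹ = x := inv_eq_of_mul_eq_one_right (hE x hx)
    have hy' : y⁻¹ = y := inv_eq_of_mul_eq_one_right (hE y hy)
    calc x * y = (x * y)⁻¹ := (inv_eq_of_mul_eq_one_right h).symm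
      _ = y * x := by rw [mul_inv_rev, hx', hy']
  obtain ⟨T, hET⟩ := hp.exists_le_sylow
  have hTE : (T : Subgroup G) = E := by
    refine le_antisymm ?_ hET
    have : Group.IsNilpotent (T : Subgroup G) := T.isPGroup'.isNilpotent
    by_contra hle
    have hlt : E.subgroupOf (T : Subgroup G) < ⊤ := lt_top_iff_ne_top.2 fun h => hle (Subgroup.subgroupOf_eq_top.1 h)
    obtain ⟨-, ⟨g, hgN, hgE⟩⟩ := SetLike.lt_iff_le_and_exists.1 (Group.normalizerCondition_of_isNilpotent _ hlt)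
    refine hgE (hN _ fun x hx => ?_)
    exact (Subgroup.mem_normalizer_iff.1 hgN ⟨x, hET hx⟩).1 hx
  have hT : Subgroup.normalizer ((T : Subgroup G) : Set G) ≤ Subgroup.centralizer ((T : Subgroup G) : Set G) := by
    intro g hg
    rw [hTE] at hg ⊢
    have hgE : g ∈ E := hN g fun x hx => (Subgroup.mem_normalizer_iff.1 hg x).1 hx
    exact fun x hx => hcomm x hx g hgE
  have hcompl := MonoidHom.ker_transferSylow_isComplement' T hT
  set K := (MonoidHom.transferSylow T hT).ker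
  rw [hTE] at hcompl
  by_cases hK : K = ⊥
  · have h := hcompl.sup_eq_top
    rwa [hK, bot_sup_eq] at h
  exfalso
  have := (Subgroup.nontrivial_iff_ne_bot K).2 hK
  obtain ⟨⟨x, hx⟩, hx1⟩ := exists_ne (1 : K)
  have hinv : ∀ {u}, u ∈ E → ∀ z ∈ K, u * z * u ∈ K := fun {u} hu z hz => by
    have := Subgroup.Normal.conj_mem (inferInstance : K.Normal) z hz u
    rwa [inv_eq_of_mul_eq_one_right (hE u hu)] at this
  obtain ⟨y, hy, hy1, hyc⟩ := exists_fixed_four K (hcomm a ha b hb) (hE a ha) (hE b hb) (hinv ha) (hinv hb) hx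
    (fun h => hx1 (Subtype.ext h))
  refine hy1 (Subgroup.disjoint_def.1 hcompl.disjoint hy ?_)
  rcases hyc with h | h | h
  exacts [hCa y h.symm, hCb y h.symm, hCab y h.symm]

/-- Two families of self-normalising subgroups with disjoint conjugates cannot both have order three or more. -/
theorem no_two_families (A B : Subgroup G) (hA : 3 ≤ Nat.card A) (hB : 3 ≤ Nat.card B)
    (hTA : ∀ g x, x ∈ A → x ≠ 1 → g * x * g⁻¹ ∈ A → g ∈ A)
    (hTB : ∀ g x, x ∈ B → x ≠ 1 → g * x * g⁻¹ ∈ B → g ∈ B)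
    (hAB : ∀ g x, x ∈ A → x ≠ 1 → g * x * g⁻¹ ∉ B) : False := by
  classical
  have := Fintype.ofFinite G
  let f : ((G ⧸ A) × {x : A // x ≠ 1}) ⊕ ((G ⧸ B) × {x : B // x ≠ 1}) → {g : G // g ≠ 1} :=
    Sum.elim (fun p => ⟨p.1.out * p.2.1.1 * p.1.out⁻¹, fun h => p.2.2 (Subtype.ext (by simpa using h))⟩)
      (fun p => ⟨p.1.out * p.2.1.1 * p.1.out⁻¹, fun h => p.2.2 (Subtype.ext (by simpa using h))⟩)
  have hone : ∀ (C : Subgroup G), (∀ g x, x ∈ C → x ≠ 1 → g * x * g⁻¹ ∈ C → g ∈ C) →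
      ∀ p q : (G ⧸ C) × {x : C // x ≠ 1}, p.1.out * p.2.1.1 * p.1.out⁻¹ = q.1.out * q.2.1.1 * q.1.out⁻¹ → p = q := by
    rintro C hC ⟨u, x⟩ ⟨w, y⟩ h
    have h' : w.out⁻¹ * u.out * x.1.1 * (w.out⁻¹ * u.out)⁻¹ = y.1.1 := by
      rw [show w.out⁻¹ * u.out * x.1.1 * (w.out⁻¹ * u.out)⁻¹ = w.out⁻¹ * (u.out * x.1.1 * u.out⁻¹) * w.out by group, h]
      group
    have hmem := hC _ _ x.1.2 (fun e => x.2 (Subtype.ext e)) (h' ▸ y.1.2)
    have huw : u = w := by
      rw [← QuotientGroup.out_eq' u, ← QuotientGroup.out_eq' w]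
      exact (QuotientGroup.eq.2 hmem).symm
    subst huw
    exact Prod.ext rfl (Subtype.ext (Subtype.ext (by simpa using h)))
  have hf : Function.Injective f := by
    rintro (p | p) (q | q) h <;> have e := congrArg Subtype.val h <;> simp only [f, Sum.elim_inl, Sum.elim_inr] at e
    · rw [hone A hTA p q e]
    · refine absurd ?_ (hAB (q.1.out⁻¹ * p.1.out) _ p.2.1.2 fun h => p.2.2 (Subtype.ext h))
      rw [show q.1.out⁻¹ * p.1.out * p.2.1.1 * (q.1.out⁻¹ * p.1.out)⁻¹ =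
        q.1.out⁻¹ * (p.1.out * p.2.1.1 * p.1.out⁻¹) * q.1.out by group, e]
      simp [mul_assoc]
    · refine absurd ?_ (hAB (p.1.out⁻¹ * q.1.out) _ q.2.1.2 fun h => q.2.2 (Subtype.ext h))
      rw [show p.1.out⁻¹ * q.1.out * q.2.1.1 * (p.1.out⁻¹ * q.1.out)⁻¹ =
        p.1.out⁻¹ * (q.1.out * q.2.1.1 * q.1.out⁻¹) * p.1.out by group, ← e]
      simp [mul_assoc]
    · rw [hone B hTB p q e]
  have hcard : ∀ (C : Subgroup G), 3 ≤ Nat.card C →
      2 * Nat.card G ≤ 3 * Nat.card ((G ⧸ C) × {x : C // x ≠ 1}) := by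
    intro C hC
    have h1 : Nat.card {x : C // x ≠ 1} = Nat.card C - 1 := by
      rw [Nat.card_eq_fintype_card, Fintype.card_subtype_compl, Fintype.card_subtype_eq, Nat.card_eq_fintype_card]
    rw [Nat.card_prod, h1, ← C.index_eq_card, ← C.card_mul_index]
    have : 2 * Nat.card C ≤ 3 * (Nat.card C - 1) := by omega
    nlinarith
  have h := Nat.card_le_card_of_injective f hf
  rw [Nat.card_sum] at h
  have h1 : Nat.card {g : G // g ≠ 1} = Nat.card G - 1 := by
    rw [Nat.card_eq_fintype_card, Fintype.card_subtype_compl, Fintype.card_subtype_eq, Nat.card_eq_fintype_card]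
  have := hcard A hA
  have := hcard B hB
  have := Nat.card_pos (α := G)
  omega

end Cfsg.Agent.H58.CSixPlus

namespace Cfsg.Agent.H58.CSixPlus

variable {G : Type*} [Group G] [Finite G]

/-- A 2-group centralises, up to a central subgroup, an almost involution of the group it normalises. -/
theorem almost_central (S P Z : Subgroup G) (hPS : ∀ p ∈ P, ∀ y ∈ S, p * y * p⁻¹ ∈ S)
    (hZ : ∀ z ∈ Z, ∀ y ∈ S ⊔ P, z * y = y * z) (hP : IsPGroup 2 P) {x : G} (hx : x ∈ S) (hxZ : x ∉ Z)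
    (hxx : x * x ∈ Z) : ∃ y ∈ S, y ∉ Z ∧ ∀ p ∈ P, p * y * p⁻¹ * y⁻¹ ∈ Z := by
  let T := S ⊔ P
  let K := Z.subgroupOf T
  have : K.Normal := ⟨fun n hn g => by
    rw [Subgroup.mem_subgroupOf] at hn ⊢
    rw [Subgroup.coe_mul, Subgroup.coe_mul, ← hZ n hn g g.2, Subgroup.coe_inv, mul_inv_cancel_right]
    exact hn⟩
  let π := QuotientGroup.mk' K
  have hS : S ≤ T := le_sup_left
  have hSn : (S.subgroupOf T).Normal := by
    refine ⟨fun n hn g => ?_⟩
    rw [Subgroup.mem_subgroupOf] at hn ⊢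
    have key : ∀ w ∈ T, ∀ y ∈ S, w * y * w⁻¹ ∈ S ∧ w⁻¹ * y * w ∈ S := by
      intro w hw
      change w ∈ S ⊔ P at hw
      rw [Subgroup.sup_eq_closure] at hw
      induction hw using Subgroup.closure_induction with
      | mem v hv =>
        rcases hv with hv | hv
        · exact fun y hy => ⟨S.mul_mem (S.mul_mem hv hy) (S.inv_mem hv), S.mul_mem (S.mul_mem (S.inv_mem hv) hy) hv⟩
        · exact fun y hy => ⟨hPS v hv y hy, by simpa using hPS v⁻¹ (P.inv_mem hv) y hy⟩
      | one => simp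
      | mul u v _ _ hu hv =>
        exact fun y hy => ⟨by simpa [mul_assoc] using (hu _ (hv y hy).1).1,
          by simpa [mul_assoc] using (hv _ (hu y hy).2).2⟩
      | inv u _ hu => exact fun y hy => ⟨by simpa using (hu y hy).2, by simpa using (hu y hy).1⟩
    simpa using (key g g.2 n hn).1
  have : ((S.subgroupOf T).map π).Normal := hSn.map π (QuotientGroup.mk'_surjective K)
  have hP' : IsPGroup 2 ((P.subgroupOf T).map π) :=
    (hP.of_equiv (Subgroup.subgroupOfEquivOfLe (le_sup_right : P ≤ T)).symm).map π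
  have h1 : π ⟨x, hS hx⟩ ≠ 1 := fun h => hxZ (Subgroup.mem_subgroupOf.1 ((QuotientGroup.eq_one_iff _).1 h))
  obtain ⟨t, ht, ht1, -, htP⟩ := exists_central_invol ((S.subgroupOf T).map π) ((P.subgroupOf T).map π) hP'
    (x := π ⟨x, hS hx⟩) ⟨_, hx, rfl⟩ h1 (by
      rw [← map_mul]; exact (QuotientGroup.eq_one_iff _).2 (Subgroup.mem_subgroupOf.2 hxx))
  obtain ⟨⟨y, hyT⟩, hy, rfl⟩ := ht
  refine ⟨y, hy, fun h => ht1 ((QuotientGroup.eq_one_iff _).2 (Subgroup.mem_subgroupOf.2 h)), fun p hp => ?_⟩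
  have hpT : p ∈ T := (le_sup_right : P ≤ T) hp
  have e := htP (π ⟨p, hpT⟩) ⟨⟨p, hpT⟩, hp, rfl⟩
  have e' : π (⟨p, hpT⟩ * ⟨y, hyT⟩ * ⟨p, hpT⟩⁻¹ * ⟨y, hyT⟩⁻¹) = 1 := by
    rw [map_mul, map_mul, map_mul, map_inv, map_inv, e]; group
  exact Subgroup.mem_subgroupOf.1 ((QuotientGroup.eq_one_iff _).1 e')

/-- A four-group acting on a group of odd order modulo central signs fixes an element exactly. -/
theorem almost_fixed (S Z : Subgroup G) {a b : G} (hab : a * b = b * a) (ha : a * a = 1) (hb : b * b = 1)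
    (hSa : ∀ y ∈ S, a * y * a ∈ S) (hSb : ∀ y ∈ S, b * y * b ∈ S)
    (hZ : ∀ z ∈ Z, ∀ y ∈ S, z * y = y * z) (hZa : ∀ z ∈ Z, z * a = a * z) (hZb : ∀ z ∈ Z, z * b = b * z)
    (hZ2 : ∀ z ∈ Z, z * z = 1) (hodd : ∀ y ∈ S, y * y ∈ Z → y ∈ Z) {x : G} (hx : x ∈ S) (hxZ : x ∉ Z) :
    ∃ y ∈ S, y ∉ Z ∧ (a * y = y * a ∨ b * y = y * b ∨ a * b * y = y * (a * b)) := by
  classical
  by_contra hno
  push Not at hno
  have inv : ∀ {u : G}, u * u = 1 → (∀ y ∈ S, u * y * u ∈ S) → (∀ z ∈ Z, z * u = u * z) →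
      (∀ y ∈ S, y ∉ Z → u * y ≠ y * u) → ∀ y ∈ S, ∃ z ∈ Z, u * y * u = z * y⁻¹ := by
    intro u hu hS hZu hfree y hy
    have hui : u⁻¹ = u := inv_eq_of_mul_eq_one_right hu
    let K := Z.subgroupOf S
    have : K.Normal := ⟨fun n hn g => by
      rw [Subgroup.mem_subgroupOf] at hn ⊢
      rw [Subgroup.coe_mul, Subgroup.coe_mul, ← hZ n hn g g.2, Subgroup.coe_inv, mul_inv_cancel_right]
      exact hn⟩
    let π := QuotientGroup.mk' K
    let cj : S →* S :=
      { toFun := fun z => ⟨u * z.1 * u, hS _ z.2⟩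
        map_one' := Subtype.ext (by simp [hu])
        map_mul' := fun z w => Subtype.ext (by
          show u * (z.1 * w.1) * u = u * z.1 * u * (u * w.1 * u)
          rw [show u * z.1 * u * (u * w.1 * u) = u * z.1 * (u * u) * w.1 * u by group, hu, mul_one]; group) }
    have hK : K ≤ (π.comp cj).ker := fun n hn => (QuotientGroup.eq_one_iff _).2 (by
      rw [Subgroup.mem_subgroupOf] at hn ⊢
      show u * n.1 * u ∈ Z
      rw [← hZu n hn, mul_assoc, hu, mul_one]; exact hn)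
    let φ := QuotientGroup.lift K (π.comp cj) hK
    have hinvol : ∀ q, φ (φ q) = q := by
      intro q
      obtain ⟨w, rfl⟩ := QuotientGroup.mk'_surjective K q
      show π (cj (cj w)) = π w
      congr 1
      exact Subtype.ext (show u * (u * w.1 * u) * u = w.1 by
        rw [show u * (u * w.1 * u) * u = u * u * w.1 * (u * u) by group, hu, one_mul, mul_one])
    have hfpf : MonoidHom.FixedPointFree φ := by
      intro q hq
      obtain ⟨w, rfl⟩ := QuotientGroup.mk'_surjective K q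
      have e : π (cj w) = π w := hq
      obtain ⟨z, hzK, hz⟩ : ∃ z ∈ K, cj w = w * z := ⟨_, QuotientGroup.eq.1 e.symm, (mul_inv_cancel_left w _).symm⟩
      rw [Subgroup.mem_subgroupOf] at hzK
      have e1 : u * w.1 * u = w.1 * z.1 := congrArg Subtype.val hz
      by_contra hne
      have hwZ : w.1 ∉ Z := fun h => hne ((QuotientGroup.eq_one_iff _).2 (Subgroup.mem_subgroupOf.2 h))
      refine hfree (w.1 * w.1) (S.mul_mem w.2 w.2) (fun h => hwZ (hodd _ w.2 h)) ?_
      have e2 : u * (w.1 * w.1) * u = w.1 * w.1 := by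
        rw [show u * (w.1 * w.1) * u = u * w.1 * 1 * w.1 * u by group, ← hu,
          show u * w.1 * (u * u) * w.1 * u = (u * w.1 * u) * (u * w.1 * u) by group, e1,
          show w.1 * z.1 * (w.1 * z.1) = w.1 * (z.1 * w.1) * z.1 by group, hZ _ hzK _ w.2,
          show w.1 * (w.1 * z.1) * z.1 = w.1 * w.1 * (z.1 * z.1) by group, hZ2 _ hzK, mul_one]
      conv_rhs => rw [← e2]
      rw [mul_assoc (u * (w.1 * w.1)) u u, hu, mul_one]
    have hI := congrFun (hfpf.coe_eq_inv_of_involutive hinvol) (π ⟨y, hy⟩)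
    obtain ⟨z, hzK, hz⟩ : ∃ z ∈ K, cj ⟨y, hy⟩ = ⟨y, hy⟩⁻¹ * z :=
      ⟨_, QuotientGroup.eq.1 (show π (⟨y, hy⟩⁻¹) = π (cj ⟨y, hy⟩) by rw [map_inv]; exact hI.symm),
        (mul_inv_cancel_left _ _).symm⟩
    rw [Subgroup.mem_subgroupOf] at hzK
    refine ⟨z, hzK, ?_⟩
    rw [hZ _ hzK _ (S.inv_mem hy)]
    exact congrArg Subtype.val hz
  obtain ⟨z, hz, ez⟩ := inv hb hSb hZb (fun y hy hyZ => (hno y hy hyZ).2.1) x hx
  obtain ⟨z', hz', ez'⟩ := inv ha hSa hZa (fun y hy hyZ => (hno y hy hyZ).1) x⁻¹ (S.inv_mem hx)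
  rw [inv_inv] at ez'
  have hxxZ : x * x ∉ Z := fun h => hxZ (hodd _ hx h)
  refine (hno (x * x) (S.mul_mem hx hx) hxxZ).2.2 ?_
  have e : a * b * x * (a * b) = z * z' * x := by
    calc a * b * x * (a * b) = a * (b * x * b) * (b⁻¹ * a) * b := by group
      _ = a * (b * x * b) * (a * b) * b := by rw [inv_eq_of_mul_eq_one_right hb, hab]
      _ = a * (b * x * b) * a * (b * b) := by group
      _ = a * (z * x⁻¹) * a := by rw [ez, hb, mul_one]
      _ = z * (a * x⁻¹ * a) := by rw [← mul_assoc, ← hZa z hz]; group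
      _ = z * z' * x := by rw [ez', mul_assoc]
  have hab2 : a * b * (a * b) = 1 := by
    calc a * b * (a * b) = a * (b * b) * a := by nth_rw 2 [hab]; group
      _ = 1 := by rw [hb, mul_one, ha]
  have e2 : a * b * (x * x) * (a * b) = x * x := by
    calc a * b * (x * x) * (a * b) = a * b * x * (a * b * (a * b)) * x * (a * b) := by rw [hab2]; group
      _ = (a * b * x * (a * b)) * (a * b * x * (a * b)) := by group
      _ = z * z' * x * (z * z' * x) := by rw [e]
      _ = z * z' * (z * z') * (x * x) := by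
        rw [mul_assoc (z * z') x, ← mul_assoc x (z * z') x, ← hZ _ (Z.mul_mem hz hz') x hx]; group
      _ = x * x := by rw [hZ2 _ (Z.mul_mem hz hz'), one_mul]
  conv_rhs => rw [← e2]
  rw [mul_assoc (a * b * (x * x)), hab2, mul_one]

end Cfsg.Agent.H58.CSixPlus
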