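import Cfsg.Agent.H58.CSixPlus.Sim
import Cfsg.Agent.H58.CSixPlus.GroupAux

/-!
The part of an overgroup supported on a coordinate block: almost involutions are controlled Pauli operators,
and otherwise an element commutes with a sign change inside the block.
-/

set_option autoImplicit false
set_option linter.unusedSectionVars false

namespace Cfsg.Agent.H58.CSixPlus

open QuadraticMap Module Cfsg.Agent.Orthogonal
open Cfsg.Agent.H97.Frame (ONB)
open Cfsg.Agent.H12.CSix (bsign bsign_zero bsign_one bsign_add bsign_sq bsign_ne bit_cases)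
open Matrix

variable {F V : Type*} [Field F] [Fintype F] [AddCommGroup V] [Module F V] {k : ℕ}
variable {Q : QuadraticForm F V} {e : Pts k → V} {c : F}

namespace Coord

open Bit

variable (H : ONB Q e c)
include H

theorem finiteO : Finite (O Q) := by
  have hfd := H.finite
  have : Finite V := Module.finite_of_finite F
  exact Finite.of_injective (fun g : O Q => fun x => (g : V ≃ₗ[F] V) x) fun a b h => O.ext_app fun x => congrFun h x

theorem blkG_co {J : Finset (Fin k)} {x : O Q} (hx : x ∈ blkG H J) {s t : Pts k} (hs : chi J s = 1)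
    (ht : chi J t = 0) : H.co t ((x : V ≃ₗ[F] V) (e s)) = 0 := by
  unfold ONB.co
  conv_lhs => rw [← blkG_fix H hx ht]
  rw [H.dot_app]
  exact H.co_ne fun e1 => by rw [e1, hs] at ht; exact one_ne_zero ht

theorem Dsg_sq (J : Finset (Fin k)) : Dsg H J * Dsg H J = 1 := by
  rw [Dsg, cP_mul H 0 0 (off_zero J) (off_zero J), zero_dotProduct, add_zero, add_zero,
    show (1 : ZMod 2) + 1 = 0 by decide, cP_zero]

theorem co_Dsg (J : Finset (Fin k)) (t : Pts k) (v : V) :
    H.co t ((Dsg H J : V ≃ₗ[F] V) v) = (bsign (chi J t) : F) * H.co t v := by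
  have e1 := H.dot_app (Dsg H J) (e t) v
  rw [Dsg_app, H.dot_smul_left] at e1
  unfold ONB.co
  rw [← e1, ← mul_assoc, bsign_sq, one_mul]

theorem blkG_comm {J : Finset (Fin k)} {x : O Q} (hx : x ∈ blkG H J) : x * Dsg H J = Dsg H J * x :=
  H.ext_e fun s => by
  rw [Subgroup.coe_mul, mul_app, Subgroup.coe_mul, mul_app, Dsg_app, map_smul]
  rcases bit_cases (chi J s) with h | h
  · rw [blkG_fix H hx h, Dsg_app, h, bsign_zero, one_smul]
  · refine H.ext_co fun t => ?_
    rw [H.co_smul, co_Dsg, h]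
    rcases bit_cases (chi J t) with h' | h'
    · rw [blkG_co H hx h h', mul_zero, mul_zero]
    · rw [h']

/-- The signs of the block. -/
noncomputable def scl (J : Finset (Fin k)) : Subgroup (O Q) where
  carrier := {g | g = 1 ∨ g = Dsg H J}
  one_mem' := .inl rfl
  mul_mem' := by
    rintro a b (rfl | rfl) (rfl | rfl)
    exacts [.inl (one_mul 1), .inr (one_mul _), .inr (mul_one _), .inl (Dsg_sq H J)]
  inv_mem' := by
    rintro a (rfl | rfl)
    exacts [.inl inv_one, .inr (inv_eq_of_mul_eq_one_right (Dsg_sq H J))]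

theorem mem_scl {J : Finset (Fin k)} {g : O Q} : g ∈ scl H J ↔ g = 1 ∨ g = Dsg H J := Iff.rfl

theorem scl_sq {J : Finset (Fin k)} {z : O Q} (hz : z ∈ scl H J) : z * z = 1 := by
  rcases hz with rfl | rfl
  exacts [one_mul 1, Dsg_sq H J]

theorem scl_comm {J : Finset (Fin k)} {z y : O Q} (hz : z ∈ scl H J) (hy : y * Dsg H J = Dsg H J * y) :
    z * y = y * z := by
  rcases hz with rfl | rfl
  exacts [by rw [one_mul, mul_one], hy.symm]

theorem cP_Dsg {J : Finset (Fin k)} (u : Pts k) {v : Pts k} (hv : Off J v) (d : ZMod 2) :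
    cP H ∅ u v d * Dsg H J = Dsg H J * cP H ∅ u v d := by
  rw [Dsg, cP_comm_off H u 0 hv (off_zero J), show bb u v 0 0 = 0 by simp [bb], cP_zero, one_mul]

/-- The Pauli operators preserving the block. -/
def pauliOff (J : Finset (Fin k)) : Subgroup (O Q) where
  carrier := {g | ∃ a b d, Off J b ∧ g = cP H ∅ a b d}
  one_mem' := ⟨0, 0, 0, off_zero J, (cP_zero H ∅).symm⟩
  mul_mem' := by
    rintro _ _ ⟨a, b, d, hb, rfl⟩ ⟨a', b', d', hb', rfl⟩
    exact ⟨_, _, _, hb.add hb', cP_mul H a a' (off_empty b) (off_empty b') d d'⟩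
  inv_mem' := by
    rintro _ ⟨a, b, d, hb, rfl⟩
    exact ⟨_, _, _, hb, cP_inv H a (off_empty b) d⟩

theorem pauliOff_pgroup (J : Finset (Fin k)) : IsPGroup 2 (pauliOff H J) := by
  rintro ⟨g, a, b, d, -, rfl⟩
  refine ⟨2, Subtype.ext ?_⟩
  show cP H ∅ a b d ^ (2 ^ 2) = 1
  rw [show (2 : ℕ) ^ 2 = 2 * 2 by norm_num, pow_mul, pow_two, pow_two,
    cP_mul H a a (off_empty b) (off_empty b), cP_mul H _ _ (off_empty _) (off_empty _)]
  simp [vtwo, Bit.two, cP_zero]

variable {X : Subgroup (O Q)} (hX : Hyp H X)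

theorem pauliOff_conj {J : Finset (Fin k)} {p y : O Q} (hp : p ∈ pauliOff H J) (hy : y ∈ blkG H J) :
    p * y * p⁻¹ ∈ blkG H J := by
  obtain ⟨a, b, d, hb, rfl⟩ := hp
  exact blkG_conj H (cP_Dsg H a hb d) hy

/-- An element of the block commuting with the Pauli operators up to the block sign is one of them. -/
theorem eq_cP {J : Finset (Fin k)} {x : O Q} (hx : x ∈ blkG H J)
    (hc : ∀ p ∈ pauliOff H J, p * x * p⁻¹ * x⁻¹ ∈ scl H J) :
    ∃ a b d, Off J a ∧ Off J b ∧ x = cP H J a b d := by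
  classical
  have hex : ∀ a b, Off J b → ∃ δ, cP H ∅ a b 0 * x = cP H J 0 0 δ * x * cP H ∅ a b 0 := by
    intro a b hb
    have h := hc _ ⟨a, b, 0, hb, rfl⟩
    rcases h with h | h <;> rw [mul_inv_eq_iff_eq_mul, mul_inv_eq_iff_eq_mul] at h
    · exact ⟨0, by rw [h, cP_zero]⟩
    · exact ⟨1, h⟩
  choose δ hδ using hex
  set a0 : Pts k := fun l => if h : l ∈ J then 0 else δ 0 (Pi.single l 1) (off_single h)
  set b0 : Pts k := fun l => if h : l ∈ J then 0 else δ (Pi.single l 1) 0 (off_zero J)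
  have ha0 : Off J a0 := fun i hi => dif_pos hi
  have hb0 : Off J b0 := fun i hi => dif_pos hi
  set y := cP H J a0 b0 0 * x with hy
  have hyB : y ∈ blkG H J := mul_mem (cP_blk H a0 hb0 0) hx
  have hcomm : ∀ a b (hb : Off J b), δ a b hb = bb a b a0 b0 →
      cP H ∅ a b 0 * y = y * cP H ∅ a b 0 := by
    intro a b hb hd
    rw [hy, ← mul_assoc, cP_comm_off H a a0 hb hb0, mul_assoc (cP H J 0 0 _ * cP H J a0 b0 0) _ x, hδ a b hb, hd]
    set z := cP H J 0 0 (bb a b a0 b0)
    set Y := cP H J a0 b0 0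
    have hzY : z * Y = Y * z := by
      simp only [z, Y]
      rw [cP_mul H 0 a0 (off_zero J) hb0, cP_mul H a0 0 hb0 (off_zero J), zero_dotProduct, dotProduct_zero]
      simp [add_comm]
    have hzz : z * z = 1 := by
      simp only [z]
      rw [cP_mul H 0 0 (off_zero J) (off_zero J), zero_dotProduct, add_zero, Bit.two, add_zero, cP_zero]
    calc z * Y * (z * x * cP H ∅ a b 0) = z * Y * z * (x * cP H ∅ a b 0) := by group
      _ = Y * (z * z) * (x * cP H ∅ a b 0) := by rw [hzY, mul_assoc Y z z]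
      _ = Y * x * cP H ∅ a b 0 := by rw [hzz, mul_one, mul_assoc]
  have hZ : ∀ l ∉ J, cP H ∅ (Pi.single l 1) 0 0 * y = y * cP H ∅ (Pi.single l 1) 0 0 := fun l hl =>
    hcomm _ _ (off_zero J) (by simp [bb, b0, hl])
  have hX' : ∀ l ∉ J, cP H ∅ 0 (Pi.single l 1) 0 * y = y * cP H ∅ 0 (Pi.single l 1) 0 := fun l hl =>
    hcomm _ _ (off_single hl) (by simp [bb, a0, hl, dotProduct_comm])
  have hdiag : ∀ s, chi J s = 1 → ∃ t : F, (y : V ≃ₗ[F] V) (e s) = t • e s := by
    intro s hs
    refine ⟨H.co s ((y : V ≃ₗ[F] V) (e s)), H.ext_co fun t => ?_⟩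
    rw [H.co_smul]
    rcases eq_or_ne t s with rfl | hts
    · rw [H.co_self, mul_one]
    rw [H.co_ne hts, mul_zero]
    rcases bit_cases (chi J t) with ht | ht
    · exact blkG_co H hyB hs ht
    obtain ⟨l, hl⟩ := Function.ne_iff.1 hts
    have hlJ : l ∉ J := fun h => hl ((chi_eq_one.1 ht l h).trans (chi_eq_one.1 hs l h).symm)
    have hZe : ∀ r : Pts k, ((cP H ∅ (Pi.single l 1) 0 0 : O Q) : V ≃ₗ[F] V) (e r) = (bsign (r l) : F) • e r :=
      fun r => by rw [cP_app H _ (off_empty _)]; simp [chi_empty]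
    have e1 := H.dot_app (cP H ∅ (Pi.single l 1) 0 0) (e t) ((y : V ≃ₗ[F] V) (e s))
    rw [← mul_app _ (y : V ≃ₗ[F] V), ← Subgroup.coe_mul, hZ l hlJ, Subgroup.coe_mul, mul_app, hZe, hZe, map_smul,
      H.dot_smul_left, H.dot_smul_right] at e1
    have e2 : ((bsign (t l) : F) * bsign (s l) - 1) * H.co t ((y : V ≃ₗ[F] V) (e s)) = 0 := by
      unfold ONB.co; linear_combination e1
    refine (mul_eq_zero.1 e2).resolve_left fun h => hl (bsign_inj H.two ?_)
    calc (bsign (t l) : F) = bsign (t l) * (bsign (s l) * bsign (s l)) := by rw [bsign_sq, mul_one]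
      _ = bsign (s l) := by rw [← mul_assoc, sub_eq_zero.1 h, one_mul]
  choose lam hlam using hdiag
  have hconst : ∀ (m : ℕ) (s t : Pts k) (hs : chi J s = 1) (ht : chi J t = 1),
      (Finset.univ.filter fun l => s l ≠ t l).card = m → lam s hs = lam t ht := by
    intro m
    induction m with
    | zero =>
      intro s t hs ht h
      have : s = t := funext fun l => by_contra fun hne =>
        (Finset.notMem_empty l) (Finset.card_eq_zero.1 h ▸ Finset.mem_filter.2 ⟨Finset.mem_univ l, hne⟩)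
      subst this; rfl
    | succ m ih =>
      intro s t hs ht h
      obtain ⟨l, hl⟩ := Finset.card_pos.1 (show 0 < (Finset.univ.filter fun l => s l ≠ t l).card by omega)
      have hl' := (Finset.mem_filter.1 hl).2
      have hlJ : l ∉ J := fun hJ => hl' ((chi_eq_one.1 hs l hJ).trans (chi_eq_one.1 ht l hJ).symm)
      have hs' : chi J (s + Pi.single l 1) = 1 := by rw [chi_add (off_single hlJ), hs]
      have e1 := congrArg (fun g : O Q => (g : V ≃ₗ[F] V) (e s)) (hX' l hlJ)
      simp only [Subgroup.coe_mul, mul_app, cP_app H _ (off_empty _), hlam s hs, map_smul, chi_empty, zero_dotProduct,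
        add_zero, mul_zero, bsign_zero, one_smul, hlam _ hs'] at e1
      rw [smul_left_injective F (H.e_ne_zero _) e1]
      refine ih _ t hs' ht ?_
      have hval : s l + 1 = t l := by
        revert hl'; generalize s l = x, t l = z; revert x z; decide
      have : (Finset.univ.filter fun i => (s + Pi.single l 1 : Pts k) i ≠ t i) =
          (Finset.univ.filter fun i => s i ≠ t i).erase l := by
        ext i
        rcases eq_or_ne i l with rfl | hi
        · simp [hval]
        · simp [hi, Pi.single_eq_of_ne hi]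
      rw [this, Finset.card_erase_of_mem hl, h]; rfl
  set s0 : Pts k := fun _ => 1
  have hs0 : chi J s0 = 1 := chi_eq_one.2 fun _ _ => rfl
  have hsq : lam s0 hs0 = 1 ∨ lam s0 hs0 = -1 := by
    have h1 := H.dot_app y (e s0) (e s0)
    rw [hlam s0 hs0, H.dot_smul_left, H.dot_smul_right, H.dot_self_unit (H.val _), mul_one] at h1
    exact mul_self_eq_one_iff.1 h1
  obtain ⟨d, hd⟩ : ∃ d, y = cP H J 0 0 d := by
    refine ⟨if lam s0 hs0 = 1 then 0 else 1, H.ext_e fun s => ?_⟩
    rw [cP_app H 0 (off_zero J)]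
    rcases bit_cases (chi J s) with h | h
    · rw [blkG_fix H hyB h, h]; simp [bsign_zero]
    · rw [hlam s h, hconst _ s s0 h hs0 rfl, h, zero_dotProduct, zero_add, one_mul, smul_zero, add_zero]
      rcases hsq with e1 | e1
      · rw [e1, if_pos rfl, bsign_zero]
      · rw [e1, if_neg (fun h' => H.two (by linear_combination -h')), bsign_one]
  refine ⟨a0, b0, 0 + a0 ⬝ᵥ b0 + d + a0 ⬝ᵥ (0 : Pts k), ha0, hb0, ?_⟩
  have h1 : x = (cP H J a0 b0 0)⁻¹ * y := by rw [hy, inv_mul_cancel_left]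
  rw [h1, hd, cP_inv H a0 hb0, cP_mul H a0 0 hb0 (off_zero J), add_zero, add_zero]

/-- A label which is zero gives a sign. -/
theorem cP_scl (J : Finset (Fin k)) (d : ZMod 2) : cP H J 0 0 d ∈ scl H J := by
  rcases bit_cases d with rfl | rfl
  exacts [.inl (cP_zero H J), .inr rfl]

include hX

/-- An almost involution of the block gives a controlled Pauli operator. -/
theorem even_case {J : Finset (Fin k)} {x : O Q} (hx : x ∈ X) (hxB : x ∈ blkG H J) (hxZ : x ∉ scl H J)
    (hxx : x * x ∈ scl H J) :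
    ∃ a b d, Off J a ∧ Off J b ∧ (a ≠ 0 ∨ b ≠ 0) ∧ cP H J a b d ∈ X := by
  have := finiteO H
  obtain ⟨y, hy, hyZ, hyP⟩ := almost_central (X ⊓ blkG H J) (pauliOff H J) (scl H J)
    (fun p hp y hy => by
      refine ⟨?_, pauliOff_conj H hp hy.2⟩
      obtain ⟨a, b, d, -, rfl⟩ := hp
      exact X.mul_mem (X.mul_mem (cP_X H hX d) hy.1) (X.inv_mem (cP_X H hX d)))
    (fun z hz y hy => by
      refine scl_comm H hz ?_
      rw [Subgroup.sup_eq_closure] at hy
      induction hy using Subgroup.closure_induction with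
      | mem w hw =>
        rcases hw with hw | hw
        · exact blkG_comm H hw.2
        · obtain ⟨a, b, d, hb, rfl⟩ := hw; exact cP_Dsg H a hb d
      | one => rw [one_mul, mul_one]
      | mul u v _ _ hu hv => rw [mul_assoc, hv, ← mul_assoc, hu, mul_assoc]
      | inv u _ hu => exact ((show Commute u (Dsg H J) from hu).inv_left).eq)
    (pauliOff_pgroup H J) (x := x) ⟨hx, hxB⟩ hxZ hxx
  obtain ⟨a, b, d, ha, hb, rfl⟩ := eq_cP H hy.2 hyP
  refine ⟨a, b, d, ha, hb, ?_, hy.1⟩
  by_contra hno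
  rw [not_or, not_not, not_not] at hno
  obtain ⟨rfl, rfl⟩ := hno
  exact hyZ (cP_scl H J d)

/-- Otherwise an element of the block commutes with one of three sign changes. -/
theorem odd_case {J : Finset (Fin k)} {x : O Q} (hx : x ∈ X) (hxB : x ∈ blkG H J) (hxZ : x ∉ scl H J)
    (hodd : ∀ y ∈ X, y ∈ blkG H J → y * y ∈ scl H J → y ∈ scl H J) {l m : Fin k} (hlm : l ≠ m)
    (hl : l ∉ J) (hm : m ∉ J) :
    ∃ y ∈ X, y ∈ blkG H J ∧ y ∉ scl H J ∧ ∃ a, Off J a ∧ a ≠ 0 ∧
      cP H ∅ a 0 0 * y = y * cP H ∅ a 0 0 := by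
  have := finiteO H
  have hZ : ∀ a : Pts k, cP H ∅ a 0 0 * cP H ∅ a 0 0 = 1 := fun a => by
    rw [cP_mul H a a (off_empty _) (off_empty _), vtwo, vtwo, dotProduct_zero, add_zero, add_zero, cP_zero]
  have hconj : ∀ a : Pts k, ∀ y ∈ X ⊓ blkG H J, cP H ∅ a 0 0 * y * cP H ∅ a 0 0 ∈ X ⊓ blkG H J := fun a y hy => by
    refine ⟨X.mul_mem (X.mul_mem (cP_X H hX 0) hy.1) (cP_X H hX 0), ?_⟩
    have := blkG_conj H (cP_Dsg H a (off_zero J) 0) hy.2
    rwa [inv_eq_of_mul_eq_one_right (hZ a)] at this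
  have hmul : cP H ∅ (Pi.single l 1) 0 0 * cP H ∅ (Pi.single m 1) 0 0 =
      cP H ∅ (Pi.single l 1 + Pi.single m 1) 0 0 := by
    rw [cP_mul H _ _ (off_empty _) (off_empty _), dotProduct_zero, add_zero, add_zero, add_zero]
  obtain ⟨y, hy, hyZ, hyc⟩ := almost_fixed (X ⊓ blkG H J) (scl H J)
    (a := cP H ∅ (Pi.single l 1) 0 0) (b := cP H ∅ (Pi.single m 1) 0 0) (comm_cP H 0 0 (by simp [bb])) (hZ _) (hZ _)
    (hconj _) (hconj _) (fun z hz y hy => scl_comm H hz (blkG_comm H hy.2))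
    (fun z hz => scl_comm H hz (cP_Dsg H _ (off_zero J) 0)) (fun z hz => scl_comm H hz (cP_Dsg H _ (off_zero J) 0))
    (fun z hz => scl_sq H hz) (fun y hy h => hodd y hy.1 hy.2 h) (x := x) ⟨hx, hxB⟩ hxZ
  refine ⟨y, hy.1, hy.2, hyZ, ?_⟩
  rcases hyc with h | h | h
  · exact ⟨_, off_single hl, single_ne l, h⟩
  · exact ⟨_, off_single hm, single_ne m, h⟩
  · exact ⟨_, (off_single hl).add (off_single hm), pair_ne hlm, by rwa [hmul] at h⟩

end Coord

end Cfsg.Agent.H58.CSixPlus
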