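import Cfsg.Agent.H58.CSixPlus.Norm
import Cfsg.Agent.H57.CSix.Dihedral

/-!
An overgroup in which the centralisers of singular elements normalise is the normaliser.
-/

set_option autoImplicit false
set_option linter.unusedSectionVars false

namespace Cfsg.Agent.H58.CSixPlus

open Matrix Module
open Cfsg.Agent.H57.CSix (W z2_cases z2_self z2_ne_zero z2_ne_one vadd_self vadd_eq_zero vadd_cancel vadd_cancel'
  smul_cases mem_span_one mem_span_two finrank_span_two PM dihedral sg sg_zero sg_one sg_PM sg_add mul_sg sg_mul sg_sg bl BlOK)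

variable {ι : Type} [Fintype ι] [DecidableEq ι] {F : Type*} [Field F] [Fintype F]
variable {f : (ι → F) → (ι → F) → F} {M : Subgroup (GL ι F)} {k : ℕ}
variable {R R' : Subgroup (GL ι F)}

namespace QForm

variable {q : QForm k}

/-- The shape of the isometry of a non-totally-singular plane with singular vector c. -/
def PlaneShape (q : QForm k) (g : W k →ₗ[ZMod 2] W k) (c d : W k) : Prop :=
  q.Q c = 0 ∧ q.Q d = 1 ∧ q.B c d = 0 ∧ c ≠ 0 ∧
    (LinearMap.range (dif g) = Submodule.span (ZMod 2) {c, d}) ∧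
    ∀ x, dif g x = (q.B c x + q.B d x) • c + q.B c x • d

theorem PlaneShape.change {g : W k →ₗ[ZMod 2] W k} {c d : W k} (h : PlaneShape q g c d) :
    PlaneShape q g c (c + d) := by
  obtain ⟨h1, h2, h3, h4, h5, h6⟩ := h
  refine ⟨h1, by rw [q.Q_add_of_orth h3, h1, h2, zero_add], by rw [map_add, q.B_self, h3, add_zero], h4,
    h5.trans ?_, fun x => ?_⟩
  · refine le_antisymm ?_ ?_ <;> rw [Submodule.span_le] <;> rintro y (rfl | rfl) <;>
      simp only [SetLike.mem_coe, mem_span_two, vadd_cancel] <;> simp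
  · rw [h6 x, map_add, LinearMap.add_apply, smul_add, ← add_assoc, ← add_smul,
      show q.B c x + (q.B c x + q.B d x) + q.B c x = q.B c x + q.B d x by
        linear_combination z2_self (q.B c x)]

theorem PlaneShape.ne {g : W k →ₗ[ZMod 2] W k} {c d : W k} (h : PlaneShape q g c d) : d ≠ 0 ∧ c ≠ d :=
  ⟨fun e => zero_ne_one ((q.Q_zero.symm.trans (congrArg q.Q e.symm)).trans h.2.1),
    fun e => zero_ne_one (h.1.symm.trans ((congrArg q.Q e).trans h.2.1))⟩

theorem PlaneShape.finrank_range {g : W k →ₗ[ZMod 2] W k} {c d : W k} (h : PlaneShape q g c d) :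
    finrank (ZMod 2) (LinearMap.range (dif g)) = 2 := by
  rw [h.2.2.2.2.1]; exact finrank_span_two h.2.2.2.1 h.ne.1 h.ne.2

theorem PlaneShape.adapt {g : W k →ₗ[ZMod 2] W k} {c d m : W k} (h : PlaneShape q g c d)
    (hm : m ∈ LinearMap.range (dif g)) (hmQ : q.Q m = 1) : PlaneShape q g c m := by
  rw [h.2.2.2.2.1, mem_span_two] at hm
  rcases hm with rfl | rfl | rfl | rfl
  · rw [q.Q_zero] at hmQ; exact absurd hmQ zero_ne_one
  · rw [h.1] at hmQ; exact absurd hmQ zero_ne_one
  · exact h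
  · exact h.change

end QForm

/-- A range of dimension one is spanned by a non-singular vector. -/
theorem QForm.Iso.range_one {q : QForm k} {g : W k →ₗ[ZMod 2] W k} (h : q.Invol g)
    (h1 : finrank (ZMod 2) (LinearMap.range (QForm.dif g)) = 1) :
    ∃ u, q.Q u = 1 ∧ u ≠ 0 ∧ ∀ x, QForm.dif g x = q.B u x • u := by
  obtain ⟨⟨u, hu⟩, hu0, hall⟩ := finrank_eq_one_iff'.1 h1
  have hu0' : u ≠ 0 := fun e => hu0 (Subtype.ext e)
  have hrange : ∀ x, QForm.dif g x = 0 ∨ QForm.dif g x = u := fun x => by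
    obtain ⟨c, hc⟩ := hall ⟨_, ⟨x, rfl⟩⟩
    rw [← show c • u = QForm.dif g x from congrArg Subtype.val hc]
    exact smul_cases c u
  have hker : ∀ x, QForm.dif g x = 0 ↔ q.B u x = 0 := by
    intro x
    rw [← LinearMap.mem_ker, h.ker_eq, q.mem_orth]
    refine ⟨fun hh => hh u hu, ?_⟩
    rintro hh _ ⟨y, rfl⟩
    rcases hrange y with e | e <;> simp [e, hh]
  have hdef : ∀ x, QForm.dif g x = q.B u x • u := fun x => by
    rcases z2_cases (q.B u x) with e | e
    · rw [e, zero_smul]; exact (hker x).2 e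
    · rw [e, one_smul]; exact (hrange x).resolve_left fun e' => by
        rw [(hker x).1 e'] at e; exact zero_ne_one e
  refine ⟨u, ?_, hu0', hdef⟩
  obtain ⟨y, hy⟩ := q.exists_B_one hu0'
  have := h.iso.Q_dif y
  rwa [hdef, hy, one_smul, q.B_symm, hy] at this

namespace Over

variable {fr : Frame k R} {fr' : Frame k R'}

/-- A conjugate of a singular element in the normaliser lies in the group. -/
theorem conj_mem {R'' : Subgroup (GL ι F)} {fr'' : Frame k R''} (h : Over f M fr) (h'' : Over f M fr'') {v : W k}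
    (hv0 : v ≠ 0) (hvQ : fr''.q.Q v = 0) {g : GL ι F} (hg : g ∈ M) (hN : g * fr''.cl v * g⁻¹ ∈ Frame.N R) :
    g * fr''.cl v * g⁻¹ ∈ R := by
  by_contra hno
  refine no_singular_norm (fr' := fr''.conj g) h (h''.conj hg) (fun e => hno ?_) hv0 hvQ hN
  rw [e]
  exact ⟨_, fr''.cl_mem v, rfl⟩

/-- A singular element of one frame and a singular element of the other orthogonal to the common part are
conjugate by an element commuting with their common centraliser. -/
theorem conj_singular (h : Over f M fr) (h' : Over f M fr') (hne : R ≠ R') {z v : W k} (hz0 : z ≠ 0)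
    (hzQ : fr.q.Q z = 0) (hv0 : v ≠ 0) (hvQ : fr'.q.Q v = 0)
    (hvD : ∀ d, fr'.cl d ∈ R → fr'.q.B d v = 0) :
    ∃ c ∈ M, PM (c * fr.cl z * c⁻¹) (fr'.cl v) ∧ ∀ e, PM (e * fr.cl z) (fr.cl z * e) →
      PM (e * fr'.cl v) (fr'.cl v * e) → PM (e * c) (c * e) := by
  rcases dihedral (h.cl_mem z) (h'.cl_mem v) (fr.cl_sq_zero hzQ) (fr'.cl_sq_zero hvQ) with h1 | h1
  · exact h1
  exfalso
  obtain ⟨w, hwM, hw1, -, hwZ, hwY, -, hcases⟩ := h1
  have hwN : w ∈ Frame.N R := h.cent z w hz0 hzQ hwM hwZ.symm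
  have hwN' : w ∈ Frame.N R' := h'.cent v w hv0 hvQ hwM hwY.symm
  have hZw := (Frame.N R).mul_mem (fr.cl_mem_N z) hwN
  have hYw := (Frame.N R').mul_mem (fr'.cl_mem_N v) hwN'
  have main : fr.cl z * w ∈ R ∧ fr'.cl v * w ∈ R' ∧ fr'.cl v * w * (fr'.cl v * w) = 1 := by
    have hsq : ∀ (g X : GL ι F), X * X = 1 → g * X * g⁻¹ * (g * X * g⁻¹) = 1 := fun g X e => by
      rw [show g * X * g⁻¹ * (g * X * g⁻¹) = g * (X * X) * g⁻¹ by group, e, mul_one, mul_inv_cancel]
    rcases hcases with ⟨⟨g, hg, e⟩, g', hg', e'⟩ | ⟨⟨g, hg, e⟩, g', hg', e'⟩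
    · exact ⟨e ▸ h.conj_mem h hz0 hzQ hg (e ▸ hZw), e' ▸ h'.conj_mem h' hv0 hvQ hg' (e' ▸ hYw),
        e' ▸ hsq _ _ (fr'.cl_sq_zero hvQ)⟩
    · exact ⟨e ▸ h.conj_mem h' hv0 hvQ hg (e ▸ hZw), e' ▸ h'.conj_mem h hz0 hzQ hg' (e' ▸ hYw),
        e' ▸ hsq _ _ (fr.cl_sq_zero hzQ)⟩
  obtain ⟨hwR, hwR', hsq⟩ := main
  have hwR0 : w ∈ R := by simpa using R.mul_mem (R.inv_mem (fr.cl_mem z)) hwR
  have hwR1 : w ∈ R' := by simpa using R'.mul_mem (R'.inv_mem (fr'.cl_mem v)) hwR'
  obtain ⟨d, hd⟩ := fr'.surj w hwR1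
  have hd0 : d ≠ 0 := fun e => hw1 (hd.trans (PM.of_eq (by rw [e, fr'.cl_zero])))
  have hdR : fr'.cl d ∈ R := hd.symm.mem fr.neg_mem hwR0
  have hQd := common_anisotropic h' h hne.symm hdR hd0
  have hQ := fr'.Q_of_invol ((hd.mul_left (fr'.cl v)).trans (fr'.cl_mul v d)) hsq
  rw [fr'.q.Q_add, hvQ, hQd, fr'.q.B_symm, hvD d hdR] at hQ
  simp at hQ

/-- The orthogonal of the common part. -/
def comOrth (fr : Frame k R) (fr' : Frame k R') : Submodule (ZMod 2) (W k) :=
  fr'.q.orth (fr'.pre R fr.neg_mem)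

theorem finrank_comOrth (h : Over f M fr) (h' : Over f M fr') (hne : R ≠ R') :
    2 * k ≤ finrank (ZMod 2) (comOrth fr fr') + 2 := by
  have h1 := fr'.q.finrank_orth (fr'.pre R fr.neg_mem)
  have h2 : finrank (ZMod 2) (fr'.pre R fr.neg_mem) ≤ 2 := by
    by_contra hgt
    obtain ⟨d, hd, hd0, hdQ⟩ := fr'.q.exists_singular (U := fr'.pre R fr.neg_mem) (by omega)
    exact zero_ne_one (hdQ.symm.trans (common_anisotropic h' h hne.symm hd hd0))
  unfold comOrth
  omega

theorem comOrth_invariant (g : GL ι F) (hg : g ∈ Frame.N R) (hg' : g ∈ Frame.N R') {x : W k}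
    (hx : x ∈ comOrth fr fr') : fr'.act g x ∈ comOrth fr fr' := by
  refine fr'.q.mem_orth.2 fun d hd => ?_
  have hpre : fr'.act g⁻¹ d ∈ fr'.pre R fr.neg_mem :=
    (fr'.act_spec ((Frame.N R').inv_mem hg') d).symm.mem fr.neg_mem
      ((Subgroup.mem_normalizer_iff.1 ((Frame.N R).inv_mem hg) _).1 hd)
  rw [← (fr'.act_iso g⁻¹).B_map, fr'.act_inv hg']
  exact fr'.q.mem_orth.1 hx _ hpre

/-- A singular vector orthogonal to the common part whose element commutes with a given involution. -/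
theorem exists_companion (h : Over f M fr) (h' : Over f M fr') (hne : R ≠ R') {e : GL ι F}
    (he : e ∈ Frame.N R) (he' : e ∈ Frame.N R') (hee : PM (e * e) 1) :
    ∃ v, v ≠ 0 ∧ fr'.q.Q v = 0 ∧ (∀ d, fr'.cl d ∈ R → fr'.q.B d v = 0) ∧ PM (e * fr'.cl v) (fr'.cl v * e) := by
  have h3 := h.four
  have h4 := finrank_comOrth h h' hne
  obtain ⟨v, hv, hv0, hvQ, hvfix⟩ := (fr'.invol_of_pm he' hee).exists_fixed_singular
    (U := comOrth fr fr') (fun x hx => comOrth_invariant e he he' hx) (by omega)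
  exact ⟨v, hv0, hvQ, fun d hd => fr'.q.mem_orth.1 hv d hd, (fr'.act_fix_iff he').1 hvfix⟩

/-- An element normalising both frames and squaring to a sign has a restricted range. -/
theorem range_allowed (h : Over f M fr) (h' : Over f M fr') (hne : R ≠ R') {e : GL ι F}
    (he : e ∈ Frame.N R) (he' : e ∈ Frame.N R') (hee : PM (e * e) 1)
    (h2 : 2 ≤ finrank (ZMod 2) (LinearMap.range (fr.phi e))) :
    finrank (ZMod 2) (LinearMap.range (fr.phi e)) = k ∧
      (Even k → fr.q.Singular (LinearMap.range (fr.phi e))) := by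
  have hi := fr.invol_of_pm he hee
  set I := LinearMap.range (fr.phi e) with hI
  have hIi : fr.q.Isotropic I := hi.isotropic
  -- the centraliser of the element moves each singular vector of the range to each fixed one
  have key : ∀ y z, y ∈ I → y ≠ 0 → fr.q.Q y = 0 → z ≠ 0 → fr.act e z = z → fr.q.Q z = 0 →
      ∃ g, g ∈ Frame.N R ∧ fr.act g y = z ∧ ∀ x, fr.phi e (fr.act g x) = fr.act g (fr.phi e x) := by
    intro y z hy hy0 hyQ hz0 hz hzQ
    obtain ⟨v, hv0, hvQ, hvD, hev⟩ := exists_companion h h' hne he he' hee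
    obtain ⟨c1, hc1, hc1', hc1e⟩ := conj_singular h h' hne hy0 hyQ hv0 hvQ hvD
    obtain ⟨c2, hc2, hc2', hc2e⟩ := conj_singular h h' hne hz0 hzQ hv0 hvQ hvD
    have hye : PM (e * fr.cl y) (fr.cl y * e) := (fr.mem_ker_iff he).1 (hi.range_le_ker hy)
    have hze : PM (e * fr.cl z) (fr.cl z * e) := (fr.act_fix_iff he).1 hz
    set g := c2⁻¹ * c1 with hg
    have hgM : g ∈ M := M.mul_mem (M.inv_mem hc2) hc1
    have hge : PM (e * g) (g * e) := (hc2e e hze hev).comm_inv.comm_mul (hc1e e hye hev)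
    have hconj : PM (g * fr.cl y * g⁻¹) (fr.cl z) := by
      have := (hc1'.trans hc2'.symm).conj c2⁻¹
      rw [hg]; convert this using 1 <;> group
    have hgN : g ∈ Frame.N R := h.fusion hgM hy0 hyQ hconj
    refine ⟨g, hgN, fr.act_eq hgN hconj, fun x => ?_⟩
    rw [QForm.dif_apply, QForm.dif_apply, map_add, ← fr.act_mul he hgN,
      fr.act_pm hge ((Frame.N R).mul_mem he hgN) ((Frame.N R).mul_mem hgN he), fr.act_mul hgN he]
  obtain ⟨y, hy, hy0, hyQ⟩ := hIi.exists_singular h2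
  have hk : finrank (ZMod 2) I = k := by
    by_contra hne'
    obtain ⟨z, hz, hzQ, hzI⟩ := hIi.exists_singular_outside (lt_of_le_of_ne hIi.finrank_le hne')
    have hz' : fr.act e z = z := QForm.mem_ker_dif.1 (by rw [hi.ker_eq]; exact hz)
    obtain ⟨g, -, hgy, hgc⟩ := key y z hy hy0 hyQ (fun e => hzI (e ▸ I.zero_mem)) hz' hzQ
    obtain ⟨x, rfl⟩ := hy
    exact hzI ⟨fr.act g x, (hgc x).trans hgy⟩
  refine ⟨hk, fun hev => ?_⟩
  -- otherwise the image of the diagonal vector is fixed by this centraliser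
  by_contra hns
  obtain ⟨c, hc⟩ := fr.q.exists_diag hIi
  have hker : LinearMap.ker (fr.phi e) = I := by
    refine (Submodule.eq_of_le_of_finrank_le hi.range_le_ker ?_).symm
    have := hi.finrank_ker
    simp only [Frame.phi] at hI
    rw [← hI] at this
    show finrank (ZMod 2) (LinearMap.ker (QForm.dif (fr.act e))) ≤ finrank (ZMod 2) I
    omega
  set i0 := fr.phi e c with hi0
  have hi0I : i0 ∈ I := ⟨c, rfl⟩
  have hi00 : i0 ≠ 0 := fun h0 => hns fun i hi' => by
    rw [← hc i hi']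
    exact hIi c (hker ▸ LinearMap.mem_ker.2 h0) i hi'
  have hi0Q : fr.q.Q i0 = 0 := by
    have e1 : fr.q.Q i0 = fr.q.B c i0 := (fr.act_iso e).Q_dif c
    rw [e1, hi0, hi.diag_value hc, ← hI, hk]
    obtain ⟨m, rfl⟩ := hev
    push_cast
    exact z2_self _
  have hmem : i0 ∈ LinearMap.ker (fr.phi e) := by rw [hker]; exact hi0I
  obtain ⟨C, hC⟩ := Submodule.exists_isCompl (Submodule.comap I.subtype (Submodule.span (ZMod 2) {i0}))
  have hdim := Submodule.finrank_add_eq_of_isCompl hC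
  have hle : Submodule.span (ZMod 2) ({i0} : Set (W k)) ≤ I := by rwa [Submodule.span_singleton_le_iff_mem]
  rw [(Submodule.comapSubtypeEquivOfLe hle).finrank_eq, finrank_span_singleton (K := ZMod 2) hi00] at hdim
  have h4 := h.four
  obtain ⟨z, hz, hz0, hzQ⟩ := fr.q.exists_singular (U := C.map I.subtype) (by
    rw [Submodule.finrank_map_subtype_eq]; omega)
  obtain ⟨z', hz', rfl⟩ := hz
  obtain ⟨g, hgN, hgy, hgc⟩ := key i0 (I.subtype z') hi0I hi00 hi0Q hz0
    (QForm.mem_ker_dif.1 (show I.subtype z' ∈ LinearMap.ker (fr.phi e) by rw [hker]; exact z'.2)) hzQ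
  have hfix : fr.act g i0 = i0 := by
    rw [hi0, ← hgc]
    refine vadd_eq_zero ?_
    rw [← map_add]
    refine LinearMap.mem_ker.1 (?_ : fr.act g c + c ∈ LinearMap.ker (fr.phi e))
    rw [show fr.phi e = QForm.dif (fr.act e) from rfl, hi.ker_eq, fr.q.mem_orth]
    rintro _ ⟨x, rfl⟩
    have e2 : fr.phi e x = fr.act g (fr.phi e (fr.act g⁻¹ x)) := by
      rw [← hgc]
      congr 1
      rw [← fr.act_mul hgN ((Frame.N R).inv_mem hgN), mul_inv_cancel, fr.act_one]
    have hci : fr.q.B (fr.act g c) (fr.phi e x) = fr.q.Q (fr.phi e x) := by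
      rw [e2, (fr.act_iso g).B_map, hc _ ⟨_, rfl⟩, fr.act_iso g]
    show fr.q.B (fr.phi e x) (fr.act g c + c) = 0
    rw [map_add, fr.q.B_symm _ (fr.act g c), fr.q.B_symm _ c, hci, hc _ ⟨_, rfl⟩, z2_self]
  have hzi : z' = ⟨i0, hi0I⟩ := Subtype.ext (hgy.symm.trans hfix)
  have h0 := Submodule.disjoint_def.1 hC.disjoint z'
    (show I.subtype z' ∈ Submodule.span (ZMod 2) ({i0} : Set (W k)) by
      rw [hzi]; exact Submodule.mem_span_singleton_self _) hz'
  exact hz0 (by rw [h0, map_zero])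

/-- An overgroup in which singular centralisers normalise lies in the normaliser. -/
theorem le_normalizer (h : Over f M fr) : M ≤ Frame.N R := by
  intro g0 hg0
  by_contra hgN0
  have hconjeq : ∀ {g : GL ι F}, R.map (MulAut.conj g).toMonoidHom = R → g ∈ Frame.N R := fun {g} e =>
    fr.mem_N_of_forall fun w => fr.surj _ (by
      have hh : g * fr.cl w * g⁻¹ ∈ R.map (MulAut.conj g).toMonoidHom := ⟨_, fr.cl_mem w, rfl⟩
      rwa [e] at hh)
  set R' := R.map (MulAut.conj g0).toMonoidHom with hR'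
  set fr' := fr.conj g0
  have h' : Over f M fr' := h.conj hg0
  have hne : R ≠ R' := fun e => hgN0 (hconjeq e.symm)
  have h4 := h.four
  obtain ⟨a, e, b, ha0, haQ, hae, hab, heQ, hbQ, heb, hsM⟩ := h.plane
  set s := bl (fr.cl a) (fr.cl e) (fr.cl b)
  have hA : PM (fr.cl a) (fr.cl a) := PM.refl _
  have hE : PM (fr.cl e) (fr.cl e) := PM.refl _
  have hB : PM (fr.cl b) (fr.cl b) := PM.refl _
  have hsN : s ∈ Frame.N R := fr.blk_N hA hE hB haQ hae hab
  have hss : s * s = 1 := fr.blk_sq hA hE hB haQ hae hab heQ hbQ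
  have hdQ : fr.q.Q (e + b) = 1 := by rw [fr.q.Q_add, heQ, hbQ, heb, zero_add, zero_add]
  have had : fr.q.B a (e + b) = 0 := by rw [map_add, hae, hab, add_zero]
  have hd0 : e + b ≠ 0 := fun e' => by rw [e', fr.q.Q_zero] at hdQ; exact zero_ne_one hdQ
  have hda : a ≠ e + b := fun e' => by rw [← e', haQ] at hdQ; exact zero_ne_one hdQ
  have hshape : fr.q.PlaneShape (fr.act s) a (e + b) := by
    refine ⟨haQ, hdQ, had, ha0, fr.blk_range hA hE hB haQ hae hab ha0 hd0 hda, fun x => ?_⟩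
    rw [show QForm.dif (fr.act s) x = fr.phi s x from rfl, fr.blk_phi hA hE hB haQ hae hab, hdQ, one_mul,
      add_comm (fr.q.B (e + b) x)]
  have hU := hshape.finrank_range
  have hsnot : ∀ (R'' : Subgroup (GL ι F)) (fr'' : Frame k R''), Over f M fr'' → R ≠ R'' →
      s ∉ Frame.N R'' := fun R'' fr'' h'' hne' hs'' => by
    have := (range_allowed h h'' hne' hsN hs'' (.inl hss) hU.ge).1
    simp only [Frame.phi] at this
    omega
  have sfix : ∀ {g : GL ι F}, g ∈ M → g * s * g⁻¹ ∈ Frame.N R → g ∈ Frame.N R := by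
    intro g hg hgX
    have hmem : s ∈ Frame.N (R.map (MulAut.conj g⁻¹).toMonoidHom) := by
      have := Frame.conj_mem_N g⁻¹ hgX
      rwa [show g⁻¹ * (g * s * g⁻¹) * g⁻¹⁻¹ = s by group] at this
    by_contra hgn
    refine hsnot _ (fr.conj g⁻¹) (h.conj (M.inv_mem hg)) (fun e' => hgn ?_) hmem
    simpa using (Frame.N R).inv_mem (hconjeq e'.symm)
  obtain ⟨v, hv0, hvQ, hvD, -⟩ := exists_companion h h' hne (Frame.N R).one_mem (Frame.N R').one_mem
    (.inl (one_mul 1))
  rcases dihedral hsM (h'.cl_mem v) hss (fr'.cl_sq_zero hvQ) with h1 | h1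
  · -- a conjugate of a singular element does not act
    obtain ⟨c, hc, hcs, -⟩ := h1
    have hX' : PM (c⁻¹ * fr'.cl v * c⁻¹⁻¹) s := by
      have := (hcs.conj c⁻¹).symm
      rwa [show c⁻¹ * (c * s * c⁻¹) * c⁻¹⁻¹ = s by group] at this
    have hR := h.conj_mem h' hv0 hvQ (M.inv_mem hc) (hX'.mem (neg_N fr) hsN)
    obtain ⟨r, hr⟩ := fr.surj s (hX'.symm.mem fr.neg_mem hR)
    have hbot : LinearMap.range (QForm.dif (fr.act s)) = ⊥ := LinearMap.range_eq_bot.2 (LinearMap.ext fun x => by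
      rw [show QForm.dif (fr.act s) = fr.phi (fr.cl r) from fr.phi_pm hr hsN (fr.cl_mem_N r), fr.phi_cl]
      rfl)
    rw [hbot, finrank_bot] at hU
    omega
  obtain ⟨w, hwM, hw1, hww, hws, hwY, -, hcases⟩ := h1
  have hwN' : w ∈ Frame.N R' := h'.cent v w hv0 hvQ hwM hwY.symm
  have hwN : w ∈ Frame.N R := sfix hwM ((PM.conj_of_comm hws.symm).mem (neg_N fr) hsN)
  have hswN : s * w ∈ Frame.N R := (Frame.N R).mul_mem hsN hwN
  have hvwN : fr'.cl v * w ∈ Frame.N R' := (Frame.N R').mul_mem (fr'.cl_mem_N v) hwN'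
  rcases hcases with ⟨⟨g, hg, hsw⟩, g', hg', hvw⟩ | ⟨⟨g, hg, hsw⟩, -⟩
  swap
  · -- then w acts as s
    obtain ⟨r, hr⟩ := fr.surj _ (h.conj_mem h' hv0 hvQ hg (hsw ▸ hswN))
    have hwe : PM w (s * fr.cl r) := by
      have := hr.mul_left s
      rwa [← hsw, ← mul_assoc, hss, one_mul] at this
    have hphi : fr.act w = fr.act s := LinearMap.ext fun x => by
      rw [fr.act_pm hwe hwN ((Frame.N R).mul_mem hsN (fr.cl_mem_N r)), fr.act_mul hsN (fr.cl_mem_N r), fr.act_cl]
    have hr2 : finrank (ZMod 2) (LinearMap.range (fr.phi w)) = 2 := by rw [Frame.phi, hphi]; exact hU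
    have := (range_allowed h h' hne hwN hwN' hww hr2.ge).1
    omega
  have hgN : g ∈ Frame.N R := sfix hg (hsw ▸ hswN)
  have hwR' : w ∈ R' := by
    have hm := h'.conj_mem h' hv0 hvQ hg' (hvw ▸ hvwN)
    rw [← hvw] at hm
    simpa using R'.mul_mem (R'.inv_mem (fr'.cl_mem v)) hm
  have hwInv : fr.q.Invol (fr.act w) := fr.invol_of_pm hwN hww
  have hsInv : fr.q.Invol (fr.act s) := fr.invol_of_pm hsN (.inl hss)
  set U := LinearMap.range (QForm.dif (fr.act s)) with hUdef
  set U' := LinearMap.range (QForm.dif (fr.act (s * w))) with hU'def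
  set I := LinearMap.range (QForm.dif (fr.act w)) with hIdef
  have hU' : finrank (ZMod 2) U' = 2 := by
    have hi := fr.act_iso g
    have hgA := (hA.conj g).trans (fr.act_spec hgN a)
    have hgE := (hE.conj g).trans (fr.act_spec hgN e)
    have hgB := (hB.conj g).trans (fr.act_spec hgN b)
    have ha' : fr.act g a ≠ 0 := fun e' => ha0 (hi.injective (e'.trans (map_zero _).symm))
    have hd' : fr.act g e + fr.act g b ≠ 0 := fun e' => hd0 (hi.injective (by rw [map_add, e', map_zero]))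
    have hne'' : fr.act g a ≠ fr.act g e + fr.act g b := fun e' => hda (hi.injective (by rw [map_add, e']))
    rw [hU'def, hsw, (fr.blk_ok hA hE hB haQ hae hab).bl_conj g,
      show QForm.dif (fr.act (bl (g * fr.cl a * g⁻¹) (g * fr.cl e * g⁻¹) (g * fr.cl b * g⁻¹))) =
        fr.phi (bl (g * fr.cl a * g⁻¹) (g * fr.cl e * g⁻¹) (g * fr.cl b * g⁻¹)) from rfl,
      fr.blk_range hgA hgE hgB ((hi a).trans haQ) ((hi.B_map _ _).trans hae) ((hi.B_map _ _).trans hab) ha' hd'
        hne'']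
    exact finrank_span_two ha' hd' hne''
  have hsc : ∀ x, fr.phi s (fr.phi w x) = fr.phi w (fr.phi s x) := fr.phi_commute hsN hwN hws
  have hphsw : ∀ x, fr.phi (s * w) x = fr.phi s x + fr.phi w x + fr.phi s (fr.phi w x) := fr.phi_mul hsN hwN
  by_cases hl0 : finrank (ZMod 2) I = 0
  · obtain ⟨r, hr⟩ := fr.pm_of_act_id h.form hwN (h.le hwM) h.Riso fun x => by
      have : QForm.dif (fr.act w) x ∈ I := ⟨x, rfl⟩
      rw [Submodule.finrank_eq_zero.1 hl0, Submodule.mem_bot] at this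
      rw [QForm.apply_eq_dif, this, zero_add]
    obtain ⟨d, hd⟩ := fr'.surj w hwR'
    have hd0' : d ≠ 0 := fun e' => hw1 (hd.trans (PM.of_eq (by rw [e', fr'.cl_zero])))
    have hdR : fr'.cl d ∈ R := hd.symm.mem fr.neg_mem (hr.mem fr.neg_mem (fr.cl_mem r))
    have hQd := common_anisotropic h' h hne.symm hdR hd0'
    have hsq : fr'.cl v * w * (fr'.cl v * w) = 1 := by
      rw [hvw, show g' * fr'.cl v * g'⁻¹ * (g' * fr'.cl v * g'⁻¹) = g' * (fr'.cl v * fr'.cl v) * g'⁻¹ by group,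
        fr'.cl_sq_zero hvQ, mul_one, mul_inv_cancel]
    have hQ := fr'.Q_of_invol ((hd.mul_left (fr'.cl v)).trans (fr'.cl_mul v d)) hsq
    rw [fr'.q.Q_add, hvQ, hQd, fr'.q.B_symm, hvD d hdR] at hQ
    simp at hQ
  by_cases hl1 : finrank (ZMod 2) I = 1
  · obtain ⟨u, huQ, hu0, hu⟩ := QForm.Iso.range_one hwInv hl1
    obtain ⟨y, hy⟩ := fr.q.exists_B_one hu0
    have hsu : fr.phi s u = 0 := by
      have e1 : fr.phi w y = u := by rw [show fr.phi w y = QForm.dif (fr.act w) y from rfl, hu, hy, one_smul]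
      have e2 : fr.phi s u = fr.q.B u (fr.phi s y) • u := by rw [← e1, hsc, e1]; exact hu _
      rcases z2_cases (fr.q.B u (fr.phi s y)) with e' | e'
      · rw [e2, e', zero_smul]
      · rw [e', one_smul] at e2
        have := hsInv.range_le_ker ⟨u, rfl⟩
        rw [LinearMap.mem_ker, show QForm.dif (fr.act s) u = u from e2] at this
        rw [e2]
        exact e2.symm.trans this
    have hsum : ∀ x, fr.phi (s * w) x = fr.phi s x + fr.q.B u x • u := fun x => by
      rw [hphsw, show fr.phi w x = fr.q.B u x • u from hu x, map_smul, hsu, smul_zero, add_zero]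
    by_cases huU : u ∈ U
    · have hsh := hshape.adapt huU huQ
      have hle : U' ≤ Submodule.span (ZMod 2) {a + u} := by
        rintro _ ⟨x, rfl⟩
        rw [show QForm.dif (fr.act (s * w)) x = fr.phi (s * w) x from rfl, hsum,
          show fr.phi s x = QForm.dif (fr.act s) x from rfl, hsh.2.2.2.2.2]
        have key : ∀ α β u v : ZMod 2, (α + β) * u + α * v + β * v = (α + β) * (u + v) := by decide
        rw [show (fr.q.B a x + fr.q.B u x) • a + fr.q.B a x • u + fr.q.B u x • u =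
          (fr.q.B a x + fr.q.B u x) • (a + u) from funext fun i => key _ _ _ _]
        exact Submodule.smul_mem _ _ (Submodule.mem_span_singleton_self _)
      have := Submodule.finrank_mono hle
      have h5 := finrank_span_le_card (R := ZMod 2) ({a + u} : Set (W k))
      simp at h5
      omega
    · obtain ⟨x, hx1, hx2⟩ : ∃ x, fr.phi s x = 0 ∧ fr.q.B u x = 1 := by
        by_contra hno
        push Not at hno
        apply huU
        rw [hUdef, ← fr.q.orth_orth (LinearMap.range (QForm.dif (fr.act s))), ← hsInv.ker_eq]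
        exact fr.q.mem_orth'.2 fun x hx => z2_ne_one (hno x (LinearMap.mem_ker.1 hx))
      have huU' : u ∈ U' := ⟨x, by
        rw [show QForm.dif (fr.act (s * w)) x = fr.phi (s * w) x from rfl, hsum, hx1, hx2, one_smul, zero_add]⟩
      have hle : U ≤ U' := by
        rintro _ ⟨x, rfl⟩
        have : fr.phi s x = fr.phi (s * w) x + fr.q.B u x • u := by rw [hsum, vadd_cancel']
        rw [show QForm.dif (fr.act s) x = fr.phi s x from rfl, this]
        exact Submodule.add_mem _ ⟨x, rfl⟩ (Submodule.smul_mem _ _ huU')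
      exact huU (by rw [Submodule.eq_of_le_of_finrank_le hle (by omega)]; exact huU')
  obtain ⟨hk, hts⟩ := range_allowed h h' hne hwN hwN' hww (show 2 ≤ finrank (ZMod 2) I by omega)
  have hk : finrank (ZMod 2) I = k := hk
  have hphw : ∀ x, fr.phi w x = fr.phi s x + fr.phi (s * w) x + fr.phi s (fr.phi (s * w) x) := fun x => by
    rw [← fr.phi_mul hsN hswN, ← mul_assoc, hss, one_mul]
  have hIle : I ≤ U ⊔ U' := by
    rintro _ ⟨x, rfl⟩
    rw [show QForm.dif (fr.act w) x = fr.phi w x from rfl, hphw]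
    exact Submodule.add_mem _ (Submodule.add_mem _ (Submodule.mem_sup_left ⟨x, rfl⟩)
      (Submodule.mem_sup_right ⟨x, rfl⟩)) (Submodule.mem_sup_left ⟨_, rfl⟩)
  have hd1 := Submodule.finrank_mono hIle
  have hd2 := Submodule.finrank_add_le_finrank_add_finrank U U'
  have hk4 : k = 4 := by omega
  have hIeq : I = U ⊔ U' := Submodule.eq_of_le_of_finrank_le hIle (by omega)
  have hdU : e + b ∈ U := by rw [hUdef, hshape.2.2.2.2.1]; exact Submodule.subset_span (by simp)
  have h0 := hts ⟨2, by omega⟩ (e + b) (show e + b ∈ I from hIeq ▸ Submodule.mem_sup_left hdU)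
  rw [hdQ] at h0
  exact one_ne_zero h0

end Over

end Cfsg.Agent.H58.CSixPlus
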