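import Cfsg.Agent.H97.Frame.Basic
import Cfsg.Agent.H58.Elusive.Bridge
import Cfsg.Agent.H12.CSix.Basis
import Cfsg.Agent.Orthogonal.Spinor

/-!
Signed permutations of an orthogonal frame as elements of the orthogonal group.
-/

set_option autoImplicit false
set_option linter.unusedSectionVars false

namespace Cfsg.Agent.H58.CSixPlus

open QuadraticMap Module Cfsg.Agent.Orthogonal
open Cfsg.Agent.H97.Frame (ONB)
open Cfsg.Agent.H12.CSix (bsign bsign_zero bsign_one bsign_add bsign_sq bsign_ne bit_cases)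

variable {F V ι : Type*} [Field F] [Fintype F] [AddCommGroup V] [Module F V] [Fintype ι] [DecidableEq ι]
variable {Q : QuadraticForm F V} {e : ι → V} {c : F}

theorem bsign_inj (h2 : (2 : F) ≠ 0) {a b : ZMod 2} (h : (bsign a : F) = bsign b) : a = b := by
  by_contra hne
  exact bsign_ne h2 hne h

theorem bit_sum (a b : ZMod 2) : a + b = 0 ↔ a = b := by
  revert a b; decide

namespace Coord

variable (H : ONB Q e c)
include H

/-- An isometry with prescribed orthogonal images. -/
theorem exists_iso (v : ι → V) (hv : ∀ i, Q (v i) = c) (ho : ∀ i j, i ≠ j → polar Q (v i) (v j) = 0) :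
    ∃ g : O Q, ∀ i, (g : V ≃ₗ[F] V) (e i) = v i := by
  have hfd := H.finite
  let b : Basis ι F V := Basis.mk H.linearIndependent H.top.ge
  have hli : LinearIndependent F v := by
    rw [linearIndependent_iff']
    intro s a h i hi
    have h' := congrArg (fun x => polar Q (v i) x) h
    simp only [polar_zero_right] at h'
    rw [← polarBilin_apply' Q, map_sum, Finset.sum_eq_single i
      (fun j _ hj => by rw [polarBilin_apply', polar_smul_right', ho i j hj.symm, mul_zero])
      (fun hn => absurd hi hn), polarBilin_apply', polar_smul_right', polar_self', hv] at h'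
    exact (mul_eq_zero.1 h').resolve_right H.two_c
  have hsp : Submodule.span F (Set.range v) = ⊤ :=
    hli.span_eq_top_of_card_eq_finrank' H.finrank_eq.symm
  let b' : Basis ι F V := Basis.mk hli hsp.ge
  obtain ⟨φ, hφ, hφQ⟩ := equiv_of_bases b b' (Q := Q) (Q' := Q)
    (fun i => by simp [b, b', H.val, hv]) (fun i j hij => by simp [b, b', H.orth i j hij, ho i j hij])
  exact ⟨⟨φ, hφQ⟩, fun i => by simpa [b, b'] using hφ i⟩

theorem mn_exists (σ : Equiv.Perm ι) (ε : ι → ZMod 2) :
    ∃ g : O Q, ∀ i, (g : V ≃ₗ[F] V) (e i) = (bsign (ε i) : F) • e (σ i) :=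
  exists_iso H _ (fun i => by rw [qmap_smul, H.val, pow_two, bsign_sq, one_mul]) fun i j hij => by
    rw [polar_smul_left', polar_smul_right', H.orth _ _ fun h => hij (σ.injective h), mul_zero, mul_zero]

/-- The signed permutation e_i ↦ ± e_(σ i). -/
noncomputable def mn (σ : Equiv.Perm ι) (ε : ι → ZMod 2) : O Q := (mn_exists H σ ε).choose

theorem mn_app (σ : Equiv.Perm ι) (ε : ι → ZMod 2) (i : ι) :
    ((mn H σ ε : O Q) : V ≃ₗ[F] V) (e i) = (bsign (ε i) : F) • e (σ i) := (mn_exists H σ ε).choose_spec i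

theorem mn_mul (σ τ : Equiv.Perm ι) (ε δ : ι → ZMod 2) :
    mn H σ ε * mn H τ δ = mn H (σ * τ) fun i => δ i + ε (τ i) := H.ext_e fun i => by
  rw [Subgroup.coe_mul, mul_app, mn_app, map_smul, mn_app, mn_app, smul_smul, bsign_add, Equiv.Perm.mul_apply]

theorem mn_one : mn H 1 0 = 1 := H.ext_e fun i => by
  rw [mn_app]; simp [bsign_zero]

theorem mn_mul_perm (σ τ : Equiv.Perm ι) : mn H σ 0 * mn H τ 0 = mn H (σ * τ) 0 := by
  rw [mn_mul]; rfl

theorem mn_mul_sign (ε δ : ι → ZMod 2) : mn H 1 ε * mn H 1 δ = mn H 1 (ε + δ) := by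
  rw [mn_mul, mul_one]; congr 1; funext i; simp [add_comm]

theorem mn_split (σ : Equiv.Perm ι) (ε : ι → ZMod 2) : mn H σ ε = mn H σ 0 * mn H 1 ε := by
  rw [mn_mul, mul_one]; congr 1; funext i; simp

theorem mn_inj {σ τ : Equiv.Perm ι} {ε δ : ι → ZMod 2} (h : mn H σ ε = mn H τ δ) : σ = τ ∧ ε = δ := by
  have h1 : ∀ i, (bsign (ε i) : F) • e (σ i) = (bsign (δ i) : F) • e (τ i) := fun i => by
    rw [← mn_app H, ← mn_app H, h]
  have hs : ∀ i, σ i = τ i := fun i => by
    by_contra hne
    have := congrArg (H.co (σ i)) (h1 i)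
    rw [H.co_smul, H.co_smul, H.co_self, H.co_ne hne, mul_one, mul_zero] at this
    exact one_ne_zero (α := F) (by rw [← bsign_sq (ε i), this, mul_zero])
  refine ⟨Equiv.ext hs, funext fun i => bsign_inj H.two ?_⟩
  have := h1 i
  rw [hs i] at this
  exact smul_left_injective F (H.e_ne_zero _) this

theorem mn_mono (σ : Equiv.Perm ι) (ε : ι → ZMod 2) : mn H σ ε ∈ H.mono := fun i => by
  rw [mn_app]; exact ONB.Ax.smul H (H.ax_e _) _

theorem mono_eq {g : O Q} (hg : g ∈ H.mono) : ∃ σ ε, g = mn H σ ε := by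
  obtain ⟨σ, hσ⟩ := ONB.IsMono.exists_perm H hg
  classical
  refine ⟨σ, fun i => if (g : V ≃ₗ[F] V) (e i) = e (σ i) then 0 else 1, H.ext_e fun i => ?_⟩
  rw [mn_app]
  by_cases h : (g : V ≃ₗ[F] V) (e i) = e (σ i)
  · simp [h, bsign_zero]
  · rw [if_neg h, bsign_one, neg_one_smul]; exact (hσ i).resolve_left h

theorem mn_single (i : ι) : mn H 1 (Pi.single i 1) = rO Q (e i) := H.ext_e fun j => by
  rw [mn_app]
  rcases eq_or_ne j i with rfl | h
  · rw [rO_self (by rw [H.val]; exact H.c0), Pi.single_eq_same, bsign_one, neg_one_smul]; rfl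
  · rw [rO_fix (H.orth i j h.symm), Pi.single_eq_of_ne h, bsign_zero, one_smul]; rfl

theorem pair_mem (i j : ι) : rO Q (e i) * rO Q (e j) ∈ commutator (O Q) := by
  have := H.finite
  exact H98.OrthMax.rO_mul_mem H.nondeg (by rw [H.val]; exact H.c0) (by rw [H.val, H.val])

/-- Sign changes on an even set lie in the commutator subgroup. -/
theorem sign_mem (ε : ι → ZMod 2) (hs : ∑ i, ε i = 0) : mn H 1 ε ∈ commutator (O Q) := by
  obtain ⟨m, hm⟩ : ∃ m, (Finset.univ.filter fun i => ε i = 1).card = m := ⟨_, rfl⟩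
  induction m using Nat.strong_induction_on generalizing ε with
  | _ m ih =>
    by_cases h0 : ∀ i, ε i = 0
    · rw [show ε = 0 from funext h0, mn_one]; exact one_mem _
    · push Not at h0
      obtain ⟨i, hi⟩ := h0
      replace hi : ε i = 1 := (bit_cases _).resolve_left hi
      obtain ⟨j, hji, hj⟩ : ∃ j, j ≠ i ∧ ε j = 1 := by
        by_contra hno
        push Not at hno
        rw [Finset.sum_eq_single i (fun j _ hj => (bit_cases _).resolve_right (hno j hj)) (by simp), hi] at hs
        exact one_ne_zero hs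
      set ε' := ε + Pi.single i 1 + Pi.single j 1 with hε'
      have hcard : (Finset.univ.filter fun l => ε' l = 1).card < m := by
        rw [← hm]
        refine Finset.card_lt_card ((Finset.ssubset_iff_of_subset fun l hl => ?_).2 ⟨i, ?_, ?_⟩)
        · simp only [Finset.mem_filter, Finset.mem_univ, true_and] at hl ⊢
          rcases eq_or_ne l i with rfl | h1
          · exact hi
          rcases eq_or_ne l j with rfl | h2
          · exact hj
          simpa [hε', Pi.single_eq_of_ne h1, Pi.single_eq_of_ne h2] using hl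
        · simp [hi]
        · simp [hε', hi, Pi.single_eq_of_ne hji.symm, show (1 : ZMod 2) + 1 = 0 by decide]
      have hs' : ∑ l, ε' l = 0 := by
        simp [hε', Finset.sum_add_distrib, hs, show (1 : ZMod 2) + 1 = 0 by decide]
      have hε : ε = ε' + (Pi.single i 1 + Pi.single j 1) := funext fun l => by
        simp only [hε', Pi.add_apply]
        have key : ∀ a b c : ZMod 2, a = a + b + c + (b + c) := by decide
        exact key _ _ _
      have hp : mn H 1 (Pi.single i 1 + Pi.single j 1) ∈ commutator (O Q) := by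
        rw [← mn_mul_sign, mn_single, mn_single]; exact pair_mem H i j
      have hm' := mul_mem (ih _ hcard ε' hs' rfl) hp
      rwa [mn_mul_sign, ← hε] at hm'

theorem sum_eq_zero_of_sign_mem {ε : ι → ZMod 2} (h : mn H 1 ε ∈ commutator (O Q)) : ∑ i, ε i = 0 := by
  by_contra hne
  replace hne : ∑ i, ε i = 1 := (bit_cases _).resolve_left hne
  obtain ⟨i⟩ : Nonempty ι := by
    by_contra hno
    rw [not_nonempty_iff] at hno
    simp at hne
  have h1 := sign_mem H (ε + Pi.single i 1) (by
    simp [Finset.sum_add_distrib, hne, show (1 : ZMod 2) + 1 = 0 by decide])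
  rw [← mn_mul_sign, mn_single] at h1
  have h2 : rO Q (e i) ∈ commutator (O Q) := by simpa using mul_mem (inv_mem h) h1
  have := H.finite
  have hd := ((mem_commutator_iff H.nondeg H.two _).1 h2).1
  rw [detSign_rO H.nondeg H.two (by rw [H.val]; exact H.c0)] at hd
  exact absurd hd (by decide)

/-- Permutations of sign one lie in the commutator subgroup. -/
theorem perm_mem (σ : Equiv.Perm ι) (hσ : Equiv.Perm.sign σ = 1) : mn H σ 0 ∈ commutator (O Q) := by
  classical
  let ψ : Equiv.Perm ι →* Abelianization (O Q) :=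
    { toFun := fun σ => Abelianization.of (mn H σ 0)
      map_one' := by rw [mn_one, map_one]
      map_mul' := fun σ τ => by rw [← map_mul, mn_mul_perm] }
  have hclosure : σ ∈ Subgroup.closure {g : Equiv.Perm ι | Equiv.Perm.IsThreeCycle g} := by
    rw [Equiv.Perm.closure_three_cycles_eq_alternating, Equiv.Perm.mem_alternatingGroup]
    exact hσ
  rw [← Abelianization.ker_of, MonoidHom.mem_ker]
  show ψ σ = 1
  refine (Subgroup.closure_le ψ.ker).2 (fun g hg => ?_) hclosure
  obtain ⟨a, ha⟩ : ∃ a, g a ≠ a := by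
    by_contra hno
    push Not at hno
    have := hg.ne_one
    exact this (Equiv.ext hno)
  obtain ⟨h1, h2, h3⟩ : g ∈ Subgroup.closure {x : Equiv.Perm ι | x.IsSwap} ∧ g ^ 3 = 1 ∧ True :=
    ⟨by rw [Equiv.Perm.closure_isSwap]; trivial, by rw [← hg.orderOf, pow_orderOf_eq_one], trivial⟩
  have hsq : ∀ x ∈ Subgroup.closure {x : Equiv.Perm ι | x.IsSwap}, ψ x * ψ x = 1 := by
    intro x hx
    induction hx using Subgroup.closure_induction with
    | mem y hy =>
      obtain ⟨u, v, -, rfl⟩ := hy
      rw [← map_mul, Equiv.swap_mul_self, map_one]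
    | one => simp
    | mul u v _ _ hu hv => rw [map_mul, mul_mul_mul_comm, hu, hv, one_mul]
    | inv u _ hu => rw [map_inv, ← mul_inv, hu, inv_one]
  have h4 := congrArg ψ h2
  rw [map_pow, map_one, pow_succ, pow_two, hsq g h1, one_mul] at h4
  exact h4

theorem mn_mem {σ : Equiv.Perm ι} {ε : ι → ZMod 2} (hσ : Equiv.Perm.sign σ = 1) (hε : ∑ i, ε i = 0) :
    mn H σ ε ∈ commutator (O Q) := by
  rw [mn_split]
  exact mul_mem (perm_mem H σ hσ) (sign_mem H ε hε)

end Coord

end Cfsg.Agent.H58.CSixPlus
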