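import Cfsg.Agent.H58.CSixPlus.Block

/-!
A nonscalar element on a block leads to a sign change or a nonscalar element on a smaller block.
-/

set_option autoImplicit false
set_option linter.unusedSectionVars false

namespace Cfsg.Agent.H58.CSixPlus

open QuadraticMap Module Cfsg.Agent.Orthogonal
open Cfsg.Agent.H97.Frame (ONB)
open Cfsg.Agent.H12.CSix (bsign bsign_zero bsign_one bsign_add bsign_sq bsign_ne bit_cases)
open Matrix

variable {F V : Type*} [Field F] [Fintype F] [AddCommGroup V] [Module F V] {k : ℕ}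
variable {Q : QuadraticForm F V} {e : Pts k → V} {c : F}

namespace Coord

open Bit

variable (H : ONB Q e c)
include H

theorem cP_insert {J : Finset (Fin k)} {l : Fin k} (hl : l ∉ J) :
    cP H J (Pi.single l 1) 0 0 = Dsg H (insert l J) := H.ext_e fun s => by
  rw [cP_app H _ (off_zero J), Dsg_app, chi_insert hl, single_dotProduct, one_mul, add_zero, smul_zero, add_zero,
    mul_comm]

theorem cP_halves {l m : Fin k} (hlm : l ≠ m) :
    cP H ∅ 0 (Pi.single l 1) 0 * cP H {l} (Pi.single m 1) 0 0 * cP H ∅ 0 (Pi.single l 1) 0 *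
      cP H {l} (Pi.single m 1) 0 0 = cP H ∅ (Pi.single m 1) 0 0 := H.ext_e fun s => by
  simp only [Subgroup.coe_mul, mul_app, cP_app H _ (off_empty _), cP_app H _ (off_zero {l}), map_smul, smul_smul,
    chi_empty, zero_dotProduct, add_zero, mul_zero, bsign_zero, one_smul, mul_one, one_mul, smul_zero,
    single_dotProduct, chi_one, add_assoc, Bit.vtwo, ← bsign_add, Pi.add_apply, Pi.single_eq_same,
    Pi.single_eq_of_ne hlm.symm]
  congr 2
  generalize s l = x, s m = y
  revert x y; decide

variable {X : Subgroup (O Q)} (hX : Hyp H X)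
include hX

/-- A controlled Pauli operator on J gives the sign change on a block inside J. -/
theorem dsg_of_cP {J : Finset (Fin k)} (hJ : J.card + 2 ≤ k) {a b : Pts k} (ha : Off J a) (hb : Off J b) {d : ZMod 2}
    (h0 : a ≠ 0 ∨ b ≠ 0) (hmem : cP H J a b d ∈ X) :
    ∃ J' : Finset (Fin k), J'.card = J.card + 1 ∧ Dsg H J' ∈ X := by
  obtain ⟨l, hl, m, hm, hlm⟩ := Finset.one_lt_card.1 (show 1 < Jᶜ.card by
    rw [Finset.card_compl, Fintype.card_fin]; omega)
  rw [Finset.mem_compl] at hl hm
  have push : ∀ {a b a' b' : Pts k} {d : ZMod 2}, Sim H X J a b a' b' → cP H J a b d ∈ X →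
      ∃ d', cP H J a' b' d' ∈ X := by
    rintro a b a' b' d ⟨g, hg, -, -, hga⟩ h
    obtain ⟨d', hd'⟩ := hga d
    refine ⟨d', ?_⟩
    have := X.mul_mem (X.mul_mem hg h) (X.inv_mem hg)
    rwa [hd', mul_inv_cancel_right] at this
  have sing : ∀ {a b : Pts k} {d : ZMod 2}, Off J a → Off J b → (a ≠ 0 ∨ b ≠ 0) → a ⬝ᵥ b = 0 →
      cP H J a b d ∈ X → ∃ J' : Finset (Fin k), J'.card = J.card + 1 ∧ Dsg H J' ∈ X := by
    intro a b d ha hb h0 hs h
    obtain ⟨d', hd'⟩ := push ((sim_normal H hX hJ hl ha hb h0).1 hs) h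
    refine ⟨insert l J, Finset.card_insert_of_notMem hl, ?_⟩
    rw [← cP_insert H hl]
    rcases bit_cases d' with rfl | rfl
    · exact hd'
    · have hU := cP_X H hX (a := (0 : Pts k)) (b := Pi.single l 1) 0
      have := X.mul_mem (X.mul_mem hU hd') (X.inv_mem hU)
      rw [cP_comm_off H 0 _ (off_single hl) (off_zero J), mul_inv_cancel_right,
        cP_mul H 0 _ (off_zero J) (off_zero J)] at this
      simpa [bb, Bit.two] using this
  rcases bit_cases (a ⬝ᵥ b) with hs | hs
  · exact sing ha hb h0 hs hmem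
  obtain ⟨d1, h1⟩ := push ((sim_normal H hX hJ hl ha hb h0).2 hs) hmem
  obtain ⟨d2, h2⟩ := push ((sim_normal H hX hJ hm ha hb h0).2 hs) hmem
  have h12 := X.mul_mem h1 h2
  rw [cP_mul H _ _ (off_single hl) (off_single hm)] at h12
  refine sing ((off_single hl).add (off_single hm)) ((off_single hl).add (off_single hm)) (.inl (pair_ne hlm)) ?_ h12
  simp [hlm, hlm.symm, Bit.two]

/-- The part of X on the block has more than signs. -/
def Nontriv (X : Subgroup (O Q)) (J : Finset (Fin k)) : Prop := ∃ x ∈ X, x ∈ blkG H J ∧ x ∉ scl H J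

/-- An element of the block commuting with an inner sign gives a nonscalar element on a smaller block. -/
theorem step_down {J : Finset (Fin k)} {l : Fin k} (hl : l ∉ J) {y : O Q} (hy : y ∈ X) (hyB : y ∈ blkG H J)
    (hyZ : y ∉ scl H J) (hyl : y * cP H J (Pi.single l 1) 0 0 = cP H J (Pi.single l 1) 0 0 * y)
    (hodd : ∀ y ∈ X, y ∈ blkG H J → y * y ∈ scl H J → y ∈ scl H J) : Nontriv H X (insert l J) := by
  classical
  by_contra hno
  set J' := insert l J
  set W := cP H ∅ 0 (Pi.single l 1) 0
  have hWX : W ∈ X := cP_X H hX 0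
  have hW2 : W * W = 1 := by
    rw [cP_mul H 0 0 (off_empty _) (off_empty _), zero_dotProduct, add_zero, add_zero, add_zero, Bit.vtwo, cP_zero]
  have hWi : W⁻¹ = W := inv_eq_of_mul_eq_one_right hW2
  have hWD : W * Dsg H J = Dsg H J * W := cP_Dsg H 0 (off_single hl) 0
  -- squares commute with the controlled signs
  have main : ∀ {y : O Q}, y ∈ X → y ∈ blkG H J → y * Dsg H J' = Dsg H J' * y →
      ∀ m, m ∉ J' → y * y * cP H {l} (Pi.single m 1) 0 0 = cP H {l} (Pi.single m 1) 0 0 * (y * y) := by
    intro y hy hyB hyD m hm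
    set u := cP H {l} (Pi.single m 1) 0 0
    have huX : u ∈ X := cP_one_X H hX l rfl 0
    have huu : u * u = 1 := by
      rw [cP_mul H _ _ (off_zero _) (off_zero _), Bit.vtwo, Bit.vtwo, dotProduct_zero, add_zero, add_zero, cP_zero]
    have happ : ∀ s : Pts k, (u : V ≃ₗ[F] V) (e s) = (bsign (s l * s m) : F) • e s := fun s => by
      rw [cP_app H _ (off_zero _), chi_one, single_dotProduct, one_mul, add_zero, smul_zero, add_zero]
    have hq : u * y * u⁻¹ * y⁻¹ ∈ blkG H J' := by
      refine blkG_of_fix H fun s hs => ?_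
      rw [inv_eq_of_mul_eq_one_right huu]
      simp only [Subgroup.coe_mul, mul_app]
      rcases bit_cases (chi J s) with hJs | hJs
      · have hfix : ((y⁻¹ : O Q) : V ≃ₗ[F] V) (e s) = e s := blkG_fix H ((blkG H J).inv_mem hyB) hJs
        rw [hfix, happ, map_smul, blkG_fix H hyB hJs, map_smul, happ, smul_smul, bsign_sq, one_smul]
      · have hinv : y⁻¹ * Dsg H J' = Dsg H J' * y⁻¹ := ((show Commute y (Dsg H J') from hyD).inv_left).eq
        set w := ((y⁻¹ : O Q) : V ≃ₗ[F] V) (e s) with hw
        have hwfix : (u : V ≃ₗ[F] V) w = w := by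
          rw [H.eq_sum w, map_sum]
          refine Finset.sum_congr rfl fun t _ => ?_
          rw [map_smul, happ]
          rcases bit_cases (t l) with htl | htl
          · rw [htl, zero_mul, bsign_zero, one_smul]
          suffices h0 : H.co t w = 0 by rw [h0, zero_smul, zero_smul]
          rcases bit_cases (chi J t) with hJt | hJt
          · exact blkG_co H ((blkG H J).inv_mem hyB) hJs hJt
          have e1 : (Dsg H J' : V ≃ₗ[F] V) w = w := by
            rw [hw, ← mul_app, ← Subgroup.coe_mul, ← hinv, Subgroup.coe_mul, mul_app, Dsg_app, hs, bsign_zero,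
              one_smul]
          have e2 := co_Dsg H J' t w
          rw [e1, chi_insert hl, htl, hJt, one_mul, bsign_one] at e2
          exact (mul_eq_zero.1 (show (2 : F) * H.co t w = 0 by linear_combination e2)).resolve_left H.two
        rw [hwfix, hw, ← mul_app (y : V ≃ₗ[F] V), ← Subgroup.coe_mul, mul_inv_cancel]
        show (u : V ≃ₗ[F] V) (e s) = e s
        rw [chi_insert hl, hJs, mul_one] at hs
        rw [happ, hs, zero_mul, bsign_zero, one_smul]
    have hqZ : u * y * u⁻¹ * y⁻¹ ∈ scl H J' := by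
      by_contra h
      exact hno ⟨_, X.mul_mem (X.mul_mem (X.mul_mem huX hy) (X.inv_mem huX)) (X.inv_mem hy), hq, h⟩
    set q := u * y * u⁻¹ * y⁻¹ with hqdef
    have hqy : q * y = y * q := scl_comm H hqZ hyD
    have huq : u * y = q * y * u := by rw [hqdef]; group
    calc y * y * u = q * q * (y * y) * u := by rw [scl_sq H hqZ, one_mul]
      _ = q * y * (q * y) * u := by rw [(show Commute q y from hqy).mul_mul_mul_comm]
      _ = q * y * (u * y) := by rw [huq]; group
      _ = q * y * u * y := by group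
      _ = u * (y * y) := by rw [← huq]; group
  have hD' : y * Dsg H J' = Dsg H J' * y := by rw [← cP_insert H hl]; exact hyl
  set y' := W * y * W with hy'
  have hy'B : y' ∈ blkG H J := by
    have := blkG_conj H hWD hyB
    rwa [hWi] at this
  have hWD' : W * Dsg H J' = Dsg H J * Dsg H J' * W := by
    rw [← cP_insert H hl, cP_comm_off H 0 _ (off_single hl) (off_zero J)]
    simp [bb, Dsg, W]
  have hy'D : y' * Dsg H J' = Dsg H J' * y' := by
    have hc : Commute y (Dsg H J * Dsg H J') := (show Commute y (Dsg H J) from blkG_comm H hyB).mul_right hD'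
    have hWD2 : W * (Dsg H J * Dsg H J') = Dsg H J' * W := by
      rw [← mul_assoc, hWD, mul_assoc, hWD', ← mul_assoc, ← mul_assoc, Dsg_sq, one_mul]
    rw [hy', mul_assoc (W * y), hWD', ← mul_assoc, mul_assoc W, hc.eq, ← mul_assoc, hWD2]
    group
  have hsq : ∀ m, m ∉ J → y * y * cP H ∅ (Pi.single m 1) 0 0 = cP H ∅ (Pi.single m 1) 0 0 * (y * y) := by
    intro m hm
    rcases eq_or_ne m l with rfl | hml
    · have h1 : y * cP H ∅ (Pi.single m 1) 0 0 = cP H ∅ (Pi.single m 1) 0 0 * y := H.ext_e fun s => by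
        rw [Subgroup.coe_mul, mul_app, Subgroup.coe_mul, mul_app]
        have hU : ∀ t : Pts k, ((cP H ∅ (Pi.single m 1) 0 0 : O Q) : V ≃ₗ[F] V) (e t) = (bsign (t m) : F) • e t :=
          fun t => by rw [cP_app H _ (off_empty _)]; simp [chi_empty]
        rcases bit_cases (chi J s) with hs | hs
        · rw [hU, map_smul, blkG_fix H hyB hs, hU]
        · have hco : ∀ t, chi J t = 0 → H.co t ((y : V ≃ₗ[F] V) (e s)) = 0 := fun t ht => blkG_co H hyB hs ht
          have hD : (cP H J (Pi.single m 1) 0 0 : V ≃ₗ[F] V) ((y : V ≃ₗ[F] V) (e s)) =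
              (cP H ∅ (Pi.single m 1) 0 0 : V ≃ₗ[F] V) ((y : V ≃ₗ[F] V) (e s)) := by
            rw [H.eq_sum ((y : V ≃ₗ[F] V) (e s)), map_sum, map_sum]
            refine Finset.sum_congr rfl fun t _ => ?_
            rcases bit_cases (chi J t) with ht | ht
            · rw [hco t ht, zero_smul, map_zero, map_zero]
            · rw [map_smul, map_smul, hU, cP_app H _ (off_zero J), ht]
              simp
          rw [hU, map_smul, ← hD, ← mul_app, ← Subgroup.coe_mul, ← hyl, Subgroup.coe_mul, mul_app,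
            cP_app H _ (off_zero J), hs, map_smul]
          simp
      exact ((show Commute y _ from h1).mul_left h1).eq
    · have hm' : m ∉ J' := by simp [J', hml, hm]
      have e1 := main hy hyB hD' m hm'
      have e2 := main (X.mul_mem (X.mul_mem hWX hy) hWX) hy'B hy'D m hm'
      set u := cP H {l} (Pi.single m 1) 0 0
      have hy2 : y' * y' = W * (y * y) * W := by
        rw [hy', show W * y * W * (W * y * W) = W * y * (W * W) * y * W by group, hW2]; group
      rw [hy2] at e2
      have e3 : y * y * (W * u * W) = W * u * W * (y * y) := by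
        calc y * y * (W * u * W) = W * (W * (y * y) * W * u) * W := by
              rw [show W * (W * (y * y) * W * u) * W = W * W * (y * y) * (W * u * W) by group, hW2, one_mul]
          _ = W * (u * (W * (y * y) * W)) * W := by rw [e2]
          _ = W * u * W * (y * y) * (W * W) := by group
          _ = W * u * W * (y * y) := by rw [hW2, mul_one]
      have e4 : W * u * W * u = cP H ∅ (Pi.single m 1) 0 0 := cP_halves H hml.symm
      rw [← e4]
      exact ((show Commute (y * y) _ from e3).mul_right e1).eq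
  -- hence the square is diagonal
  set z := y * y with hz
  have hzB : z ∈ blkG H J := (blkG H J).mul_mem hyB hyB
  have hz2 : z * z = 1 := by
    have hdiag : ∀ s, chi J s = 1 → ∃ t : F, t * t = 1 ∧ (z : V ≃ₗ[F] V) (e s) = t • e s := by
      intro s hs
      have hzs : (z : V ≃ₗ[F] V) (e s) = H.co s ((z : V ≃ₗ[F] V) (e s)) • e s := by
        refine H.ext_co fun t => ?_
        rw [H.co_smul]
        rcases eq_or_ne t s with rfl | hts
        · rw [H.co_self, mul_one]
        rw [H.co_ne hts, mul_zero]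
        rcases bit_cases (chi J t) with ht | ht
        · exact blkG_co H hzB hs ht
        obtain ⟨m, hm⟩ := Function.ne_iff.1 hts
        have hmJ : m ∉ J := fun h => hm ((chi_eq_one.1 ht m h).trans (chi_eq_one.1 hs m h).symm)
        have hZe : ∀ r : Pts k, ((cP H ∅ (Pi.single m 1) 0 0 : O Q) : V ≃ₗ[F] V) (e r) = (bsign (r m) : F) • e r :=
          fun r => by rw [cP_app H _ (off_empty _)]; simp [chi_empty]
        have e1 := H.dot_app (cP H ∅ (Pi.single m 1) 0 0) (e t) ((z : V ≃ₗ[F] V) (e s))
        rw [← mul_app _ (z : V ≃ₗ[F] V), ← Subgroup.coe_mul, ← hsq m hmJ, Subgroup.coe_mul, mul_app, hZe, hZe,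
          map_smul, H.dot_smul_left, H.dot_smul_right] at e1
        have e2 : ((bsign (t m) : F) * bsign (s m) - 1) * H.co t ((z : V ≃ₗ[F] V) (e s)) = 0 := by
          unfold ONB.co; linear_combination e1
        refine (mul_eq_zero.1 e2).resolve_left fun h => hm (bsign_inj H.two ?_)
        calc (bsign (t m) : F) = bsign (t m) * (bsign (s m) * bsign (s m)) := by rw [bsign_sq, mul_one]
          _ = bsign (s m) := by rw [← mul_assoc, sub_eq_zero.1 h, one_mul]
      refine ⟨_, ?_, hzs⟩
      have h1 := H.dot_app z (e s) (e s)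
      rwa [hzs, H.dot_smul_left, H.dot_smul_right, H.dot_self_unit (H.val _), mul_one] at h1
    refine H.ext_e fun s => ?_
    rw [Subgroup.coe_mul, mul_app]
    rcases bit_cases (chi J s) with hs | hs
    · rw [blkG_fix H hzB hs, blkG_fix H hzB hs]; rfl
    · obtain ⟨t, ht, hzs⟩ := hdiag s hs
      rw [hzs, map_smul, hzs, smul_smul, ht, one_smul]; rfl
  exact hyZ (hodd y hy hyB (hodd z (X.mul_mem hy hy) hzB (.inl hz2)))

/-- One step: a sign change on a block one larger, or a nonscalar element there. -/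
theorem descent {J : Finset (Fin k)} (hJ : J.card + 2 ≤ k) (h : Nontriv H X J) :
    (∃ J' : Finset (Fin k), J'.card = J.card + 1 ∧ Dsg H J' ∈ X) ∨
      ∃ J' : Finset (Fin k), J'.card = J.card + 1 ∧ Nontriv H X J' := by
  obtain ⟨x, hx, hxB, hxZ⟩ := h
  by_cases heven : ∃ y ∈ X, y ∈ blkG H J ∧ y ∉ scl H J ∧ y * y ∈ scl H J
  · obtain ⟨y, hy, hyB, hyZ, hyy⟩ := heven
    obtain ⟨a, b, d, ha, hb, h0, hmem⟩ := even_case H hX hy hyB hyZ hyy
    exact .inl (dsg_of_cP H hX hJ ha hb h0 hmem)
  right
  push Not at heven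
  have hodd : ∀ y ∈ X, y ∈ blkG H J → y * y ∈ scl H J → y ∈ scl H J := fun y hy hyB hyy =>
    by_contra fun h => heven y hy hyB h hyy
  obtain ⟨l, hl, m, hm, hlm⟩ := Finset.one_lt_card.1 (show 1 < Jᶜ.card by
    rw [Finset.card_compl, Fintype.card_fin]; omega)
  rw [Finset.mem_compl] at hl hm
  obtain ⟨y, hy, hyB, hyZ, a, ha, ha0, hya⟩ := odd_case H hX hx hxB hxZ hodd hlm hl hm
  obtain ⟨g, hg, -, hgD, hga⟩ := (sim_normal H hX hJ hl ha (off_zero J) (.inl ha0)).1 (dotProduct_zero a)
  have hyJ : y * cP H J a 0 0 = cP H J a 0 0 * y := H.ext_e fun s => by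
    rw [Subgroup.coe_mul, mul_app, Subgroup.coe_mul, mul_app]
    rcases bit_cases (chi J s) with hs | hs
    · rw [blkG_fix H hyB hs, cP_app H a (off_zero J), hs]
      simp [bsign_zero, blkG_fix H hyB hs]
    · have hD : (cP H J a 0 0 : V ≃ₗ[F] V) ((y : V ≃ₗ[F] V) (e s)) =
          (cP H ∅ a 0 0 : V ≃ₗ[F] V) ((y : V ≃ₗ[F] V) (e s)) := by
        rw [H.eq_sum ((y : V ≃ₗ[F] V) (e s)), map_sum, map_sum]
        refine Finset.sum_congr rfl fun t _ => ?_
        rcases bit_cases (chi J t) with ht | ht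
        · rw [blkG_co H hyB hs ht, zero_smul, map_zero, map_zero]
        · rw [map_smul, map_smul, cP_app H a (off_zero J), cP_app H a (off_empty _), ht]
          simp [chi_empty]
      rw [hD, cP_app H a (off_zero J), map_smul, ← mul_app, ← Subgroup.coe_mul, hya, Subgroup.coe_mul, mul_app,
        cP_app H a (off_empty _), map_smul, hs]
      simp [chi_empty]
  obtain ⟨d', hd'⟩ := hga 0
  refine ⟨insert l J, Finset.card_insert_of_notMem hl, ?_⟩
  have hB' := blkG_conj H hgD hyB
  refine step_down H hX hl (X.mul_mem (X.mul_mem hg hy) (X.inv_mem hg)) hB' (fun h => hyZ ?_) ?_ hodd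
  · rcases h with h | h
    · exact .inl (mul_left_cancel (mul_right_cancel (h.trans (show (1 : O Q) = g * 1 * g⁻¹ by group))))
    · exact .inr (mul_left_cancel (mul_right_cancel
        (h.trans (show Dsg H J = g * Dsg H J * g⁻¹ by rw [hgD, mul_inv_cancel_right]))))
  · set z := g * y * g⁻¹
    have hc : Commute z (cP H J (Pi.single l 1) 0 d') := by
      have hk : cP H J (Pi.single l 1) 0 d' = g * cP H J a 0 0 * g⁻¹ := by rw [hd', mul_inv_cancel_right]
      rw [hk]
      show g * y * g⁻¹ * (g * cP H J a 0 0 * g⁻¹) = g * cP H J a 0 0 * g⁻¹ * (g * y * g⁻¹)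
      calc g * y * g⁻¹ * (g * cP H J a 0 0 * g⁻¹) = g * (y * cP H J a 0 0) * g⁻¹ := by group
        _ = g * (cP H J a 0 0 * y) * g⁻¹ := by rw [hyJ]
        _ = _ := by group
    have hd0 : cP H J 0 0 d' ∈ scl H J := cP_scl H J d'
    have hsplit : cP H J (Pi.single l 1) 0 0 = cP H J 0 0 d' * cP H J (Pi.single l 1) 0 d' := by
      rw [cP_mul H 0 _ (off_zero J) (off_zero J)]
      simp [Bit.two]
    rw [hsplit]
    exact ((show Commute z (cP H J 0 0 d') from (scl_comm H hd0 (blkG_comm H hB')).symm).mul_right hc).eq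

end Coord

end Cfsg.Agent.H58.CSixPlus
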