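import Cfsg.Agent.H58.CSixPlus.Model
import Cfsg.Agent.H57.CSix.Block

/-!
Elements of the normaliser: block elements and products of two reflections.
-/

set_option autoImplicit false
set_option linter.unusedSectionVars false

namespace Cfsg.Agent.H58.CSixPlus

open Matrix
open Cfsg.Agent.H57.CSix (bl BlOK)
open Cfsg.Agent.H57.CSix (W z2_cases z2_self z2_ne_zero z2_ne_one vadd_self vadd_eq_zero vadd_cancel vadd_cancel'
  smul_cases mem_span_one mem_span_two finrank_span_two PM sg sg_zero sg_one sg_PM sg_add mul_sg sg_mul sg_sg)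

variable {ι : Type} [Fintype ι] [DecidableEq ι] {F : Type*} [Field F]

theorem bl_mem_form {f : (ι → F) → (ι → F) → F} (hf : IsForm f) {C X Y : GL ι F} (h : BlOK C X Y) (hC : C ∈ H95.isoGrp f) (hX : X ∈ H95.isoGrp f) (hY : Y ∈ H95.isoGrp f) :
    bl C X Y ∈ H95.isoGrp f := by
  refine H95.mem_isoGrp.2 fun u v => ?_
  rw [h.val, Cfsg.Agent.H57.CSix.blM]
  have key : ∀ w : ι → F, ((2 : F)⁻¹ • ((1 + (C : Matrix ι ι F)) * (X : Matrix ι ι F) +
      (1 - (C : Matrix ι ι F)) * (Y : Matrix ι ι F))) *ᵥ w = (2 : F)⁻¹ • (((X : Matrix ι ι F) *ᵥ w +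
      (C : Matrix ι ι F) *ᵥ ((X : Matrix ι ι F) *ᵥ w)) + ((Y : Matrix ι ι F) *ᵥ w -
      (C : Matrix ι ι F) *ᵥ ((Y : Matrix ι ι F) *ᵥ w))) := by
    intro w
    simp only [smul_mulVec, add_mulVec, sub_mulVec, add_mul, sub_mul, one_mul, mulVec_mulVec]
  have hsw : ∀ a b, f ((C : Matrix ι ι F) *ᵥ a) b = f a ((C : Matrix ι ι F) *ᵥ b) := fun a b => by
    conv_lhs => rw [← H95.mem_isoGrp.1 hC]
    rw [mulVec_mulVec, h.matrix_sq, one_mulVec]
  have hCX : ∀ w, (C : Matrix ι ι F) *ᵥ ((X : Matrix ι ι F) *ᵥ w) =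
      (X : Matrix ι ι F) *ᵥ ((C : Matrix ι ι F) *ᵥ w) := fun w => by rw [mulVec_mulVec, mulVec_mulVec, h.commute_x]
  have hCY : ∀ w, (C : Matrix ι ι F) *ᵥ ((Y : Matrix ι ι F) *ᵥ w) =
      (Y : Matrix ι ι F) *ᵥ ((C : Matrix ι ι F) *ᵥ w) := fun w => by rw [mulVec_mulVec, mulVec_mulVec, h.commute_y]
  have hCC : ∀ a b, f ((C : Matrix ι ι F) *ᵥ a) ((C : Matrix ι ι F) *ᵥ b) = f a b := H95.mem_isoGrp.1 hC
  rw [key, key, hf.smul_left, hf.smul_right]
  simp only [hf.add_left, hf.add_right, hf.sub_left, hf.sub_right, hCC]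
  simp only [hsw]
  simp only [hCX, hCY, H95.mem_isoGrp.1 hX, H95.mem_isoGrp.1 hY]
  have h4 : (2 : F)⁻¹ * ((2 : F)⁻¹ * 4) = 1 := by
    have : (2 : F)⁻¹ * 2 = 1 := inv_mul_cancel₀ h.two
    linear_combination ((2 : F)⁻¹ * 2 + 1) * this
  linear_combination f u v * h4


theorem neg_sg (x : ZMod 2) (g : GL ι F) : -sg x g = sg (x + 1) g := by
  rw [sg_add, sg_one]
  rcases z2_cases x with rfl | rfl <;> simp [sg_zero, sg_one]

theorem sg_sg_mul (x y : ZMod 2) (g h : GL ι F) : sg x g * sg y h = sg (x + y) (g * h) := by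
  rw [sg_mul, mul_sg, ← sg_add]

namespace Frame

variable {k : ℕ} {R : Subgroup (GL ι F)} (fr : Frame k R)

include fr in
theorem pm_comm {v w : W k} {A V : GL ι F} (hA : PM A (fr.cl v)) (hV : PM V (fr.cl w)) :
    A * V = sg (fr.q.B v w) (V * A) := by
  rcases hA with rfl | rfl <;> rcases hV with rfl | rfl <;>
    simp only [neg_mul, mul_neg, neg_neg, fr.cl_comm v w] <;>
    rcases z2_cases (fr.q.B v w) with e | e <;> simp [e, sg_zero, sg_one]

include fr in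
theorem pm_commute {v w : W k} {A V : GL ι F} (hA : PM A (fr.cl v)) (hV : PM V (fr.cl w))
    (h : fr.q.B v w = 0) : A * V = V * A := by rw [fr.pm_comm hA hV, h, sg_zero]

include fr in
theorem pm_sq {v : W k} {A : GL ι F} (hA : PM A (fr.cl v)) (h : fr.q.Q v = 0) : A * A = 1 := by
  rw [fr.sq_of_pm hA, h, sg_zero]

include fr in
theorem blk_ok {c x y : W k} {C X Y : GL ι F} (hC : PM C (fr.cl c)) (hX : PM X (fr.cl x)) (hY : PM Y (fr.cl y))
    (hc : fr.q.Q c = 0) (hcx : fr.q.B c x = 0) (hcy : fr.q.B c y = 0) : BlOK C X Y :=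
  ⟨fr.two, fr.pm_sq hC hc, fr.pm_commute hC hX hcx, fr.pm_commute hC hY hcy⟩

theorem cl_one : PM (1 : GL ι F) (fr.cl 0) := .inl fr.cl_zero.symm

include fr in
theorem conj_sg {x w : W k} {X V : GL ι F} (hX : PM X (fr.cl x)) (hV : PM V (fr.cl w)) :
    X * V * X⁻¹ = sg (fr.q.B x w) V := by
  rw [fr.pm_comm hX hV, sg_mul, mul_inv_cancel_right]

include fr in
theorem pm_inv_eq {x : W k} {X : GL ι F} (hX : PM X (fr.cl x)) : X⁻¹ = sg (fr.q.Q x) X := by
  refine inv_eq_of_mul_eq_one_right ?_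
  rw [mul_sg, fr.sq_of_pm hX, sg_sg]

/-- The action of a block element. -/
theorem blk_conj {c x y : W k} {C X Y : GL ι F} (hC : PM C (fr.cl c)) (hX : PM X (fr.cl x)) (hY : PM Y (fr.cl y))
    (hc : fr.q.Q c = 0) (hcx : fr.q.B c x = 0) (hcy : fr.q.B c y = 0) (w : W k) :
    PM (bl C X Y * fr.cl w * (bl C X Y)⁻¹)
      (fr.cl (w + ((fr.q.B (x + y) w + fr.q.Q (x + y) * fr.q.B c w) • c + fr.q.B c w • (x + y)))) := by
  have hok := fr.blk_ok hC hX hY hc hcx hcy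
  have hW : PM (fr.cl w) (fr.cl w) := .inl rfl
  -- a block with equal entries up to sign
  have key : ∀ (i j : ZMod 2) (V : GL ι F) (v : W k), PM V (fr.cl v) → C * V = V * C →
      PM (bl C (sg i V) (sg j V)) (fr.cl ((i + j) • c + v)) := by
    intro i j V v hV hcv
    have hVV : BlOK C V V := ⟨fr.two, hok.sq, hcv, hcv⟩
    have hVm : BlOK C V (-V) := ⟨fr.two, hok.sq, hcv, by rw [mul_neg, neg_mul, hcv]⟩
    have hCV : PM (C * V) (fr.cl (c + v)) := (hC.mul hV).trans (fr.cl_mul c v)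
    rcases z2_cases i with rfl | rfl <;> rcases z2_cases j with rfl | rfl <;>
      simp only [sg_zero, sg_one, z2_self, zero_add, add_zero, zero_smul, one_smul]
    · rw [hVV.bl_same]; exact hV
    · rw [hVV.bl_anti]; exact hCV
    · rw [show bl C (-V) V = -bl C V (-V) by rw [← hVm.bl_neg, neg_neg], hVV.bl_anti]
      exact hCV.neg_left
    · rw [hVV.bl_neg, hVV.bl_same]; exact hV.neg_left
  rcases z2_cases (fr.q.B c w) with h0 | h1
  · have hCW : C * fr.cl w = fr.cl w * C := fr.pm_commute hC hW h0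
    have hokW : BlOK C (fr.cl w) (fr.cl w) := ⟨fr.two, hok.sq, hCW, hCW⟩
    have e : bl C X Y * fr.cl w * (bl C X Y)⁻¹ =
        bl C (X * fr.cl w * X⁻¹) (Y * fr.cl w * Y⁻¹) := by
      conv_lhs => rw [← hokW.bl_same]
      rw [hok.bl_mul hokW, hok.bl_inv, (hok.mul hokW).bl_mul hok.inv]
    rw [e, fr.conj_sg hX hW, fr.conj_sg hY hW, h0, mul_zero, add_zero, zero_smul, add_zero,
      add_comm w, map_add, LinearMap.add_apply]
    exact key _ _ _ _ hW hCW
  · -- conjugation by the element exchanges the two parts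
    have hw : (fr.cl w)⁻¹ * C * fr.cl w = -C := by
      rw [mul_assoc, fr.pm_comm hC hW, h1, sg_one, mul_neg, inv_mul_cancel_left]
    have hinvw : (fr.cl w)⁻¹ = sg (fr.q.Q w) (fr.cl w) := fr.pm_inv_eq hW
    have hxw : ∀ {u : W k} {U : GL ι F}, PM U (fr.cl u) → (fr.cl w)⁻¹ * U * fr.cl w = sg (fr.q.B u w) U := by
      intro u U hU
      rw [mul_assoc, fr.pm_comm hU hW, mul_sg, inv_mul_cancel_left]
    have hX' : PM (sg (fr.q.B x w) X) (fr.cl x) := (sg_PM _ _).trans hX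
    have hY' : PM (sg (fr.q.B y w) Y) (fr.cl y) := (sg_PM _ _).trans hY
    have hok' := fr.blk_ok hC hY' hX' hc hcy hcx
    have h2 : (fr.cl w)⁻¹ * bl C X Y * fr.cl w =
        bl C (sg (fr.q.B y w) Y) (sg (fr.q.B x w) X) := by
      have h := hok.bl_conj (fr.cl w)⁻¹
      rw [inv_inv, hw, hxw hX, hxw hY] at h
      rw [h, hok'.swap.bl_negC]
    have e : bl C X Y * fr.cl w * (bl C X Y)⁻¹ =
        fr.cl w * bl C (sg (fr.q.B y w) Y * X⁻¹) (sg (fr.q.B x w) X * Y⁻¹) := by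
      rw [← hok'.bl_mul hok.inv, ← h2, hok.bl_inv]
      group
    have hYX : PM (Y * X) (fr.cl (x + y)) := by rw [add_comm x]; exact (hY.mul hX).trans (fr.cl_mul y x)
    rw [e, fr.pm_inv_eq hX, fr.pm_inv_eq hY, sg_sg_mul, sg_sg_mul, fr.pm_comm hX hY, ← sg_add]
    refine ((key _ _ (Y * X) _ hYX (fr.pm_commute hC hYX ?_)).mul_left (fr.cl w)).trans
      ((fr.cl_mul _ _).trans (PM.of_eq ?_))
    · rw [map_add, hcx, hcy, add_zero]
    · rw [h1, mul_one, one_smul, fr.q.Q_add, map_add, LinearMap.add_apply]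
      congr 4
      ring

theorem blk_N [Fintype F] {c x y : W k} {C X Y : GL ι F} (hC : PM C (fr.cl c)) (hX : PM X (fr.cl x))
    (hY : PM Y (fr.cl y)) (hc : fr.q.Q c = 0) (hcx : fr.q.B c x = 0) (hcy : fr.q.B c y = 0) :
    bl C X Y ∈ N R := fr.mem_N_of_forall fun w => ⟨_, fr.blk_conj hC hX hY hc hcx hcy w⟩

theorem blk_phi [Fintype F] {c x y : W k} {C X Y : GL ι F} (hC : PM C (fr.cl c)) (hX : PM X (fr.cl x))
    (hY : PM Y (fr.cl y)) (hc : fr.q.Q c = 0) (hcx : fr.q.B c x = 0) (hcy : fr.q.B c y = 0) (w : W k) :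
    fr.phi (bl C X Y) w = (fr.q.B (x + y) w + fr.q.Q (x + y) * fr.q.B c w) • c + fr.q.B c w • (x + y) := by
  rw [QForm.dif_apply, fr.act_eq (fr.blk_N hC hX hY hc hcx hcy) (fr.blk_conj hC hX hY hc hcx hcy w), add_comm,
    vadd_cancel]

/-- The range of the action of a block element. -/
theorem blk_range [Fintype F] {c x y : W k} {C X Y : GL ι F} (hC : PM C (fr.cl c)) (hX : PM X (fr.cl x))
    (hY : PM Y (fr.cl y)) (hc : fr.q.Q c = 0) (hcx : fr.q.B c x = 0) (hcy : fr.q.B c y = 0) (hc0 : c ≠ 0)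
    (hd0 : x + y ≠ 0) (hcd : c ≠ x + y) :
    LinearMap.range (fr.phi (bl C X Y)) = Submodule.span (ZMod 2) {c, x + y} := by
  refine le_antisymm ?_ ?_
  · rintro _ ⟨w, rfl⟩
    rw [fr.blk_phi hC hX hY hc hcx hcy]
    exact Submodule.add_mem _ (Submodule.smul_mem _ _ (Submodule.subset_span (by simp)))
      (Submodule.smul_mem _ _ (Submodule.subset_span (by simp)))
  · rw [Submodule.span_le]
    obtain ⟨w, hw1, hw2⟩ := fr.q.exists_B_one_zero hd0 hcd.symm
    obtain ⟨w', hw1', hw2'⟩ := fr.q.exists_B_one_zero hc0 hcd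
    have e1 : fr.phi (bl C X Y) w = c := by
      rw [fr.blk_phi hC hX hY hc hcx hcy, hw1, hw2]; simp
    have e2 : fr.phi (bl C X Y) w' = fr.q.Q (x + y) • c + (x + y) := by
      rw [fr.blk_phi hC hX hY hc hcx hcy, hw1', hw2']; simp
    rintro u (rfl | rfl)
    · exact ⟨w, e1⟩
    · refine ⟨fr.q.Q (x + y) • w + w', ?_⟩
      rw [map_add, map_smul, e1, e2, vadd_cancel]

theorem blk_sq {c x y : W k} {C X Y : GL ι F} (hC : PM C (fr.cl c)) (hX : PM X (fr.cl x))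
    (hY : PM Y (fr.cl y)) (hc : fr.q.Q c = 0) (hcx : fr.q.B c x = 0) (hcy : fr.q.B c y = 0)
    (hx : fr.q.Q x = 0) (hy : fr.q.Q y = 0) : bl C X Y * bl C X Y = 1 := by
  have hok := fr.blk_ok hC hX hY hc hcx hcy
  rw [hok.bl_mul hok, fr.pm_sq hX hx, fr.pm_sq hY hy]
  exact BlOK.bl_same ⟨fr.two, hok.sq, by simp, by simp⟩

/-- A pair spanning a totally singular plane. -/
structure LPair (a b : W k) : Prop where
  a0 : a ≠ 0
  b0 : b ≠ 0
  ne : a ≠ b
  qa : fr.q.Q a = 0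
  qb : fr.q.Q b = 0
  ab : fr.q.B a b = 0

/-- An element acting as diag(1,1,1,-1) with respect to two commuting involutions. -/
def IsCZ (a b : W k) (t : GL ι F) : Prop :=
  ∃ A B, PM A (fr.cl a) ∧ PM B (fr.cl b) ∧ t = bl A 1 B

section CZ

variable [Fintype F] {fr} {a b : W k} {t : GL ι F} (hp : fr.LPair a b) (ht : fr.IsCZ a b t)
include hp ht

theorem IsCZ.mem_N : t ∈ N R := by
  obtain ⟨A, B, hA, hB, rfl⟩ := ht
  exact fr.blk_N hA fr.cl_one hB hp.qa (map_zero _) hp.ab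

theorem IsCZ.sq : t * t = 1 := by
  obtain ⟨A, B, hA, hB, rfl⟩ := ht
  exact fr.blk_sq hA fr.cl_one hB hp.qa (map_zero _) hp.ab fr.q.Q_zero hp.qb

theorem IsCZ.mem_iso {f : (ι → F) → (ι → F) → F} (hf : IsForm f)
    (hR : R ≤ H95.isoGrp f) : t ∈ H95.isoGrp f := by
  obtain ⟨A, B, hA, hB, rfl⟩ := ht
  exact bl_mem_form hf (fr.blk_ok hA fr.cl_one hB hp.qa (map_zero _) hp.ab) (hR (fr.mem_iff.2 ⟨a, hA⟩))
    (Subgroup.one_mem _) (hR (fr.mem_iff.2 ⟨b, hB⟩))

theorem IsCZ.phi_eq (w : W k) : fr.phi t w = fr.q.B b w • a + fr.q.B a w • b := by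
  obtain ⟨A, B, hA, hB, rfl⟩ := ht
  rw [fr.blk_phi hA fr.cl_one hB hp.qa (map_zero _) hp.ab]
  simp [hp.qb]

theorem IsCZ.range_eq : LinearMap.range (fr.phi t) = Submodule.span (ZMod 2) {a, b} := by
  obtain ⟨A, B, hA, hB, rfl⟩ := ht
  rw [fr.blk_range hA fr.cl_one hB hp.qa (map_zero _) hp.ab hp.a0 (by rw [zero_add]; exact hp.b0)
    (by rw [zero_add]; exact hp.ne), zero_add]

theorem IsCZ.commute_cl {r : W k} {V : GL ι F} (hV : PM V (fr.cl r)) (ha : fr.q.B r a = 0) (hb : fr.q.B r b = 0) :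
    V * t = t * V := by
  obtain ⟨A, B, hA, hB, rfl⟩ := ht
  exact (fr.blk_ok hA fr.cl_one hB hp.qa (map_zero _) hp.ab).commute_bl (fr.pm_commute hV hA ha)
    (by rw [mul_one, one_mul]) (fr.pm_commute hV hB hb)

theorem IsCZ.conj {g : GL ι F} (hg : g ∈ N R) : fr.IsCZ (fr.act g a) (fr.act g b) (g * t * g⁻¹) := by
  obtain ⟨A, B, hA, hB, rfl⟩ := ht
  refine ⟨g * A * g⁻¹, g * B * g⁻¹, (hA.conj g).trans (fr.act_spec hg a), (hB.conj g).trans (fr.act_spec hg b), ?_⟩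
  rw [(fr.blk_ok hA fr.cl_one hB hp.qa (map_zero _) hp.ab).bl_conj g, mul_one, mul_inv_cancel]

/-- Multiplying by an element of the plane gives, up to sign, an element of the same kind. -/
theorem IsCZ.mul_plane {r : W k} (hr : r = a ∨ r = b ∨ r = a + b) :
    ∃ t', fr.IsCZ a b t' ∧ PM (t * fr.cl r) t' := by
  obtain ⟨A, B, hA, hB, rfl⟩ := ht
  have hok := fr.blk_ok hA fr.cl_one hB hp.qa (map_zero _) hp.ab
  have h11 : BlOK A 1 1 := ⟨fr.two, hok.sq, by simp, by simp⟩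
  have h1m : BlOK A 1 (-1) := ⟨fr.two, hok.sq, by simp, by simp⟩
  have hBB : BlOK A B B := ⟨fr.two, hok.sq, hok.cy, hok.cy⟩
  have eA : bl A 1 B * A = bl A 1 (-B) := by
    refine (congrArg (bl A 1 B * ·) (show A = bl A 1 (-1) by rw [h11.bl_anti, mul_one])).trans ?_
    rw [hok.bl_mul h1m, mul_one, mul_neg, mul_one]
  have eB : bl A 1 B * B = bl A B 1 := by
    refine (congrArg (bl A 1 B * ·) hBB.bl_same.symm).trans ?_
    rw [hok.bl_mul hBB, one_mul, fr.pm_sq hB hp.qb]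
  rcases hr with rfl | rfl | rfl
  · exact ⟨_, ⟨A, -B, hA, hB.neg_left, rfl⟩, (hA.symm.mul_left _).trans (PM.of_eq eA)⟩
  · refine ⟨_, ⟨-A, B, hA.neg_left, hB, rfl⟩, (hB.symm.mul_left _).trans (PM.of_eq ?_)⟩
    rw [eB, hok.bl_negC]
  · refine ⟨_, ⟨-A, -B, hA.neg_left, hB.neg_left, rfl⟩, ?_⟩
    have hAB : PM (A * B) (fr.cl (a + b)) := (hA.mul hB).trans (fr.cl_mul a b)
    refine (hAB.symm.mul_left _).trans ?_
    have hm : BlOK A 1 (-B) := fr.blk_ok hA fr.cl_one hB.neg_left hp.qa (map_zero _) hp.ab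
    rw [← mul_assoc, eA]
    refine (PM.of_eq (congrArg (bl A 1 (-B) * ·) hBB.bl_same.symm)).trans ?_
    rw [hm.bl_mul hBB, one_mul, neg_mul, fr.pm_sq hB hp.qb, hm.bl_negC,
      show bl A (-B) 1 = -bl A B (-1) by
        rw [← BlOK.bl_neg (fr.blk_ok hA hB fr.cl_one.neg_left hp.qa hp.ab (map_zero _)), neg_neg]]
    exact .inr (neg_neg _).symm

end CZ

/-- The reflection in a non-singular vector. -/
def refl (u w : W k) : W k := w + fr.q.B u w • u

/-- A product of two reflections is induced by an isometry in the normaliser. -/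
theorem exists_refl_pair [Fintype F] {f : (ι → F) → (ι → F) → F} (hf : IsForm f)
    (hR : R ≤ H95.isoGrp f) {u u' : W k} (hu : fr.q.Q u = 1) (hu' : fr.q.Q u' = 1) :
    ∃ T, T ∈ N R ∧ T ∈ H95.isoGrp f ∧ ∀ w, fr.act T w = fr.refl u (fr.refl u' w) := by
  set U := (fr.cl u : Matrix ι ι F) with hUdef
  set U' := (fr.cl u' : Matrix ι ι F) with hU'def
  have hneg : ∀ {v : W k}, fr.q.Q v = 1 → (fr.cl v : Matrix ι ι F) * fr.cl v = -1 := fun {v} hv => by
    rw [← Units.val_mul, fr.cl_sq, hv, sg_one, Units.val_neg, Units.val_one]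
  have hinv : ∀ {V : Matrix ι ι F}, V * V = -1 → (1 + V) * (1 - V) = (2 : F) • (1 : Matrix ι ι F) ∧
      (1 - V) * (1 + V) = (2 : F) • (1 : Matrix ι ι F) := fun {V} hV => by
    constructor
    · rw [add_mul, one_mul, mul_sub, mul_one, hV, two_smul]; abel
    · rw [sub_mul, one_mul, mul_add, mul_one, hV, two_smul]; abel
  have h2 := fr.two
  have hsc : (2 : F)⁻¹ * (2 : F)⁻¹ * ((2 : F) * 2) = 1 := by field_simp
  let T : GL ι F := ⟨(2 : F)⁻¹ • ((1 + U) * (1 + U')), (2 : F)⁻¹ • ((1 - U') * (1 - U)), by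
      rw [smul_mul_smul_comm, mul_assoc, ← mul_assoc (1 + U'), (hinv (hneg hu')).1, smul_mul_assoc, one_mul,
        mul_smul_comm, (hinv (hneg hu)).1, smul_smul, smul_smul]
      rw [show (2 : F)⁻¹ * (2 : F)⁻¹ * 2 * 2 = 1 by linear_combination hsc, one_smul], by
      rw [smul_mul_smul_comm, mul_assoc, ← mul_assoc (1 - U), (hinv (hneg hu)).2, smul_mul_assoc, one_mul,
        mul_smul_comm, (hinv (hneg hu')).2, smul_smul, smul_smul]
      rw [show (2 : F)⁻¹ * (2 : F)⁻¹ * 2 * 2 = 1 by linear_combination hsc, one_smul]⟩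
  have hT : (T : Matrix ι ι F) = (2 : F)⁻¹ • ((1 + U) * (1 + U')) := rfl
  have hswap : ∀ (v : W k), fr.q.Q v = 1 → ∀ w, ∃ V, PM V (fr.cl (fr.refl v w)) ∧
      (1 + (fr.cl v : Matrix ι ι F)) * fr.cl w = (V : Matrix ι ι F) * (1 + (fr.cl v : Matrix ι ι F)) := by
    intro v hv w
    rcases z2_cases (fr.q.B v w) with h | h
    · refine ⟨fr.cl w, .inl (by rw [refl, h, zero_smul, add_zero]), ?_⟩
      rw [add_mul, mul_add, one_mul, mul_one, ← Units.val_mul, fr.commute_iff.2 h, Units.val_mul]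
    · refine ⟨fr.cl v * fr.cl w, by rw [refl, h, one_smul, add_comm]; exact fr.cl_mul v w, ?_⟩
      have e : (fr.cl v : Matrix ι ι F) * fr.cl w * fr.cl v = fr.cl w := by
        rw [← Units.val_mul, fr.anti h, Units.val_neg, Units.val_mul, neg_mul, mul_assoc, hneg hv, mul_neg,
          mul_one, neg_neg]
      rw [add_mul, mul_add, one_mul, Units.val_mul, mul_one, e, add_comm]
  have hconj : ∀ w, PM (T * fr.cl w * T⁻¹) (fr.cl (fr.refl u (fr.refl u' w))) := by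
    intro w
    obtain ⟨V, hV, e1⟩ := hswap u' hu' w
    have h' : ∃ V', PM V' (fr.cl (fr.refl u (fr.refl u' w))) ∧
        (1 + U) * (V : Matrix ι ι F) = (V' : Matrix ι ι F) * (1 + U) := by
      obtain ⟨V', hV', e2⟩ := hswap u hu (fr.refl u' w)
      rcases hV with rfl | rfl
      · exact ⟨V', hV', e2⟩
      · exact ⟨-V', hV'.neg_left, by rw [Units.val_neg, Units.val_neg, mul_neg, neg_mul, e2]⟩
    obtain ⟨V', hV', e2⟩ := h'
    refine (PM.of_eq (mul_inv_eq_iff_eq_mul.2 (Units.ext ?_))).trans hV'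
    rw [Units.val_mul, Units.val_mul, hT, smul_mul_assoc, mul_smul_comm, mul_assoc, e1, ← mul_assoc, e2, mul_assoc]
  have hTN := fr.mem_N_of_forall fun w => ⟨_, hconj w⟩
  refine ⟨T, hTN, H95.mem_isoGrp.2 fun x y => ?_, fun w => fr.act_eq hTN (hconj w)⟩
  have hhalf : ∀ (v : W k), fr.q.Q v = 1 → ∀ a b : ι → F,
      f ((1 + (fr.cl v : Matrix ι ι F)) *ᵥ a) ((1 + (fr.cl v : Matrix ι ι F)) *ᵥ b) = 2 * f a b := by
    intro v hv a b
    have hS := H95.mem_isoGrp.1 (hR (fr.cl_mem v))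
    have hskew : f a ((fr.cl v : Matrix ι ι F) *ᵥ b) = -f ((fr.cl v : Matrix ι ι F) *ᵥ a) b := by
      conv_lhs => rw [← hS]
      rw [mulVec_mulVec, hneg hv, neg_mulVec, one_mulVec, hf.neg_right]
    rw [add_mulVec, one_mulVec, add_mulVec, one_mulVec, hf.add_left, hf.add_right,
      hf.add_right, hS, hskew]
    ring
  rw [hT, smul_mulVec, smul_mulVec, ← mulVec_mulVec, ← mulVec_mulVec, hf.smul_left, hf.smul_right,
    hhalf u hu, hhalf u' hu']
  linear_combination f x y * hsc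

end Frame

end Cfsg.Agent.H58.CSixPlus
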