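import Cfsg.Agent.H58.CSixPlus.Ladder
import Cfsg.Agent.H97.Frame.Small
import Cfsg.Agent.Orthogonal.Simple

/-!
All proper sign changes together with the monomial Clifford elements generate the commutator subgroup.
-/

set_option autoImplicit false
set_option linter.unusedSectionVars false

namespace Cfsg.Agent.H58.CSixPlus

open QuadraticMap Module Cfsg.Agent.Orthogonal
open Cfsg.Agent.H97.Frame (ONB)
open Cfsg.Agent.H12.CSix (bsign bsign_zero bsign_one bsign_add bsign_sq bsign_ne bit_cases)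
open Matrix

variable {F V : Type*} [Field F] [Fintype F] [AddCommGroup V] [Module F V] {k : ℕ}
variable {Q : QuadraticForm F V} {e : Pts k → V} {c : F}

namespace Coord

open Bit

variable (H : ONB Q e c)
include H

theorem W_app (b s : Pts k) : ((cP H ∅ 0 b 0 : O Q) : V ≃ₗ[F] V) (e s) = e (s + b) := by
  rw [cP_app H 0 (off_empty b)]; simp [chi_empty, bsign_zero]

theorem Dsg_eq_pair (i : Fin k) :
    Dsg H ((Finset.univ : Finset (Fin k)).erase i) =
      rO Q (e fun _ => 1) * rO Q (e ((fun _ => 1) + Pi.single i 1)) := by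
  classical
  set o : Pts k := fun _ => 1
  set J := (Finset.univ : Finset (Fin k)).erase i
  rw [← mn_single H, ← mn_single H, mn_mul_sign]
  refine H.ext_e fun s => ?_
  rw [Dsg_app, mn_app]
  congr 2
  have hne : o ≠ o + Pi.single i 1 := fun h => by
    have := congrFun h i
    simp [o] at this
  rw [Pi.add_apply]
  by_cases h1 : s = o
  · subst h1
    rw [Pi.single_eq_same, Pi.single_eq_of_ne hne, add_zero, chi_eq_one]
    exact fun _ _ => rfl
  by_cases h2 : s = o + Pi.single i 1
  · subst h2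
    rw [Pi.single_eq_same, Pi.single_eq_of_ne h1, zero_add, chi_eq_one]
    intro j hj
    simp [o, Finset.ne_of_mem_erase hj]
  rw [Pi.single_eq_of_ne h1, Pi.single_eq_of_ne h2, add_zero]
  refine (bit_cases _).resolve_right fun h => ?_
  rw [chi_eq_one] at h
  rcases bit_cases (s i) with hs | hs
  · refine h2 (funext fun j => ?_)
    rcases eq_or_ne j i with rfl | hj
    · simp [hs, o, Bit.two]
    · simp [hj, o, h j (Finset.mem_erase.2 ⟨hj, Finset.mem_univ j⟩)]
  · refine h1 (funext fun j => ?_)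
    rcases eq_or_ne j i with rfl | hj
    · simp [hs, o]
    · simp [o, h j (Finset.mem_erase.2 ⟨hj, Finset.mem_univ j⟩)]

variable {X : Subgroup (O Q)} (hX : Hyp H X)
  (hall : ∀ J : Finset (Fin k), J.card + 1 ≤ k → Dsg H J ∈ X)
include hX hall

theorem pair_X (s t : Pts k) : rO Q (e s) * rO Q (e t) ∈ X := by
  classical
  have hedge : ∀ (r : Pts k) (i : Fin k), rO Q (e r) * rO Q (e (r + Pi.single i 1)) ∈ X := by
    intro r i
    have h0 := hall ((Finset.univ : Finset (Fin k)).erase i) (by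
      rw [Finset.card_erase_of_mem (Finset.mem_univ i), Finset.card_univ, Fintype.card_fin]
      have := hX.four; omega)
    rw [Dsg_eq_pair] at h0
    set b : Pts k := r + fun _ => 1
    have hW : cP H ∅ 0 b 0 ∈ X := cP_X H hX 0
    have h1 := X.mul_mem (X.mul_mem hW h0) (X.inv_mem hW)
    rw [show cP H ∅ 0 b 0 * (rO Q (e fun _ => 1) * rO Q (e ((fun _ => 1) + Pi.single i 1))) * (cP H ∅ 0 b 0)⁻¹ =
      cP H ∅ 0 b 0 * rO Q (e fun _ => 1) * (cP H ∅ 0 b 0)⁻¹ *
        (cP H ∅ 0 b 0 * rO Q (e ((fun _ => 1) + Pi.single i 1)) * (cP H ∅ 0 b 0)⁻¹) by group,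
      conj_rO, conj_rO, W_app, W_app] at h1
    have e1 : (fun _ => 1 : Pts k) + b = r := by
      show (fun _ => 1 : Pts k) + (r + fun _ => 1) = r
      rw [add_comm r, ← add_assoc, vtwo, zero_add]
    rwa [add_right_comm, e1] at h1
  have key : ∀ (A : Finset (Fin k)) (v : Pts k), (∀ i ∉ A, v i = 0) →
      rO Q (e s) * rO Q (e (s + v)) ∈ X := by
    intro A
    induction A using Finset.induction_on with
    | empty =>
      intro v hv
      rw [show v = 0 from funext fun i => hv i (Finset.notMem_empty i), add_zero,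
        show rO Q (e s) * rO Q (e s) = 1 from rO_mul_self Q _]
      exact X.one_mem
    | insert i A hi ih =>
      intro v hv
      rcases bit_cases (v i) with h | h
      · exact ih v fun j hj => by
          rcases eq_or_ne j i with rfl | hne
          · exact h
          · exact hv j (by simp [hne, hj])
      · have h1 := ih (v + Pi.single i 1) fun j hj => by
          rcases eq_or_ne j i with rfl | hne
          · simp [h, Bit.two]
          · simp [hne, hv j (by simp [hne, hj])]
        have h2 := hedge (s + (v + Pi.single i 1)) i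
        have h3 := X.mul_mem h1 h2
        rwa [mul_assoc, ← mul_assoc (rO Q (e (s + (v + Pi.single i 1)))), rO_mul_self, one_mul,
          show s + (v + Pi.single i 1) + Pi.single i 1 = s + v by
            rw [add_assoc, add_assoc, vtwo, add_zero]] at h3
  have := key Finset.univ (s + t) fun i hi => absurd (Finset.mem_univ i) hi
  rwa [← add_assoc, vtwo, zero_add] at this

omit hall hX in
/-- The permutations of the monomial elements of X. -/
noncomputable def permG (X : Subgroup (O Q)) : Subgroup (Equiv.Perm (Pts k)) where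
  carrier := {σ | ∃ ε, mn H σ ε ∈ X}
  one_mem' := ⟨0, by rw [mn_one]; exact X.one_mem⟩
  mul_mem' := by
    rintro σ τ ⟨ε, hε⟩ ⟨δ, hδ⟩
    exact ⟨_, mn_mul H σ τ ε δ ▸ X.mul_mem hε hδ⟩
  inv_mem' := by
    rintro σ ⟨ε, hε⟩
    refine ⟨fun i => ε (σ⁻¹ i), ?_⟩
    have h : mn H σ ε * mn H σ⁻¹ (fun i => ε (σ⁻¹ i)) = 1 := by
      rw [mn_mul, mul_inv_cancel, ← mn_one H]
      congr 1
      funext i
      exact Bit.two _
    rw [← inv_eq_of_mul_eq_one_right h]
    exact X.inv_mem hε

theorem two_swaps {x y z w : Pts k} (hxy : x ≠ y) (hzw : z ≠ w) :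
    Equiv.swap x y * Equiv.swap z w ∈ permG H X := by
  classical
  have hk := hX.four
  set P := permG H X
  set o : Pts k := fun _ => 1
  obtain ⟨l, m, l', m', hlm, hll, hlm', hml, hmm, hlm''⟩ : ∃ l m l' m' : Fin k,
      l ≠ m ∧ l ≠ l' ∧ l ≠ m' ∧ m ≠ l' ∧ m ≠ m' ∧ l' ≠ m' :=
    ⟨⟨0, by omega⟩, ⟨1, by omega⟩, ⟨2, by omega⟩, ⟨3, by omega⟩, by simp, by simp, by simp, by simp, by simp, by simp⟩
  -- the translations and transvections
  have htr : ∀ b : Pts k, flp (chi (∅ : Finset (Fin k))) b ∈ P := fun b => ⟨_, cP_X H hX (a := 0) (b := b) 0⟩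
  have hlin : ∀ u c' : Pts k, c' ⬝ᵥ u = 0 → flp (fun s => c' ⬝ᵥ s) u ∈ P := fun u c' h => ⟨0, lin_X H hX h⟩
  have htrans : ∀ {x y z : Pts k}, x ≠ y → x ≠ z → y ≠ z →
      ∃ σ ∈ P, σ 0 = x ∧ σ (Pi.single l 1) = y ∧ σ (Pi.single l' 1) = z := by
    intro x y z hxy hxz hyz
    set τ := flp (chi (∅ : Finset (Fin k))) x
    have hτ : ∀ s, τ s = s + x := fun s => by rw [chi_flp (off_empty x), chi_empty, one_smul]
    have hvx : ∀ {a b : Pts k}, a ≠ b → a + b ≠ 0 := fun {a b} h h' => h (funext fun i =>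
      (bit_sum _ _).1 (congrFun h' i))
    -- move y + x
    have hy0 : y + x ≠ 0 := hvx hxy.symm
    obtain ⟨c1, hc1, hc1'⟩ : ∃ c1 : Pts k, c1 ⬝ᵥ (y + x) = 1 ∧ c1 ⬝ᵥ Pi.single l 1 = 1 := by
      obtain ⟨i, hi⟩ := Function.ne_iff.1 hy0
      have hi1 : (y + x) i = 1 := (bit_cases _).resolve_left hi
      by_cases h1 : (y + x) l = 1
      · exact ⟨Pi.single l 1, by rw [single_dotProduct, one_mul, h1], by simp⟩
      · have hil : i ≠ l := fun h => h1 (h ▸ hi1)
        refine ⟨Pi.single i 1 + Pi.single l 1, ?_, ?_⟩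
        · rw [add_dotProduct, single_dotProduct, single_dotProduct, one_mul, one_mul, hi1,
            (bit_cases _).resolve_right h1, add_zero]
        · simp [add_dotProduct, hil.symm]
    have hc1u : c1 ⬝ᵥ (y + x + Pi.single l 1) = 0 := by rw [dotProduct_add, hc1, hc1', Bit.two]
    set σ1 := flp (fun s => c1 ⬝ᵥ s) (y + x + Pi.single l 1)
    have hσ1 : ∀ s, σ1 s = s + (c1 ⬝ᵥ s) • (y + x + Pi.single l 1) := flp_app fun s => lin_inv hc1u s
    have hσ10 : σ1 0 = 0 := by rw [hσ1]; simp
    have hσ1y : σ1 (y + x) = Pi.single l 1 := by rw [hσ1, hc1, one_smul, ← add_assoc, vtwo, zero_add]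
    set w := σ1 (z + x)
    have hw0 : w ≠ 0 := fun h => hvx hxz.symm (σ1.injective (h.trans hσ10.symm))
    have hwl : w ≠ Pi.single l 1 := fun h => hyz (add_right_cancel (σ1.injective (h.trans hσ1y.symm))).symm
    obtain ⟨c2, hc2l, hc2w, hc2b⟩ : ∃ c2 : Pts k, c2 ⬝ᵥ Pi.single l 1 = 0 ∧ c2 ⬝ᵥ w = 1 ∧
        c2 ⬝ᵥ Pi.single l' 1 = 1 := by
      by_cases h1 : w l' = 1
      · exact ⟨Pi.single l' 1, by simp [hll.symm], by rw [single_dotProduct, one_mul, h1], by simp⟩
      have h1' : w l' = 0 := (bit_cases _).resolve_right h1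
      obtain ⟨r, hr, hr1⟩ : ∃ r, r ≠ l ∧ w r = 1 := by
        by_contra hno
        push Not at hno
        rcases bit_cases (w l) with h | h
        · exact hw0 (funext fun r => (eq_or_ne r l).elim (fun e => e ▸ h) fun hr =>
            (bit_cases _).resolve_right (hno r hr))
        · refine hwl (funext fun r => ?_)
          rcases eq_or_ne r l with rfl | hr
          · rw [h, Pi.single_eq_same]
          · rw [(bit_cases _).resolve_right (hno r hr), Pi.single_eq_of_ne hr]
      have hrl : r ≠ l' := fun h => h1 (h ▸ hr1)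
      refine ⟨Pi.single r 1 + Pi.single l' 1, ?_, ?_, ?_⟩
      · simp [add_dotProduct, hr, hll.symm]
      · rw [add_dotProduct, single_dotProduct, single_dotProduct, one_mul, one_mul, hr1, h1', add_zero]
      · simp [add_dotProduct, hrl]
    have hc2u : c2 ⬝ᵥ (w + Pi.single l' 1) = 0 := by rw [dotProduct_add, hc2w, hc2b, Bit.two]
    set σ2 := flp (fun s => c2 ⬝ᵥ s) (w + Pi.single l' 1)
    have hσ2 : ∀ s, σ2 s = s + (c2 ⬝ᵥ s) • (w + Pi.single l' 1) := flp_app fun s => lin_inv hc2u s
    refine ⟨(σ2 * σ1 * τ)⁻¹, P.inv_mem (P.mul_mem (P.mul_mem (hlin _ _ hc2u) (hlin _ _ hc1u)) (htr x)), ?_, ?_, ?_⟩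
    all_goals
      rw [Equiv.Perm.inv_eq_iff_eq, Equiv.Perm.mul_apply, Equiv.Perm.mul_apply, hτ]
    · rw [vtwo, hσ10, hσ2]; simp
    · rw [hσ1y, hσ2, hc2l, zero_smul, add_zero]
    · show _ = σ2 w
      rw [hσ2, hc2w, one_smul, ← add_assoc, vtwo, zero_add]
  -- one three-cycle
  have hflip : ∀ {a b : Fin k}, a ≠ b → Equiv.swap o (o + Pi.single a 1) *
      Equiv.swap (o + Pi.single b 1) (o + Pi.single b 1 + Pi.single a 1) ∈ P := by
    intro a b hab
    set K := ((Finset.univ : Finset (Fin k)).erase a).erase b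
    have haK : a ∉ K := fun h => Finset.notMem_erase a _ (Finset.mem_of_mem_erase h)
    have hbK : b ∉ K := Finset.notMem_erase b _
    have hK : K.card + 2 = k := by
      rw [Finset.card_erase_of_mem (Finset.mem_erase.2 ⟨hab.symm, Finset.mem_univ b⟩),
        Finset.card_erase_of_mem (Finset.mem_univ a), Finset.card_univ, Fintype.card_fin]
      omega
    have hmem : flp (chi K) (Pi.single a 1) ∈ P := ⟨_, toffoli_mem H hX haK hbK hab
      (hall _ (by rw [Finset.card_insert_of_notMem haK]; omega))⟩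
    convert hmem using 1
    refine Equiv.ext fun s => ?_
    rw [chi_flp (off_single haK), Equiv.Perm.mul_apply]
    have hd1 : o + Pi.single b 1 ≠ o := fun h => single_ne b (add_eq_left.1 h)
    have hd2 : o + Pi.single b 1 + Pi.single a 1 ≠ o := fun h => pair_ne hab.symm (by
      rwa [add_assoc, add_eq_left] at h)
    have hd3 : o + Pi.single b 1 ≠ o + Pi.single a 1 := fun h => single_inj hab.symm (add_left_cancel h)
    have hd4 : o + Pi.single b 1 + Pi.single a 1 ≠ o + Pi.single a 1 := fun h => single_ne b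
      (add_eq_left.1 (add_right_cancel h))
    rcases bit_cases (chi K s) with h | h
    · rw [h, zero_smul, add_zero]
      have hne : ∀ v : Pts k, Off K v → s ≠ o + v := fun v hv e => by
        rw [e, chi_add hv, chi_eq_one.2 fun _ _ => rfl] at h
        exact one_ne_zero h
      have h2 := hne _ (off_single hbK)
      have h3 : s ≠ o + Pi.single b 1 + Pi.single a 1 := by
        rw [add_assoc]; exact hne _ ((off_single hbK).add (off_single haK))
      have h0 : s ≠ o := by simpa using hne 0 (off_zero K)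
      rw [Equiv.swap_apply_of_ne_of_ne h2 h3, Equiv.swap_apply_of_ne_of_ne h0 (hne _ (off_single haK))]
    · rw [h, one_smul]
      have hK1 : ∀ r, r ≠ a → r ≠ b → s r = 1 := fun r ha hb => chi_eq_one.1 h r
        (Finset.mem_erase.2 ⟨hb, Finset.mem_erase.2 ⟨ha, Finset.mem_univ r⟩⟩)
      have hs : s = o + (1 + s a) • Pi.single a 1 + (1 + s b) • Pi.single b 1 := funext fun r => by
        simp only [o, Pi.add_apply, Pi.smul_apply, smul_eq_mul]
        rcases eq_or_ne r a with rfl | ha
        · rw [Pi.single_eq_same, Pi.single_eq_of_ne hab]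
          generalize s r = x, s b = y
          revert x y; decide
        rcases eq_or_ne r b with rfl | hb
        · rw [Pi.single_eq_same, Pi.single_eq_of_ne ha]
          generalize s r = x, s a = y
          revert x y; decide
        rw [Pi.single_eq_of_ne ha, Pi.single_eq_of_ne hb, hK1 r ha hb]
        simp
      rcases bit_cases (s a) with ha | ha <;> rcases bit_cases (s b) with hb | hb <;> rw [ha, hb] at hs <;>
        simp only [add_zero, one_smul, show (1 : ZMod 2) + 1 = 0 by decide, zero_smul] at hs <;> rw [hs]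
      · rw [add_right_comm o (Pi.single a 1), Equiv.swap_apply_right, Equiv.swap_apply_of_ne_of_ne hd1 hd3,
          add_assoc (o + Pi.single b 1), vtwo, add_zero]
      · rw [Equiv.swap_apply_of_ne_of_ne hd3.symm hd4.symm, Equiv.swap_apply_right, add_assoc, vtwo, add_zero]
      · rw [Equiv.swap_apply_left, Equiv.swap_apply_of_ne_of_ne hd2 hd4]
      · rw [Equiv.swap_apply_of_ne_of_ne hd1.symm hd2.symm, Equiv.swap_apply_left]
  have hcycle : Equiv.swap o (o + Pi.single l 1) * Equiv.swap o (o + Pi.single l' 1) ∈ P := by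
    set A := Equiv.swap o (o + Pi.single l 1)
    set B := Equiv.swap o (o + Pi.single l' 1)
    set A' := Equiv.swap (o + Pi.single m 1) (o + Pi.single m 1 + Pi.single l 1)
    set B' := Equiv.swap (o + Pi.single m' 1) (o + Pi.single m' 1 + Pi.single l' 1)
    have hc : ∀ {p q r t : Pts k}, p ≠ r → p ≠ t → q ≠ r → q ≠ t →
        Commute (Equiv.swap p q) (Equiv.swap r t) := by
      intro p q r t h1 h2 h3 h4
      refine Equiv.Perm.Disjoint.commute fun s => ?_
      by_cases hs : s = p ∨ s = q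
      · rcases hs with rfl | rfl
        exacts [.inr (Equiv.swap_apply_of_ne_of_ne h1 h2), .inr (Equiv.swap_apply_of_ne_of_ne h3 h4)]
      · rw [not_or] at hs
        exact .inl (Equiv.swap_apply_of_ne_of_ne hs.1 hs.2)
    have hne : ∀ {v v' : Pts k}, v ≠ v' → o + v ≠ o + v' := fun h h' => h (add_left_cancel h')
    have hcomp : ∀ {v v' : Pts k} (r : Fin k), v r ≠ v' r → v ≠ v' := fun r h h' => h (congrFun h' r)
    have h0 : ∀ v : Pts k, v ≠ 0 → o ≠ o + v := fun v hv h' => hv (add_eq_left.1 h'.symm)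
    have hp : ∀ {p q : Fin k}, p ≠ q → (Pi.single p 1 + Pi.single q 1 : Pts k) ≠ 0 := fun h => pair_ne h
    have cAA : Commute A A' := hc (h0 _ (single_ne m)) (by rw [add_assoc]; exact h0 _ (hp hlm.symm))
      (hne (single_inj hlm)) (by rw [add_assoc]; exact hne (hcomp m (by simp [hlm, hlm.symm])))
    have cAB : Commute A B' := hc (h0 _ (single_ne m')) (by rw [add_assoc]; exact h0 _ (hp hlm''.symm))
      (hne (single_inj hlm')) (by rw [add_assoc]; exact hne (hcomp l (by simp [hlm'.symm, hll.symm, hlm', hll])))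
    have cBA : Commute B A' := hc (h0 _ (single_ne m)) (by rw [add_assoc]; exact h0 _ (hp hlm.symm))
      (hne (single_inj hml.symm)) (by rw [add_assoc]; exact hne (hcomp l' (by simp [hml, hll, hml.symm, hll.symm])))
    have cBB : Commute B B' := hc (h0 _ (single_ne m')) (by rw [add_assoc]; exact h0 _ (hp hlm''.symm))
      (hne (single_inj hlm'')) (by rw [add_assoc]; exact hne (hcomp m' (by simp [hlm'', hlm''.symm])))
    have cA'B' : Commute A' B' := hc (hne (single_inj hmm))
      (by rw [add_assoc o]; exact hne (hcomp m (by simp [hmm, hml, hmm.symm, hml.symm])))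
      (by rw [add_assoc o]; exact hne (hcomp m' (by simp [hmm, hlm', hmm.symm, hlm'.symm])))
      (by rw [add_assoc o, add_assoc o]; exact hne (hcomp l (by simp [hlm, hlm', hll, hlm.symm, hlm'.symm, hll.symm])))
    have hA : A * A = 1 := Equiv.swap_mul_self _ _
    have hA' : A' * A' = 1 := Equiv.swap_mul_self _ _
    have hB' : B' * B' = 1 := Equiv.swap_mul_self _ _
    have h1 := P.mul_mem (hflip hlm) (hflip hlm'')
    have e1 : A * A' * (B * B') = A * B * (A' * B') := by rw [cBA.symm.mul_mul_mul_comm]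
    have e2 : A * A' * (B * B') * (A * A' * (B * B')) = A * B * (A * B) := by
      have hc2 : Commute (A' * B') (A * B) := ((cAA.symm.mul_right cBA.symm).mul_left (cAB.symm.mul_right cBB.symm))
      rw [e1, hc2.mul_mul_mul_comm, cA'B'.symm.mul_mul_mul_comm A' B', hA', hB', one_mul, mul_one]
    have h3 := P.mul_mem (P.mul_mem h1 h1) (P.mul_mem h1 h1)
    rw [e2] at h3
    have hne' : (o + Pi.single l 1) ≠ o + Pi.single l' 1 := hne (single_inj hll)
    have hord := (Equiv.Perm.isThreeCycle_swap_mul_swap_same (h0 _ (single_ne l)) (h0 _ (single_ne l')) hne').orderOf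
    have hpow := pow_orderOf_eq_one (A * B)
    rw [hord, pow_succ, pow_two] at hpow
    rwa [show A * B * (A * B) * (A * B * (A * B)) = A * B * (A * B) * (A * B) * (A * B) by group, hpow, one_mul] at h3
  have hthree : ∀ {x y z : Pts k}, x ≠ y → x ≠ z → y ≠ z → Equiv.swap x y * Equiv.swap x z ∈ P := by
    intro x y z hxy hxz hyz
    obtain ⟨σ, hσ, h0, h1, h2⟩ := htrans hxy hxz hyz
    set t := flp (chi (∅ : Finset (Fin k))) o
    have ht : ∀ s, t s = s + o := fun s => by rw [chi_flp (off_empty o), chi_empty, one_smul]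
    have hmem := P.mul_mem (P.mul_mem (P.mul_mem hσ (htr o)) hcycle) (P.inv_mem (P.mul_mem hσ (htr o)))
    set g := σ * t with hg
    rw [show g * (Equiv.swap o (o + Pi.single l 1) * Equiv.swap o (o + Pi.single l' 1)) * g⁻¹ =
      g * Equiv.swap o (o + Pi.single l 1) * g⁻¹ * (g * Equiv.swap o (o + Pi.single l' 1) * g⁻¹) by group,
      ← Equiv.swap_apply_apply, ← Equiv.swap_apply_apply] at hmem
    simp only [hg, Equiv.Perm.mul_apply, ht, vtwo, add_comm o, add_assoc, add_zero] at hmem
    rwa [h0, h1, h2] at hmem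
  have hsame : ∀ {x y z : Pts k}, x ≠ y → x ≠ z → Equiv.swap x y * Equiv.swap x z ∈ P := by
    intro x y z hxy hxz
    rcases eq_or_ne y z with rfl | h
    · rw [Equiv.swap_mul_self]; exact P.one_mem
    · exact hthree hxy hxz h
  rcases eq_or_ne x z with rfl | hxz
  · exact hsame hxy hzw
  have h1 := P.mul_mem (hsame hxy hxz) (hsame (x := z) hxz.symm hzw)
  rwa [Equiv.swap_comm z x, mul_assoc, ← mul_assoc (Equiv.swap x z), Equiv.swap_mul_self, one_mul] at h1

theorem perm_cases {a b : Pts k} (hab : a ≠ b) (σ : Equiv.Perm (Pts k)) :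
    σ ∈ permG H X ∨ σ * Equiv.swap a b ∈ permG H X := by
  classical
  suffices h : ∀ τ : Equiv.Perm (Pts k), τ ∈ permG H X ∨ Equiv.swap a b * τ ∈ permG H X by
    rcases h σ⁻¹ with h1 | h1
    · exact .inl (by simpa using (permG H X).inv_mem h1)
    · exact .inr (by simpa [_root_.mul_inv_rev, Equiv.swap_inv] using (permG H X).inv_mem h1)
  intro τ
  induction τ using Equiv.Perm.swap_induction_on with
  | one => exact .inl (permG H X).one_mem
  | swap_mul f x y hxy ih =>
    rcases ih with h1 | h1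
    · right
      rw [← mul_assoc]
      exact (permG H X).mul_mem (two_swaps H hX hall hab hxy) h1
    · left
      have := (permG H X).mul_mem (two_swaps H hX hall hxy hab) h1
      rwa [mul_assoc, ← mul_assoc (Equiv.swap a b), Equiv.swap_mul_self, one_mul] at this

/-- X contains the monomial conjugates of its elements of small support. -/
theorem conj_small {g : O Q} {A : Finset (Pts k)} (hg : g ∈ X) (hs : H.Supp g A) (hA : A.card + 2 ≤ 2 ^ k)
    {z : O Q} (hz : z ∈ H.mono) : z * g * z⁻¹ ∈ X := by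
  classical
  obtain ⟨σ, ε, rfl⟩ := mono_eq H hz
  obtain ⟨a, ha, b, hb, hab⟩ := Finset.one_lt_card.1 (show 1 < Aᶜ.card by
    rw [Finset.card_compl, Fintype.card_fun, Fintype.card_fin, ZMod.card]; omega)
  rw [Finset.mem_compl] at ha hb
  obtain ⟨τ, hτ, hτA⟩ : ∃ τ, σ * τ ∈ permG H X ∧ ∀ s ∈ A, τ s = s := by
    rcases perm_cases H hX hall hab σ with h | h
    · exact ⟨1, by rwa [mul_one], fun s _ => rfl⟩
    · exact ⟨_, h, fun s hs' => Equiv.swap_apply_of_ne_of_ne (fun e => ha (e ▸ hs')) fun e => hb (e ▸ hs')⟩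
  obtain ⟨δ, hy⟩ := hτ
  set z := mn H σ ε
  set y := mn H (σ * τ) δ
  obtain ⟨ρ, η, hρ⟩ := mono_eq H (H.mono.mul_mem (H.mono.inv_mem (mn_mono H (σ * τ) δ)) (mn_mono H σ ε))
  have hyz : mn H σ ε = y * mn H ρ η := by rw [← hρ, mul_inv_cancel_left]
  have hρA : ∀ s ∈ A, ρ s = s := fun s hs' => by
    have h1 := (mn_inj H (hyz.trans (mn_mul H _ _ _ _))).1
    have h2 := Equiv.congr_fun h1 s
    rw [Equiv.Perm.mul_apply, Equiv.Perm.mul_apply] at h2
    have h3 := σ.injective h2
    exact τ.injective (h3.symm.trans (hτA s hs').symm)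
  have hfix : ∀ B : Finset (Pts k), B ⊆ A → ∃ d ∈ X, d ∈ H.mono ∧ ∀ s ∈ A, (d : V ≃ₗ[F] V) (e s) =
      if s ∈ B then -e s else e s := by
    intro B hB
    induction B using Finset.induction_on with
    | empty => exact ⟨1, X.one_mem, H.mono.one_mem, fun s _ => by simp⟩
    | insert r B hr ih =>
      obtain ⟨d, hd, hdm, hds⟩ := ih ((Finset.subset_insert _ _).trans hB)
      have hrA : r ∈ A := hB (Finset.mem_insert_self r B)
      refine ⟨rO Q (e r) * rO Q (e a) * d, X.mul_mem (pair_X H hX hall r a) hd,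
        H.mono.mul_mem (H.mono.mul_mem (H.isMono_rO r) (H.isMono_rO a)) hdm, fun s hs' => ?_⟩
      have hsa : a ≠ s := fun h => ha (h ▸ hs')
      have e1 : ∀ v : V, v = e s ∨ v = -e s →
          ((rO Q (e r) * rO Q (e a) : O Q) : V ≃ₗ[F] V) v = if s = r then -v else v := by
        rintro v (rfl | rfl) <;>
          simp only [map_neg, Subgroup.coe_mul, mul_app, rO_fix (H.orth a s hsa)] <;>
          split_ifs with h
        · subst h; exact rO_self (by rw [H.val]; exact H.c0)
        · exact rO_fix (H.orth r s (Ne.symm h))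
        · subst h; rw [rO_self (by rw [H.val]; exact H.c0)]
        · rw [rO_fix (H.orth r s (Ne.symm h))]
      rw [Subgroup.coe_mul, mul_app, hds s hs', e1 _ (by split_ifs <;> simp)]
      by_cases hsr : s = r
      · subst hsr; simp [hr]
      · simp [hsr]
  obtain ⟨d, hd, hdm, hds⟩ := hfix (A.filter fun s => η s = 1) (Finset.filter_subset _ _)
  set w := d * mn H ρ η
  have hwA : ∀ s ∈ A, (w : V ≃ₗ[F] V) (e s) = e s := fun s hs' => by
    rw [Subgroup.coe_mul, mul_app, mn_app, hρA s hs', map_smul, hds s hs']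
    rcases bit_cases (η s) with h | h <;> simp [h, hs', bsign_zero, bsign_one]
  have hwm : w ∈ H.mono := H.mono.mul_mem hdm (mn_mono H ρ η)
  have hwd : mn H ρ η = d⁻¹ * w := by simp [w]
  clear_value w
  obtain ⟨π, hπ⟩ := ONB.IsMono.exists_perm H hwm
  have hcomm : w * g = g * w := H.ext_e fun s => by
    rw [Subgroup.coe_mul, mul_app, Subgroup.coe_mul, mul_app]
    by_cases hsA : s ∈ A
    · rw [hwA s hsA]
      have hv := ONB.Supp.app_mem H hs (H.e_mem_sub hsA)
      rw [H.eq_sum ((g : V ≃ₗ[F] V) (e s)), map_sum]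
      refine Finset.sum_congr rfl fun t _ => ?_
      by_cases htA : t ∈ A
      · rw [map_smul, hwA t htA]
      · rw [hv t htA, zero_smul, map_zero]
    · rw [hs s hsA]
      have hπA : π s ∉ A := fun h => by
        have h1 := hwA _ h
        have h2 : π s ≠ s := fun e' => hsA (e' ▸ h)
        rcases hπ (π s) with h3 | h3 <;> rw [h1] at h3
        · have := congrArg (H.co (π s)) h3
          rw [H.co_self, H.co_ne (fun e' => h2 (π.injective e'.symm))] at this
          exact one_ne_zero this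
        · have := congrArg (H.co (π s)) h3
          rw [H.co_self, H.co_neg, H.co_ne (fun e' => h2 (π.injective e'.symm)), neg_zero] at this
          exact one_ne_zero this
      rcases hπ s with h | h <;> rw [h]
      · rw [hs _ hπA]
      · rw [map_neg, hs _ hπA]
  rw [show z = y * mn H ρ η from hyz, hwd,
    show y * (d⁻¹ * w) * g * (y * (d⁻¹ * w))⁻¹ = y * d⁻¹ * (w * g * w⁻¹) * (y * d⁻¹)⁻¹ by group,
    hcomm, mul_inv_cancel_right]
  exact X.mul_mem (X.mul_mem (X.mul_mem hy (X.inv_mem hd)) hg) (X.inv_mem (X.mul_mem hy (X.inv_mem hd)))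

/-- An element of X of small support outside the monomial group. -/
theorem exists_small : ∃ g ∈ X, g ∉ H.mono ∧ ∃ A : Finset (Pts k), H.Supp g A ∧ A.card ≤ 4 := by
  classical
  have hk := hX.four
  obtain ⟨i, j, l, m, hij, hil, him, hjl, hjm, hlm⟩ : ∃ i j l m : Fin k,
      i ≠ j ∧ i ≠ l ∧ i ≠ m ∧ j ≠ l ∧ j ≠ m ∧ l ≠ m :=
    ⟨⟨0, by omega⟩, ⟨1, by omega⟩, ⟨2, by omega⟩, ⟨3, by omega⟩, by simp, by simp, by simp, by simp, by simp, by simp⟩
  set ei : Pts k := Pi.single i 1
  set ej : Pts k := Pi.single j 1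
  set el : Pts k := Pi.single l 1
  set em : Pts k := Pi.single m 1
  have hi1 : ei ⬝ᵥ ei = 1 := by simp [ei]
  have hj1 : ej ⬝ᵥ ej = 1 := by simp [ej]
  have hx : (ei + ej + el) ⬝ᵥ el = 1 := by simp [ei, ej, el, add_dotProduct, hil.symm, hjl.symm]
  have h1 : bb ei ei (ei + ej + el) el = 1 := by
    simp [bb, ei, ej, el, add_dotProduct, hil, hij, hil.symm, hij.symm]
  have h2 : bb (ei + ej + el) el ej ej = 1 := by
    simp [bb, ei, ej, el, add_dotProduct, hjl, hij, hjl.symm, hij.symm]
  set T := lift (cP H ∅ ei ei 0) (cP H ∅ ej ej 0)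
  have hTX : T ∈ X := hX.mem _ (lift_mem H (by omega) hi1 hj1 hx h1 h2) (lift_nrm H hi1 hj1)
  have hY : ∀ (r : Fin k) (s : Pts k), ((cP H ∅ (Pi.single r 1) (Pi.single r 1) 0 : O Q) : V ≃ₗ[F] V) (e s) =
      (bsign (s r) : F) • e (s + Pi.single r 1) := fun r s => by
    rw [cP_app H _ (off_empty _)]; simp [chi_empty]
  have hT : ∀ s : Pts k, s i = 0 → s j = 0 → (T : V ≃ₗ[F] V) (e s) =
      (2 : F)⁻¹ • (e s + e (s + ej) + (e (s + ei) + e (s + ej + ei))) := fun s hsi hsj => by
    rw [lift_app H.two (skew_cP H 0 hi1) (skew_cP H 0 hj1), hY, hsj, bsign_zero, one_smul, map_add, hY, hY, hsi,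
      show (s + Pi.single j 1 : Pts k) i = 0 by simp [hsi, hij], bsign_zero, one_smul, one_smul]
  set A : Finset (Pts k) := {0, ej, ei, ej + ei}
  set a := (T : V ≃ₗ[F] V) (e 0) with ha_def
  set c' := (T : V ≃ₗ[F] V) (e el) with hc_def
  have ha : a = (2 : F)⁻¹ • (e 0 + e ej + (e ei + e (ej + ei))) := by
    rw [ha_def, hT 0 rfl rfl]; simp
  have hc : c' = (2 : F)⁻¹ • (e el + e (el + ej) + (e (el + ei) + e (el + ej + ei))) :=
    hT el (by simp [el, hil]) (by simp [el, hjl])
  have h0j : (0 : Pts k) ≠ ej := (single_ne j).symm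
  have h0i : (0 : Pts k) ≠ ei := (single_ne i).symm
  have h0ji : (0 : Pts k) ≠ ej + ei := (pair_ne hij.symm).symm
  set D := rO Q (e 0) * rO Q (e em) with hD
  have hDX : D ∈ X := pair_X H hX hall _ _
  have hDfix : ∀ s, s ≠ 0 → s ≠ em → (D : V ≃ₗ[F] V) (e s) = e s := fun s h h' => by
    rw [hD, Subgroup.coe_mul, mul_app, rO_fix (H.orth em s h'.symm), rO_fix (H.orth 0 s h.symm)]
  have hD0 : (D : V ≃ₗ[F] V) (e 0) = -e 0 := by
    rw [hD, Subgroup.coe_mul, mul_app, rO_fix (H.orth em 0 (single_ne m)),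
      rO_self (by rw [H.val]; exact H.c0)]
  have hcomp : ∀ {v v' : Pts k} (r : Fin k), v r ≠ v' r → v ≠ v' := fun r h h' => h (congrFun h' r)
  have hDc : (D : V ≃ₗ[F] V) c' = c' := by
    rw [hc, map_smul, map_add, map_add, map_add,
      hDfix el (single_ne l) (single_inj hlm),
      hDfix (el + ej) (pair_ne hjl.symm) (hcomp l (by simp [el, ej, em, hlm, hjl.symm])),
      hDfix (el + ei) (pair_ne hil.symm) (hcomp l (by simp [el, ei, em, hlm, hil.symm])),
      hDfix (el + ej + ei) (hcomp l (by simp [el, ej, ei, hjl.symm, hil.symm]))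
        (hcomp l (by simp [el, ej, ei, em, hlm, hjl.symm, hil.symm]))]
  set a' := (D : V ≃ₗ[F] V) a with ha'_def
  have ha' : a' = (2 : F)⁻¹ • (-e 0 + e ej + (e ei + e (ej + ei))) := by
    rw [ha'_def, ha, map_smul, map_add, map_add, map_add, hD0, hDfix ej h0j.symm (single_inj hjm),
      hDfix ei h0i.symm (single_inj him),
      hDfix (ej + ei) h0ji.symm (hcomp m (by simp [ej, ei, em, hjm.symm, him.symm]))]
  set P := rO Q a * rO Q c' with hP
  have hPX : P ∈ X := by
    have := X.mul_mem (X.mul_mem hTX (pair_X H hX hall 0 el)) (X.inv_mem hTX)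
    rwa [show T * (rO Q (e 0) * rO Q (e el)) * T⁻¹ = T * rO Q (e 0) * T⁻¹ * (T * rO Q (e el) * T⁻¹) by group,
      conj_rO, conj_rO] at this
  set g := rO Q a' * rO Q a
  have hg : g ∈ X := by
    have h' : D * P * D⁻¹ * P⁻¹ = g := by
      rw [hP, show D * (rO Q a * rO Q c') * D⁻¹ = D * rO Q a * D⁻¹ * (D * rO Q c' * D⁻¹) by group, conj_rO,
        conj_rO, hDc, _root_.mul_inv_rev, rO_inv, rO_inv, mul_assoc, ← mul_assoc (rO Q c') (rO Q c'), rO_mul_self, one_mul]
    rw [← h']
    exact X.mul_mem (X.mul_mem (X.mul_mem hDX hPX) (X.inv_mem hDX)) (X.inv_mem hPX)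
  have hQa : Q a = c := by rw [ha_def, O.map_app, H.val]
  have hQa' : Q a' = c := by rw [ha'_def, O.map_app, hQa]
  have hsub : ∀ s ∈ A, e s ∈ H.sub A := fun s hs => H.e_mem_sub hs
  have haA : a ∈ H.sub A := by
    rw [ha]
    exact Submodule.smul_mem _ _ (add_mem (add_mem (hsub _ (by simp [A])) (hsub _ (by simp [A])))
      (add_mem (hsub _ (by simp [A])) (hsub _ (by simp [A]))))
  have ha'A : a' ∈ H.sub A := by
    rw [ha']
    exact Submodule.smul_mem _ _ (add_mem (add_mem (neg_mem (hsub _ (by simp [A]))) (hsub _ (by simp [A])))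
      (add_mem (hsub _ (by simp [A])) (hsub _ (by simp [A]))))
  refine ⟨g, hg, fun hm => ?_, A, ONB.Supp.mul H (H.rO_supp ha'A) (H.rO_supp haA), ?_⟩
  · have hc0 : H.dot a (e 0) = (2 : F)⁻¹ := by
      rw [H.dot_comm, ← ONB.co, ha, H.co_smul, H.co_add, H.co_add, H.co_add, H.co_self, H.co_ne h0j, H.co_ne h0i,
        H.co_ne h0ji]
      simp
    have e1 : (rO Q a : V ≃ₗ[F] V) (e 0) = -a' := by
      rw [H.rO_unit hQa, hc0, mul_inv_cancel₀ H.two, one_smul, ha, ha']
      have h2 : (2 : F) * (2 : F)⁻¹ = 1 := mul_inv_cancel₀ H.two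
      match_scalars <;> ring_nf
      all_goals linear_combination -h2
    have e2 : (g : V ≃ₗ[F] V) (e 0) = a' := by
      rw [Subgroup.coe_mul, mul_app, e1, map_neg, rO_self (by rw [hQa']; exact H.c0), neg_neg]
    obtain ⟨q, hq⟩ := ONB.Ax.eq H (hm 0) (by rw [O.map_app, H.val])
    rw [e2] at hq
    have cj : H.co ej a' = (2 : F)⁻¹ := by
      rw [ha', H.co_smul, H.co_add, H.co_add, H.co_add, H.co_neg, H.co_self, H.co_ne h0j.symm,
        H.co_ne (single_inj hij.symm), H.co_ne (fun h => single_ne i (add_eq_left.1 h.symm))]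
      simp
    have ci : H.co ei a' = (2 : F)⁻¹ := by
      rw [ha', H.co_smul, H.co_add, H.co_add, H.co_add, H.co_neg, H.co_self, H.co_ne h0i.symm,
        H.co_ne (single_inj hij), H.co_ne (fun h => single_ne j (add_eq_right.1 h.symm))]
      simp
    have hz : ∀ r, r ≠ q → H.co r a' = 0 := fun r hr => by
      rcases hq with h | h <;> rw [h]
      · exact H.co_ne hr
      · rw [H.co_neg, H.co_ne hr, neg_zero]
    by_cases hqj : ej = q
    · exact inv_ne_zero H.two (ci.symm.trans (hz ei (hqj ▸ single_inj hij)))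
    · exact inv_ne_zero H.two (cj.symm.trans (hz ej hqj))
  · exact Finset.card_le_four

/-- All of the commutator subgroup. -/
theorem comm_le_of_all (hF : (Fintype.card F).Prime) : commutator (O Q) ≤ X := by
  classical
  have hk := hX.four
  obtain ⟨g, hg, hgm, A, hA, hA4⟩ := exists_small H hX hall
  have h16 : 16 ≤ 2 ^ k := le_trans (by norm_num) (Nat.pow_le_pow_right (by norm_num : 0 < 2) hk)
  have hcard : Fintype.card (Pts k) = 2 ^ k := by rw [Fintype.card_fun, Fintype.card_fin, ZMod.card]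
  set S : Set (O Q) := {x | ∃ z ∈ H.mono, z ∈ commutator (O Q) ∧ x = z * g * z⁻¹}
  set X0 := Subgroup.closure S
  have hX0 : X0 ≤ X := (Subgroup.closure_le X).2 (by
    rintro _ ⟨z, hz, -, rfl⟩
    exact conj_small H hX hall hg hA (by omega) hz)
  have hfd := H.finite
  have := finiteO H
  have hnorm : ∀ z ∈ H.mono, z ∈ commutator (O Q) → ∀ x ∈ X0, z * x * z⁻¹ ∈ X0 := by
    intro z hz hzc x hx
    have h1 : (MulAut.conj z).toMonoidHom x ∈ X0.map (MulAut.conj z).toMonoidHom := ⟨x, hx, rfl⟩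
    rw [MonoidHom.map_closure] at h1
    refine Subgroup.closure_mono ?_ h1
    rintro _ ⟨_, ⟨w, hw, hwc, rfl⟩, rfl⟩
    refine ⟨z * w, H.mono.mul_mem hz hw, mul_mem hzc hwc, ?_⟩
    show z * (w * g * w⁻¹) * z⁻¹ = _
    group
  set M := Subgroup.normalizer (X0 : Set (O Q)) ⊓ commutator (O Q)
  have hM : H97.Frame.Over H M := ⟨fun z hz hzc => by
    refine ⟨Subgroup.mem_normalizer_iff.2 fun x => ⟨hnorm z hz hzc x, fun hx => ?_⟩, hzc⟩
    have h := hnorm z⁻¹ (H.mono.inv_mem hz) (inv_mem hzc) _ hx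
    rwa [show z⁻¹ * (z * x * z⁻¹) * z⁻¹⁻¹ = x by group] at h⟩
  have hg0 : g ∈ X0 := Subgroup.subset_closure ⟨1, H.mono.one_mem, one_mem _, by group⟩
  have hsie := hM.sieGroup_le hF (by omega) (g := g) ⟨Subgroup.le_normalizer hg0, hX.le hg⟩ hgm hA hA4
  have hn5 : 5 ≤ finrank F V := by rw [H.finrank_eq]; omega
  rw [sieGroup_eq_commutator H.nondeg hn5] at hsie
  rcases normal_cases H.nondeg hn5 X0 (hX0.trans hX.le) (fun x hx n hn =>
    (Subgroup.mem_normalizer_iff.1 (hsie hx).1 n).1 hn) with h | h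
  · obtain ⟨s, hs⟩ := h g hg0
    exact absurd (fun i => by rw [hs]; exact ONB.Ax.smul H (H.ax_e i) s) hgm
  · exact h ▸ hX0

end Coord

end Cfsg.Agent.H58.CSixPlus
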