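import Cfsg.Agent.H58.CSixPlus.Model
import Cfsg.Agent.H46.SympExpFour
import Cfsg.Agent.Aschbacher.Subfield

/-!
The frame of an absolutely irreducible symplectic type group of plus type, and a hyperbolic basis of its space.
-/

set_option autoImplicit false
set_option linter.unusedSectionVars false

namespace Cfsg.Agent.H58.CSixPlus

open Matrix Module
open Cfsg.Agent.H57.CSix (W z2_cases z2_self z2_ne_zero z2_ne_one vadd_self vadd_eq_zero vadd_cancel vadd_cancel'
  smul_cases PM sg sg_zero sg_one sg_PM sg_add mul_sg sg_mul sg_sg)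

variable {ι : Type} [Fintype ι] [DecidableEq ι] {F : Type*} [Field F] {k : ℕ}
variable {R : Subgroup (GL ι F)}

/-- A frame from the signs of squares and commutators. -/
theorem exists_frame [Nonempty ι] (h2 : (2 : F) ≠ 0) (hneg : (-1 : GL ι F) ∈ R)
    (hsq : ∀ y ∈ R, PM (y * y) 1) (hcomm : ∀ x ∈ R, ∀ y ∈ R, PM (x * y) (y * x))
    (hcard : Nat.card R = 2 ^ (1 + 2 * k)) (hZ : Nat.card (Subgroup.center R) = 2)
    (hplus : Cfsg.Geo.IsOfPlusType k R) (hspan : Submodule.span F (Cfsg.Geo.matrixSet R) = ⊤) :
    Nonempty (Frame k R) := by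
  classical
  haveI : Finite R := Nat.finite_of_card_ne_zero (by rw [hcard]; positivity)
  have hne : ∀ g : GL ι F, g ≠ -g := fun g h => by
    obtain ⟨i⟩ := ‹Nonempty ι›
    have h1 : (1 : GL ι F) = -1 := by simpa using congrArg (g⁻¹ * ·) h
    have h2' : (1 : F) = -1 := by
      simpa using congrFun (congrFun (congrArg (fun x : GL ι F => (x : Matrix ι ι F)) h1) i) i
    exact h2 (by linear_combination h2')
  have hinj : ∀ {x y : ZMod 2} {g : GL ι F}, sg x g = sg y g → x = y := by
    intro x y g h
    rcases z2_cases x with rfl | rfl <;> rcases z2_cases y with rfl | rfl <;> try rfl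
    · exact absurd (by simpa [sg_zero, sg_one] using h) (hne g)
    · exact absurd (by simpa [sg_zero, sg_one] using h.symm) (hne g)
  -- the centre consists of the signs
  have hm1Z : (⟨-1, hneg⟩ : R) ∈ Subgroup.center R :=
    Subgroup.mem_center_iff.2 fun y => Subtype.ext (by simp)
  have hcen : ∀ x : R, x ∈ Subgroup.center R ↔ PM (x : GL ι F) 1 := by
    intro x
    constructor
    · intro hx
      by_contra hcon
      simp only [PM, not_or] at hcon
      haveI := Fintype.ofFinite (Subgroup.center R)
      have := Finset.card_le_univ ({1, ⟨⟨-1, hneg⟩, hm1Z⟩, ⟨x, hx⟩} : Finset (Subgroup.center R))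
      rw [Finset.card_insert_of_notMem, Finset.card_insert_of_notMem, Finset.card_singleton,
        ← Nat.card_eq_fintype_card, hZ] at this
      · omega
      · rw [Finset.mem_singleton]
        exact fun h => hcon.2 (congrArg (fun y : Subgroup.center R => ((y : R) : GL ι F)) h).symm
      · simp only [Finset.mem_insert, Finset.mem_singleton, not_or]
        exact ⟨fun h => hne 1 (congrArg (fun y : Subgroup.center R => ((y : R) : GL ι F)) h),
          fun h => hcon.1 (congrArg (fun y : Subgroup.center R => ((y : R) : GL ι F)) h).symm⟩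
    · intro h
      refine Subgroup.mem_center_iff.2 fun y => Subtype.ext ?_
      rcases h with e | e <;> simp [e]
  have hmk : ∀ a b : R, (a : R ⧸ Subgroup.center R) = b ↔ PM (a : GL ι F) b := by
    intro a b
    rw [QuotientGroup.eq, hcen, Subgroup.coe_mul, Subgroup.coe_inv]
    constructor
    · intro h
      have := (h.mul_left (a : GL ι F)).symm
      rwa [mul_inv_cancel_left, mul_one] at this
    · intro h
      have := (h.mul_left (a : GL ι F)⁻¹).symm
      rwa [inv_mul_cancel] at this
  letI : CommGroup (R ⧸ Subgroup.center R) :=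
    { (inferInstance : Group (R ⧸ Subgroup.center R)) with
      mul_comm := fun x y => by
        induction x using QuotientGroup.induction_on
        induction y using QuotientGroup.induction_on
        rw [← QuotientGroup.mk_mul, ← QuotientGroup.mk_mul, hmk]
        exact hcomm _ (Subtype.prop _) _ (Subtype.prop _) }
  have hexp : ∀ x : Additive (R ⧸ Subgroup.center R), 2 • x = 0 := by
    intro x
    apply Additive.toMul.injective
    rw [toMul_nsmul, toMul_zero, pow_two]
    induction (Additive.toMul x) using QuotientGroup.induction_on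
    rw [← QuotientGroup.mk_mul, ← QuotientGroup.mk_one, hmk]
    exact hsq _ (Subtype.prop _)
  letI : Module (ZMod 2) (Additive (R ⧸ Subgroup.center R)) := AddCommGroup.zmodModule hexp
  haveI : Finite (Additive (R ⧸ Subgroup.center R)) := inferInstanceAs (Finite (R ⧸ Subgroup.center R))
  haveI : Module.Finite (ZMod 2) (Additive (R ⧸ Subgroup.center R)) := Module.Finite.of_finite
  have hdim : finrank (ZMod 2) (Additive (R ⧸ Subgroup.center R)) = 2 * k := by
    have h1 := Subgroup.card_eq_card_quotient_mul_card_subgroup (Subgroup.center R)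
    have h2' := Module.natCard_eq_pow_finrank (K := ZMod 2) (V := Additive (R ⧸ Subgroup.center R))
    rw [Nat.card_congr (Additive.toMul), Nat.card_zmod] at h2'
    rw [hcard, hZ, h2', pow_add, pow_one, mul_comm 2] at h1
    exact (Nat.pow_right_injective le_rfl (Nat.eq_of_mul_eq_mul_right (by norm_num) h1)).symm
  let e : W k ≃ₗ[ZMod 2] Additive (R ⧸ Subgroup.center R) :=
    LinearEquiv.ofFinrankEq _ _ (by rw [QForm.finrank_W, hdim])
  let π : R → W k := fun x => e.symm (Additive.ofMul (x : R ⧸ Subgroup.center R))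
  have hπmul : ∀ x y, π (x * y) = π x + π y := fun x y => by
    show e.symm _ = _
    rw [QuotientGroup.mk_mul, ofMul_mul, map_add]
  have hπeq : ∀ {x y : R}, π x = π y ↔ PM (x : GL ι F) y := fun {x y} => by
    rw [← hmk]
    exact ⟨fun h => Additive.ofMul.injective (e.symm.injective h), fun h => congrArg (fun q => e.symm (Additive.ofMul q)) h⟩
  have hπ1 : π 1 = 0 := by
    show e.symm _ = 0
    rw [QuotientGroup.mk_one, ofMul_one, map_zero]
  have hex : ∀ w, ∃ g : R, π g = w ∧ (w = 0 → g = 1) := fun w => by
    by_cases hw : w = 0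
    · exact ⟨1, by rw [hπ1, hw], fun _ => rfl⟩
    · obtain ⟨g, hg⟩ := QuotientGroup.mk_surjective (Additive.toMul (e w))
      exact ⟨g, by show e.symm _ = w; rw [hg, ofMul_toMul, LinearEquiv.symm_apply_apply], fun h => absurd h hw⟩
  choose g hg hg0 using hex
  let cl : W k → GL ι F := fun w => (g w : GL ι F)
  have hclmul : ∀ v w, PM (cl v * cl w) (cl (v + w)) := fun v w =>
    hπeq.1 (show π (g v * g w) = π (g (v + w)) by rw [hπmul, hg, hg, hg])
  have hclx : ∀ x : R, PM (x : GL ι F) (cl (π x)) := fun x => hπeq.1 (hg (π x)).symm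
  let b : W k → W k → ZMod 2 := fun v w => if cl v * cl w = cl w * cl v then 0 else 1
  let qq : W k → ZMod 2 := fun v => if cl v * cl v = 1 then 0 else 1
  have hb : ∀ v w, cl v * cl w = sg (b v w) (cl w * cl v) := fun v w => by
    by_cases h : cl v * cl w = cl w * cl v
    · simp only [b, if_pos h, sg_zero]; exact h
    · simp only [b, if_neg h, sg_one]
      exact (hcomm _ (g v).2 _ (g w).2).resolve_left h
  have hq : ∀ v, cl v * cl v = sg (qq v) 1 := fun v => by
    by_cases h : cl v * cl v = 1
    · simp only [qq, if_pos h, sg_zero]; exact h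
    · simp only [qq, if_neg h, sg_one]
      exact (hsq _ (g v).2).resolve_left h
  have hbadd : ∀ u v w, b u (v + w) = b u v + b u w := fun u v w => by
    have h1 : cl u * (cl v * cl w) = sg (b u v + b u w) (cl v * cl w * cl u) := by
      rw [← mul_assoc, hb u v, sg_mul, mul_assoc, hb u w, mul_sg, ← sg_add, mul_assoc]
    rcases hclmul v w with hm | hm <;> rw [hm] at h1
    · exact hinj ((hb _ _).symm.trans h1)
    · rw [mul_neg, neg_mul, ← sg_one, ← sg_one] at h1
      have h2' := congrArg (sg 1) h1
      rw [sg_sg, ← sg_add, ← sg_add, show (1 : ZMod 2) + (b u v + b u w) + 1 = b u v + b u w by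
        linear_combination z2_self (1 : ZMod 2)] at h2'
      exact hinj ((hb _ _).symm.trans h2')
  have hbsymm : ∀ v w, b v w = b w v := fun v w => by
    have h := hb v w
    rw [hb w v, ← sg_add] at h
    exact vadd_eq_zero (hinj ((sg_zero _).trans h)).symm
  have hbadd' : ∀ u v w, b (u + v) w = b u w + b v w := fun u v w => by
    rw [hbsymm, hbadd, hbsymm w, hbsymm w]
  have hb0 : ∀ v, b v 0 = 0 := fun v => by
    have := hbadd v 0 0
    rw [add_zero, eq_comm, add_eq_left] at this
    exact this
  let B : LinearMap.BilinForm (ZMod 2) (W k) := LinearMap.mk₂ (ZMod 2) b hbadd'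
    (fun c u w => by
      rcases z2_cases c with rfl | rfl
      · rw [zero_smul, zero_smul, hbsymm, hb0]
      · rw [one_smul, one_smul]) hbadd
    (fun c u w => by
      rcases z2_cases c with rfl | rfl
      · rw [zero_smul, zero_smul, hb0]
      · rw [one_smul, one_smul])
  have hqadd : ∀ u v, qq (u + v) = qq u + qq v + b u v := fun u v => by
    refine hinj (g := (1 : GL ι F)) ?_
    rw [← hq, ← (hclmul u v).sq_eq]
    calc cl u * cl v * (cl u * cl v) = cl u * (cl v * cl u) * cl v := by simp only [mul_assoc]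
      _ = sg (b v u) (cl u * cl u * (cl v * cl v)) := by
        rw [hb v u, mul_sg, sg_mul]; simp only [mul_assoc]
      _ = _ := by
        rw [hq, hq, sg_mul, mul_sg, one_mul, ← sg_add, ← sg_add, hbsymm v u]
        congr 1
        ring
  have hnondeg : ∀ v, (∀ w, b v w = 0) → v = 0 := by
    intro v hv
    have hvZ : g v ∈ Subgroup.center R := Subgroup.mem_center_iff.2 fun x => Subtype.ext (by
      show (x : GL ι F) * cl v = cl v * x
      have h := hb v (π x)
      rw [hv, sg_zero] at h
      rcases hclx x with e' | e' <;> rw [e']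
      · exact h.symm
      · rw [neg_mul, mul_neg, h])
    rw [hcen] at hvZ
    rw [← hg v, ← hπ1, hπeq]
    exact hvZ
  let q : QForm k :=
    { B := B
      Q := qq
      Q_add := hqadd
      nondeg := ⟨fun v hv => hnondeg v hv, fun v hv => hnondeg v fun w => by rw [hbsymm]; exact hv w⟩
      plus := by
        obtain ⟨A, hAc, hA2, hA⟩ := hplus
        have hπ2 : ∀ c : ZMod 2, ∀ v : W k, c • v = 0 ∨ c • v = v := smul_cases
        let L : Submodule (ZMod 2) (W k) :=
          { carrier := {w | ∃ x ∈ A, π x = w}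
            zero_mem' := ⟨1, A.one_mem, hπ1⟩
            add_mem' := by
              rintro _ _ ⟨x, hx, rfl⟩ ⟨y, hy, rfl⟩
              exact ⟨x * y, A.mul_mem hx hy, hπmul x y⟩
            smul_mem' := by
              rintro c _ ⟨x, hx, rfl⟩
              rcases hπ2 c (π x) with h | h <;> rw [h]
              exacts [⟨1, A.one_mem, hπ1⟩, ⟨x, hx, rfl⟩] }
        have hL : ∀ v ∈ L, qq v = 0 := by
          rintro _ ⟨x, hx, rfl⟩
          refine hinj (g := (1 : GL ι F)) ?_
          rw [← hq, ← (hclx x).sq_eq, ← Subgroup.coe_mul, hA2 x hx, sg_zero]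
          rfl
        have hle : L ≤ B.orthogonal L := fun v hv => LinearMap.BilinForm.mem_orthogonal_iff.2 fun u hu => by
          show b u v = 0
          have := hqadd u v
          rw [hL u hu, hL v hv, hL _ (L.add_mem hu hv), add_zero, zero_add] at this
          exact this.symm
        have hB : B.Nondegenerate :=
          ⟨fun v hv => hnondeg v hv, fun v hv => hnondeg v fun w => by rw [hbsymm]; exact hv w⟩
        have h1 := LinearMap.BilinForm.finrank_orthogonal hB L
        have h2' := Submodule.finrank_mono hle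
        have h3 := Submodule.finrank_le L
        rw [show finrank (ZMod 2) (W k) = 2 * k by simp] at h1 h3
        refine ⟨L, hL, le_antisymm (by omega) ?_⟩
        haveI : Finite A := inferInstance
        have hinj' : Function.Injective (fun x : A =>
            ((if ((x : R) : GL ι F) = cl (π x) then (0 : ZMod 2) else 1), (⟨π x, x, x.2, rfl⟩ : L))) := by
          intro x y h
          simp only [Prod.mk.injEq, Subtype.mk.injEq] at h
          have hxy := hπeq.1 h.2
          refine Subtype.ext (Subtype.ext ?_)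
          rcases hxy with h' | h'
          · exact h'
          · have hxc := hclx (x : R)
            have hyc := hclx (y : R)
            rw [h.2] at hxc
            have h1' := h.1
            rw [h.2] at h1'
            rcases hxc with e1 | e1 <;> rcases hyc with e2 | e2 <;>
              first
              | exact e1.trans e2.symm
              | (rw [e1, e2] at h1'; simp [(hne (cl (π (y : R)))).symm] at h1')
        have hc := Nat.card_le_card_of_injective _ hinj'
        rw [hA, Nat.card_prod, Nat.card_zmod, Module.natCard_eq_pow_finrank (K := ZMod 2) (V := L), Nat.card_zmod,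
          ← pow_succ'] at hc
        have := (Nat.pow_le_pow_iff_right (show 1 < 2 by norm_num)).1 hc
        omega }
  refine ⟨⟨h2, ‹_›, q, cl, hneg, fun w => (g w).2, fun x hx => ⟨π ⟨x, hx⟩, hclx ⟨x, hx⟩⟩,
    by show ((g 0 : R) : GL ι F) = 1; rw [hg0 0 rfl]; rfl, hclmul, hq, hb, ?_⟩⟩
  rw [eq_top_iff, ← hspan, Submodule.span_le]
  rintro _ ⟨x, hx, rfl⟩
  rcases hclx ⟨x, hx⟩ with e' | e' <;> rw [show x = _ from e']
  · exact Submodule.subset_span ⟨_, rfl⟩
  · show ((-cl _ : GL ι F) : Matrix ι ι F) ∈ _
    rw [Units.val_neg]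
    exact Submodule.neg_mem _ (Submodule.subset_span ⟨_, rfl⟩)

variable [Fintype F]

/-- The frame from the defining predicates. -/
theorem frame_of_hyps [Nonempty ι] (h2 : (2 : F) ≠ 0) (hRs : Cfsg.Geo.IsSymplecticTypeGroup 2 R)
    (hRi : Cfsg.Geo.ActsAbsolutelyIrreducibly (Cfsg.Geo.matrixSet R)) (hcard : Nat.card R = 2 ^ (1 + 2 * k))
    (hZ : Nat.card (Subgroup.center R) = 2) (hplus : Cfsg.Geo.IsOfPlusType k R) : Nonempty (Frame k R) := by
  classical
  haveI : Finite R := Nat.finite_of_card_ne_zero (by rw [hcard]; positivity)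
  obtain ⟨⟨z, hz⟩, hz1⟩ : ∃ z : Subgroup.center R, z ≠ 1 := by
    haveI : Nontrivial (Subgroup.center R) := Finite.one_lt_card_iff_nontrivial.1 (by omega)
    exact exists_ne 1
  have hzne : z ≠ 1 := fun h => hz1 (Subtype.ext h)
  have hz2 : z ^ 2 = 1 := by
    have := pow_card_eq_one' (x := (⟨z, hz⟩ : Subgroup.center R))
    rw [hZ] at this
    exact congrArg Subtype.val this
  have h4 : ∀ x : R, x ^ 4 = 1 := fun x => by
    have := Monoid.pow_exponent_eq_one x
    rwa [hRs.exponent_eq] at this
  obtain ⟨hphi, -⟩ := H46.symp_exp_four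
    ⟨hRs.pGroup, fun A hA hA' => hRs.cyclic_of_characteristic A hA hA'⟩ h4 hz hz2 hzne
  obtain ⟨c, hc⟩ := hRi.2 ((z : GL ι F) : Matrix ι ι F) (by
    rintro _ ⟨y, hy, rfl⟩
    have := congrArg (fun w : R => ((w : GL ι F) : Matrix ι ι F)) (Subgroup.mem_center_iff.1 hz ⟨y, hy⟩)
    simpa [Subgroup.coe_mul, Units.val_mul] using this.symm)
  obtain ⟨i⟩ := ‹Nonempty ι›
  have hzv : (z : GL ι F) = -1 := by
    have hc2 : c ^ 2 = 1 := by
      have h1 : ((z : GL ι F) : Matrix ι ι F) ^ 2 = 1 := by
        rw [← Units.val_pow_eq_pow_val, ← Subgroup.coe_pow, hz2]; rfl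
      rw [hc, smul_pow, one_pow] at h1
      simpa using congrFun (congrFun h1 i) i
    rcases sq_eq_one_iff.1 hc2 with h | h
    · rw [h, one_smul] at hc
      exact absurd (Subtype.ext (Units.ext hc)) hzne
    · exact Units.ext (by rw [hc, h, neg_one_smul, Units.val_neg, Units.val_one])
  refine exists_frame h2 (hzv ▸ z.2) (fun y hy => ?_) (fun x hx y hy => ?_) hcard hZ hplus
    (Aschbacher.span_eq_top hRi)
  · rcases hphi.1 ⟨y, hy⟩ with h | h
    · exact Or.inl (by simpa [sq] using congrArg Subtype.val h)
    · exact Or.inr (by simpa [sq, hzv] using congrArg Subtype.val h)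
  · rcases hphi.2 ⟨x, hx⟩ ⟨y, hy⟩ with h | h
    · exact Or.inl (by
        have := congrArg Subtype.val h
        simp only [Subgroup.coe_mul, Subgroup.coe_inv, OneMemClass.coe_one] at this
        rwa [mul_inv_eq_one, mul_inv_eq_iff_eq_mul] at this)
    · exact Or.inr (by
        have := congrArg Subtype.val h
        simp only [Subgroup.coe_mul, Subgroup.coe_inv, hzv] at this
        rwa [mul_inv_eq_iff_eq_mul, mul_inv_eq_iff_eq_mul, neg_one_mul, neg_mul] at this)

/-- A hyperbolic basis. -/
theorem QForm.exists_hyperbolic (q : QForm k) :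
    ∃ l m : Fin k → W k, (∀ a, q.Q (l a) = 0) ∧ (∀ a, q.Q (m a) = 0) ∧ (∀ a b, q.B (l a) (l b) = 0) ∧
      (∀ a b, q.B (m a) (m b) = 0) ∧ (∀ a, q.B (l a) (m a) = 1) ∧ (∀ a b, a ≠ b → q.B (l a) (m b) = 0) := by
  classical
  obtain ⟨L, hL, hLk⟩ := q.plus
  let bs := (Module.finBasis (ZMod 2) L).reindex (finCongr hLk)
  have hLi := QForm.Singular.isotropic (q := q) hL
  have hex : ∀ a : Fin k, ∃ m : W k, ∀ b, q.B m (bs b) = if b = a then 1 else 0 := fun a => by
    obtain ⟨g, hg⟩ := LinearMap.exists_extend (bs.coord a)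
    refine ⟨(q.B.toDual q.nondeg).symm g, fun b => ?_⟩
    rw [LinearMap.BilinForm.apply_toDual_symm_apply, show g (bs b : W k) = bs.coord a (bs b) from
      LinearMap.congr_fun hg (bs b), Basis.coord_apply, Basis.repr_self, Finsupp.single_apply]
  choose m hm using hex
  let cc : Fin k → Fin k → ZMod 2 := fun a b => if a < b then q.B (m a) (m b) else if a = b then q.Q (m a) else 0
  let s : Fin k → W k := fun a => ∑ b, cc a b • (bs b : W k)
  have hsL : ∀ a, s a ∈ L := fun a => Submodule.sum_mem _ fun b _ => Submodule.smul_mem _ _ (bs b).2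
  have hms : ∀ a a', q.B (m a) (s a') = cc a' a := fun a a' => by
    simp only [s, map_sum, map_smul, hm, smul_eq_mul]
    rw [Finset.sum_eq_single a (fun b _ hb => by rw [if_neg hb, mul_zero])
      (fun h => absurd (Finset.mem_univ a) h), if_pos rfl, mul_one]
  refine ⟨fun a => bs a, fun a => m a + s a, fun a => hL _ (bs a).2, fun a => ?_,
    fun a b => hLi _ (bs a).2 _ (bs b).2, fun a b => ?_, fun a => ?_, fun a b hab => ?_⟩
  · rw [q.Q_add, hms, hL _ (hsL a)]
    simp [cc, z2_self]
  · rcases eq_or_ne a b with rfl | hab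
    · exact q.B_self _
    simp only [map_add, LinearMap.add_apply]
    rw [hms, hLi _ (hsL a) _ (hsL b), q.B_symm (s a), hms, add_zero]
    rcases lt_or_gt_of_ne hab with h | h
    · simp [cc, h, not_lt_of_gt h, hab, hab.symm, z2_self]
    · simp [cc, h, not_lt_of_gt h, hab, hab.symm, z2_self, q.B_symm (m b) (m a)]
  · rw [map_add, hLi _ (bs a).2 _ (hsL a), add_zero, q.B_symm, hm, if_pos rfl]
  · rw [map_add, hLi _ (bs a).2 _ (hsL b), add_zero, q.B_symm, hm, if_neg hab]

end Cfsg.Agent.H58.CSixPlus
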