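import Cfsg.Agent.H58.CSixPlus.Start

/-!
An element outside the normaliser fixing a singular element up to sign gives a nonscalar element on a quarter,
hence a sign change on a smaller block.
-/

set_option autoImplicit false
set_option linter.unusedSectionVars false

namespace Cfsg.Agent.H58.CSixPlus

open QuadraticMap Module Cfsg.Agent.Orthogonal
open Cfsg.Agent.H97.Frame (ONB)
open Cfsg.Agent.H12.CSix (bsign bsign_zero bsign_one bsign_add bsign_sq bsign_ne bit_cases)
open Matrix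

variable {F V : Type*} [Field F] [Fintype F] [AddCommGroup V] [Module F V] {k : ℕ}
variable {Q : QuadraticForm F V} {e : Pts k → V} {c : F}

namespace Coord

open Bit

variable (H : ONB Q e c)
include H

variable {X : Subgroup (O Q)} (hX : Hyp H X)
include hX

/-- An element fixing a singular label up to sign can be taken to commute with an inner sign change. -/
theorem exists_exact {J : Finset (Fin k)} (hJ : J.card + 2 ≤ k) {x : O Q} (hx : x ∈ X) (hxB : x ∈ blkG H J)
    (hxN : x ∉ Subgroup.normalizer (pauli H : Set (O Q))) {a b : Pts k} (ha : Off J a) (hb : Off J b)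
    (h0 : a ≠ 0 ∨ b ≠ 0) (hs : a ⬝ᵥ b = 0) (hm : Mv H J x (a, b) (a, b))
    (hP : ∀ l ∉ J, cP H J 0 (Pi.single l 1) 0 ∈ X ∧
      cP H J 0 (Pi.single l 1) 0 ∈ Subgroup.normalizer (pauli H : Set (O Q))) :
    ∃ l ∉ J, ∃ y ∈ X, y ∈ blkG H J ∧ y ∉ Subgroup.normalizer (pauli H : Set (O Q)) ∧
      y * Dsg H (insert l J) = Dsg H (insert l J) * y := by
  set N := Subgroup.normalizer (pauli H : Set (O Q))
  obtain ⟨l, hl, -⟩ := Finset.one_lt_card.1 (show 1 < Jᶜ.card by rw [Finset.card_compl, Fintype.card_fin]; omega)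
  rw [Finset.mem_compl] at hl
  obtain ⟨g, hgX, hgN, hgD, hga⟩ := (sim_normal H hX hJ hl ha hb h0).1 hs
  have hxD := blkG_comm H hxB
  have hgi : g⁻¹ * Dsg H J = Dsg H J * g⁻¹ := ((show Commute g _ from hgD).inv_left).eq
  have hz : Off J (((Pi.single l 1 : Pts k), (0 : Pts k)) : Pts k × Pts k).2 := off_zero J
  have hb' : Off J ((a, b) : Pts k × Pts k).2 := hb
  obtain ⟨d0, hd0⟩ := hga 0
  have hg1 : Mv H J g (a, b) (Pi.single l 1, 0) := ⟨d0, hd0⟩
  have hm1 := Mv.comp H hgD hb' hz (Mv.comp H hxD hb' hb' (Mv.symm H hgD hb' hz hg1) hm) hg1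
  set x1 := g * (x * g⁻¹) with hx1
  have hx1X : x1 ∈ X := X.mul_mem hgX (X.mul_mem hx (X.inv_mem hgX))
  have hx1B : x1 ∈ blkG H J := by rw [hx1, ← mul_assoc]; exact blkG_conj H hgD hxB
  have hx1N : x1 ∉ N := fun h => hxN (by
    have := N.mul_mem (N.mul_mem (N.inv_mem hgN) h) hgN
    rwa [hx1, show g⁻¹ * (g * (x * g⁻¹)) * g = x by group] at this)
  refine ⟨l, hl, ?_⟩
  rw [← cP_insert H hl]
  obtain ⟨d, hd⟩ := hm1
  rcases bit_cases d with rfl | rfl
  · exact ⟨x1, hx1X, hx1B, hx1N, hd⟩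
  obtain ⟨hwX, hwN⟩ := hP l hl
  set w := cP H J 0 (Pi.single l 1) 0 with hw
  refine ⟨x1 * w, X.mul_mem hx1X hwX, mul_mem hx1B (cP_blk H 0 (off_single hl) 0),
    fun h => hx1N (by simpa using N.mul_mem h (N.inv_mem hwN)), ?_⟩
  have hc : w * cP H J (Pi.single l 1) 0 0 = cP H J 0 0 1 * (cP H J (Pi.single l 1) 0 0 * w) := by
    rw [hw, cP_comm H 0 (Pi.single l 1) (off_single hl) (off_zero J) 0 0]
    simp
  have hcc : cP H J 0 0 1 * cP H J 0 0 1 = 1 := Dsg_sq H J
  have hd' : x1 * cP H J (Pi.single l 1) 0 0 = cP H J 0 0 1 * cP H J (Pi.single l 1) 0 0 * x1 := by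
    rw [← cP_split H _ (off_zero J) 1]; exact hd
  calc x1 * w * cP H J (Pi.single l 1) 0 0 = x1 * cP H J 0 0 1 * (cP H J (Pi.single l 1) 0 0 * w) := by
        rw [mul_assoc x1, hc, ← mul_assoc x1]
    _ = cP H J 0 0 1 * (x1 * cP H J (Pi.single l 1) 0 0) * w := by
        rw [Dsg_comm_scl H (blkG_comm H hx1B)]; simp only [mul_assoc]
    _ = cP H J 0 0 1 * cP H J 0 0 1 * cP H J (Pi.single l 1) 0 0 * x1 * w := by rw [hd']; simp only [mul_assoc]
    _ = cP H J (Pi.single l 1) 0 0 * (x1 * w) := by rw [hcc, one_mul, mul_assoc]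

/-- The normaliser of a half is not self-centralising on a quarter. -/
theorem exists_nontriv {i l : Fin k} (hl : l ∉ ({i} : Finset (Fin k))) {y : O Q} (hy : y ∈ X) (hyB : y ∈ blkG H {i})
    (hyN : y ∉ Subgroup.normalizer (pauli H : Set (O Q)))
    (hyD : y * Dsg H (insert l {i}) = Dsg H (insert l {i}) * y) : Nontriv H X (insert l {i}) := by
  classical
  by_contra hno
  have hscl : ∀ z ∈ X, z ∈ blkG H (insert l {i}) → z ∈ scl H (insert l {i}) := fun z hz hzB =>
    by_contra fun h => hno ⟨z, hz, hzB, h⟩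
  set N := Subgroup.normalizer (pauli H : Set (O Q))
  set J := insert l ({i} : Finset (Fin k)) with hJ
  obtain ⟨g, hg, hgy⟩ := exists_glue H hyD
  have hlJ : l ∈ J := Finset.mem_insert_self l _
  have hchi : ∀ s, chi J s = s l * s i := fun s => by rw [hJ, chi_insert hl, chi_one]
  have hcomm : ∀ p ∈ pauliOff H J, p * g * p⁻¹ * g⁻¹ ∈ scl H J := by
    rintro _ ⟨a, b, d, hb, rfl⟩
    set p := cP H ∅ a b d
    set u := cP H {l} a b d
    have hbl : b l = 0 := hb l hlJ
    have hbi : b i = 0 := hb i (Finset.mem_insert_of_mem (Finset.mem_singleton_self i))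
    have hbL : Off {l} b := fun j hj => by rw [Finset.mem_singleton.1 hj]; exact hbl
    have huX : u ∈ X := cP_one_X H hX l hbl d
    have hu1 : ∀ s, chi J s = 1 → (u : V ≃ₗ[F] V) (e s) = (p : V ≃ₗ[F] V) (e s) := fun s hs => by
      rw [hchi] at hs
      have : s l = 1 := (bit_cases _).resolve_left fun h => by rw [h, zero_mul] at hs; exact zero_ne_one hs
      rw [cP_app H a hbL, cP_app H a (off_empty b), chi_one, chi_empty, this]
    have huD : u * Dsg H J = Dsg H J * u := H.ext_e fun s => by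
      simp only [Subgroup.coe_mul, mul_app, Dsg_app, map_smul, cP_app H a hbL, u, smul_smul]
      rw [show chi J (s + chi {l} s • b) = chi J s by
        simp only [hchi, Pi.add_apply, Pi.smul_apply, hbl, hbi, smul_zero, add_zero]]
      rw [mul_comm]
    have hqX : u * y * u⁻¹ * y⁻¹ ∈ X := X.mul_mem (X.mul_mem (X.mul_mem huX hy) (X.inv_mem huX)) (X.inv_mem hy)
    have hyi : y⁻¹ * Dsg H J = Dsg H J * y⁻¹ := ((show Commute y _ from hyD).inv_left).eq
    have hui : u⁻¹ * Dsg H J = Dsg H J * u⁻¹ := ((show Commute u _ from huD).inv_left).eq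
    have huI : u * Dsg H {i} = Dsg H {i} * u := H.ext_e fun s => by
      simp only [Subgroup.coe_mul, mul_app, Dsg_app, map_smul, cP_app H a hbL, u, smul_smul]
      rw [show chi {i} (s + chi {l} s • b) = chi {i} s by
        simp only [chi_one, Pi.add_apply, Pi.smul_apply, hbi, smul_zero, add_zero]]
      rw [mul_comm]
    have hqI : u * y * u⁻¹ * y⁻¹ ∈ blkG H {i} :=
      (blkG H {i}).mul_mem (blkG_conj H huI hyB) ((blkG H {i}).inv_mem hyB)
    have hqB : u * y * u⁻¹ * y⁻¹ ∈ blkG H J := by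
      refine blkG_of_fix H fun s hs => ?_
      rcases bit_cases (chi {i} s) with hi | hi
      · exact blkG_fix H hqI hi
      have hsl : s l = 0 := by rw [hchi, ← chi_one (i := i) s, hi, mul_one] at hs; exact hs
      have hufix : ∀ t, t l = 0 → (u : V ≃ₗ[F] V) (e t) = e t := fun t ht =>
        blkG_fix H (cP_blk H a hbL d) (by rw [chi_one, ht])
      have huifix : ∀ t, t l = 0 → ((u⁻¹ : O Q) : V ≃ₗ[F] V) (e t) = e t := fun t ht =>
        blkG_fix H ((blkG H {l}).inv_mem (cP_blk H a hbL d)) (by rw [chi_one, ht])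
      set w := ((y⁻¹ : O Q) : V ≃ₗ[F] V) (e s) with hw
      have hco : ∀ t, t l ≠ 0 → H.co t w = 0 := fun t ht => by
        rcases bit_cases (chi {i} t) with h | h
        · exact blkG_co H ((blkG H {i}).inv_mem hyB) hi h
        · refine co_of_comm H hyi ?_
          rw [hs, hchi, (bit_cases _).resolve_left ht, one_mul, ← chi_one (i := i) t, h]
          exact zero_ne_one
      have hwfix : ((u⁻¹ : O Q) : V ≃ₗ[F] V) w = w := by
        rw [H.eq_sum w, map_sum]
        refine Finset.sum_congr rfl fun t _ => ?_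
        rw [map_smul]
        rcases eq_or_ne (t l) 0 with ht | ht
        · rw [huifix t ht]
        · rw [hco t ht, zero_smul, zero_smul]
      rw [Subgroup.coe_mul, mul_app, Subgroup.coe_mul, mul_app, Subgroup.coe_mul, mul_app, ← hw, hwfix, hw,
        ← mul_app (y : V ≃ₗ[F] V), ← Subgroup.coe_mul, mul_inv_cancel]
      exact hufix s hsl
    set q := u * y * u⁻¹ * y⁻¹ with hq
    have hqs := hscl q hqX hqB
    have key : p * g = q * g * p := H.ext_e fun s => by
      simp only [Subgroup.coe_mul, mul_app]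
      have hps : chi J (s + b) = chi J s := chi_add hb s
      have hpe : (p : V ≃ₗ[F] V) (e s) = (bsign (a ⬝ᵥ s + d) : F) • e (s + b) := by
        rw [cP_app H a (off_empty b)]; simp [chi_empty]
      rcases bit_cases (chi J s) with h | h
      · rw [blkG_fix H hg h, hpe, map_smul, map_smul, blkG_fix H hg (hps.trans h),
          blkG_fix H hqB (hps.trans h)]
      · have hgs : ∀ t, chi J t = 0 → H.co t ((g : V ≃ₗ[F] V) (e s)) = 0 := fun t ht => blkG_co H hg h ht
        rw [← agree H hu1 hgs, hgy s h, hpe, map_smul, map_smul, hgy _ (hps.trans h), ← map_smul, ← map_smul, ← hpe,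
          ← hu1 s h, ← mul_app (u : V ≃ₗ[F] V), ← Subgroup.coe_mul, ← mul_app (y : V ≃ₗ[F] V), ← Subgroup.coe_mul,
          ← mul_app (q : V ≃ₗ[F] V), ← Subgroup.coe_mul, hq,
          show u * y * u⁻¹ * y⁻¹ * (y * u) = u * y by group]
    rw [key, mul_inv_cancel_right, mul_inv_cancel_right]
    exact hqs
  obtain ⟨a, b, d, ha, hb, hgc⟩ := eq_cP H hg hcomm
  have hbI : Off {i} b := hb.anti (fun j hj => Finset.mem_insert_of_mem hj)
  have hcX : cP H {i} a b d ∈ X := cP_one_X H hX i (hbI i (Finset.mem_singleton_self i)) d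
  set z := (cP H {i} a b d)⁻¹ * y
  have hzX : z ∈ X := X.mul_mem (X.inv_mem hcX) hy
  have hzB : z ∈ blkG H {i} := mul_mem ((blkG H {i}).inv_mem (cP_blk H a hbI d)) hyB
  have hzfix : ∀ s, chi J s = 1 → (z : V ≃ₗ[F] V) (e s) = e s := fun s hs => by
    have h1 : (cP H {i} a b d : V ≃ₗ[F] V) (e s) = (y : V ≃ₗ[F] V) (e s) := by
      rw [← hgy s hs, hgc, cP_app H a hb, cP_app H a hbI, hs]
      rw [hchi] at hs
      have : s i = 1 := (bit_cases _).resolve_left fun h => by rw [h, mul_zero] at hs; exact zero_ne_one hs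
      rw [chi_one, this]
    rw [Subgroup.coe_mul, mul_app, ← h1, ← mul_app, ← Subgroup.coe_mul, inv_mul_cancel]; rfl
  set W := cP H ∅ 0 (Pi.single l 1) 0
  have hWX : W ∈ X := cP_X H hX 0
  have hWN : W ∈ N := Subgroup.le_normalizer (cP_mem_pauli H _ _ _)
  have hW2 : W * W = 1 := W_sq H _
  have hWe : ∀ s : Pts k, (W : V ≃ₗ[F] V) (e s) = e (s + Pi.single l 1) := fun s => by
    rw [cP_app H 0 (off_empty _)]; simp [chi_empty, bsign_zero]
  have hil : i ≠ l := fun h => hl (by rw [h]; exact Finset.mem_singleton_self l)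
  have hB' : W * z * W ∈ blkG H J := blkG_of_fix H fun s hs => by
    rw [Subgroup.coe_mul, mul_app, hWe, Subgroup.coe_mul, mul_app]
    rw [hchi] at hs
    rcases bit_cases (s i) with h | h
    · rw [blkG_fix H hzB (by rw [chi_one]; simp [h, Ne.symm hil, hil]), hWe, add_assoc, Bit.vtwo, add_zero]
    · rw [h, mul_one] at hs
      rw [hzfix _ (by simp [hchi, h, hs, hil, hil.symm]), hWe, add_assoc, Bit.vtwo, add_zero]
  have hDN : Dsg H J ∈ N := by
    rw [hJ, ← cP_insert H hl]; exact cP_half_nrm H _ (off_zero _) 0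
  have h1 : W * z * W ∈ N := by
    rcases hscl _ (X.mul_mem (X.mul_mem hWX hzX) hWX) hB' with h | h <;> rw [h]
    exacts [N.one_mem, hDN]
  have h2 := N.mul_mem (N.mul_mem hWN h1) hWN
  rw [show W * (W * z * W) * W = W * W * z * (W * W) by group, hW2, one_mul, mul_one] at h2
  refine hyN ?_
  have := N.mul_mem (cP_half_nrm H a hbI d : cP H {i} a b d ∈ N) h2
  rwa [mul_inv_cancel_left] at this

/-- An element outside the normaliser fixing a singular element up to sign gives a small sign change. -/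
theorem exists_dsg {x : O Q} (hx : x ∈ X) (hxN : x ∉ Subgroup.normalizer (pauli H : Set (O Q))) {a b : Pts k}
    (h0 : a ≠ 0 ∨ b ≠ 0) (hs : a ⬝ᵥ b = 0) (hm : Mv H ∅ x (a, b) (a, b)) :
    ∃ J : Finset (Fin k), 3 ≤ J.card ∧ J.card + 1 ≤ k ∧ Dsg H J ∈ X := by
  have hk := hX.four
  have hall : ∀ z : O Q, z ∈ blkG H (∅ : Finset (Fin k)) := fun z => blkG_of_fix H fun s hs => by
    rw [chi_empty] at hs; exact absurd hs one_ne_zero
  obtain ⟨i, -, y, hy, -, hyN, hyD⟩ := exists_exact H hX (J := ∅) (by simp; omega) hx (hall x) hxN (off_empty a)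
    (off_empty b) h0 hs hm fun l _ => ⟨cP_X H hX 0, Subgroup.le_normalizer (cP_mem_pauli H _ _ _)⟩
  rw [Finset.insert_empty] at hyD
  obtain ⟨y0, hy0, hy0B, hy0N⟩ := exists_half H hX hy hyN hyD
  obtain ⟨y1, hy1, hy1B, hy1N, a1, b1, ha1, hb1, h01, hs1, hm1⟩ := exists_commuting H hX hy0 hy0B hy0N
  have hm1' : Mv H {i} y1 (a1, b1) (a1, b1) := by
    set q := y1 * cP H {i} a1 b1 0 * y1⁻¹ * (cP H {i} a1 b1 0)⁻¹ with hq
    have e1 : y1 * cP H {i} a1 b1 0 = q * cP H {i} a1 b1 0 * y1 := by rw [hq]; group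
    rcases hm1 with h | h
    · exact ⟨0, by rw [e1, h, one_mul]⟩
    · exact ⟨1, by rw [e1, h, Dsg, ← cP_split H _ hb1]⟩
  obtain ⟨l, hl, y2, hy2, hy2B, hy2N, hy2D⟩ := exists_exact H hX (J := {i}) (by simp; omega) hy1 hy1B hy1N ha1 hb1
    h01 hs1 hm1' fun l hl =>
      ⟨cP_one_X H hX i (off_single hl i (Finset.mem_singleton_self i)) 0, cP_half_nrm H 0 (off_single hl) 0⟩
  have h2 : (insert l ({i} : Finset (Fin k))).card = 2 := by rw [Finset.card_insert_of_notMem hl, Finset.card_singleton]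
  exact dsg_of_nontriv H hX (by omega) (by omega) (exists_nontriv H hX hl hy2 hy2B hy2N hy2D)

end Coord

end Cfsg.Agent.H58.CSixPlus
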