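import Cfsg.Agent.H58.CSixPlus.Geo
import Cfsg.Agent.H58.CSixPlus.Central
import Cfsg.Agent.H58.CSixPlus.Quarter
import Cfsg.Agent.H58.CSixPlus.Gen
import Cfsg.Agent.H96.OmegaBridge

/-!
The coordinates of a frame of plus type and the maximality of its normaliser in Ω.
-/

set_option autoImplicit false
set_option linter.unusedSectionVars false

namespace Cfsg.Agent.H58.CSixPlus

open Matrix Module QuadraticMap Cfsg.Agent.Orthogonal
open Cfsg.Agent.H97.Frame (ONB)
open Cfsg.Agent.H12.CSix (bsign bsign_zero bsign_one bsign_add bsign_sq bsign_ne bit_cases)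
open Cfsg.Agent.H57.CSix (W z2_cases z2_self z2_ne_zero z2_ne_one vadd_self vadd_eq_zero PM sg sg_zero sg_one sg_PM
  sg_add mul_sg sg_mul sg_sg bl blM)
open Bit

section

variable {ι : Type} [Fintype ι] [DecidableEq ι] {F : Type*} [Field F] [Fintype F] {k : ℕ}
variable {R : Subgroup (GL ι F)} {Q : QuadraticForm F (ι → F)}

/-- The signed permutation generators determine the whole Pauli group. -/
theorem pauli_le {e : Pts k → ι → F} {c : F} (H : ONB Q e c) {K : Subgroup (O Q)}
    (hn : Coord.cP H ∅ 0 0 1 ∈ K) (hz : ∀ l, Coord.cP H ∅ (Pi.single l 1) 0 0 ∈ K)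
    (hx : ∀ l, Coord.cP H ∅ 0 (Pi.single l 1) 0 ∈ K) : Coord.pauli H ≤ K := by
  classical
  have key : ∀ (A : Finset (Fin k)) (u : Pts k), (∀ i ∉ A, u i = 0) →
      Coord.cP H ∅ u 0 0 ∈ K ∧ Coord.cP H ∅ 0 u 0 ∈ K := by
    intro A
    induction A using Finset.induction_on with
    | empty =>
      intro u hu
      rw [show u = 0 from funext fun i => hu i (Finset.notMem_empty i), Coord.cP_zero]
      exact ⟨K.one_mem, K.one_mem⟩
    | insert i A hi ih =>
      intro u hu
      rcases bit_cases (u i) with h | h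
      · refine ih u fun j hj => ?_
        rcases eq_or_ne j i with rfl | hne
        exacts [h, hu j (by simp [hne, hj])]
      · obtain ⟨h1, h2⟩ := ih (u + Pi.single i 1) fun j hj => by
          rcases eq_or_ne j i with rfl | hne
          · simp [h, Bit.two]
          · simp [hne, hu j (by simp [hne, hj])]
        have e1 := K.mul_mem h1 (hz i)
        have e2 := K.mul_mem h2 (hx i)
        rw [Coord.cP_mul H _ _ (off_empty _) (off_empty _)] at e1 e2
        simp only [add_assoc, vtwo, add_zero, dotProduct_zero, zero_dotProduct] at e1 e2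
        exact ⟨e1, e2⟩
  rintro _ ⟨a, b, d, rfl⟩
  have hab := K.mul_mem (key Finset.univ a fun i hi => absurd (Finset.mem_univ i) hi).1
    (key Finset.univ b fun i hi => absurd (Finset.mem_univ i) hi).2
  rw [Coord.cP_mul H _ _ (off_empty _) (off_empty _)] at hab
  simp only [add_zero, zero_add] at hab
  rw [show Coord.cP H ∅ a b d = Coord.cP H ∅ 0 0 (d + a ⬝ᵥ b) * Coord.cP H ∅ a b (a ⬝ᵥ b) by
    rw [Coord.cP_mul H _ _ (off_empty _) (off_empty _)]
    simp [add_assoc, Bit.two]]
  refine K.mul_mem ?_ hab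
  rcases bit_cases (d + a ⬝ᵥ b) with h | h <;> rw [h]
  exacts [by rw [Coord.cP_zero]; exact K.one_mem, hn]

theorem om_neg {e : Pts k → ι → F} {c : F} (H : ONB Q e c) :
    H96.om Q (Coord.cP H ∅ 0 0 1) = -1 := by
  refine Units.ext (Matrix.toLin'.injective (LinearMap.ext fun v => ?_))
  rw [Matrix.toLin'_apply, Matrix.toLin'_apply, H96.om_mulVec, Units.val_neg, Units.val_one, neg_mulVec, one_mulVec,
    Coord.scal_neg]

theorem om_sg {e : Pts k → ι → F} {c : F} (H : ONB Q e c) (d : ZMod 2) :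
    H96.om Q (Coord.cP H ∅ 0 0 d) = sg d 1 := by
  rcases bit_cases d with rfl | rfl
  · rw [Coord.cP_zero, map_one, sg_zero]
  · rw [om_neg, sg_one]

/-- Orthonormal coordinates in which the group is the Pauli group. -/
theorem exists_coord [Nonempty ι] (hQ : Nondeg Q) (hR : R ≤ Cfsg.isometryGroup F ⇑Q) (fr : Frame k R)
    (hcard : Nat.card R = 2 ^ (1 + 2 * k)) :
    Fintype.card ι = 2 ^ k ∧
      ∃ (e : Pts k → ι → F) (c : F) (H : ONB Q e c), R = (Coord.pauli H).map (H96.om Q) := by
  classical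
  haveI : Finite R := Nat.finite_of_card_ne_zero (by rw [hcard]; positivity)
  obtain ⟨l, m, hlQ, hmQ, hll, hmm, hlm, hlm'⟩ := fr.q.exists_hyperbolic
  have hP : H12.CSix.Pairs R (fun a => fr.cl (m a)) (fun a => fr.cl (l a)) :=
    { xmem := fun a => fr.cl_mem _
      zmem := fun a => fr.cl_mem _
      xx := fun a => fr.cl_sq_zero (hmQ a)
      zz := fun a => fr.cl_sq_zero (hlQ a)
      anti := fun a => fr.anti (by rw [fr.q.B_symm]; exact hlm a)
      cxx := fun a b => fr.commute_iff.2 (hmm a b)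
      czz := fun a b => fr.commute_iff.2 (hll a b)
      cxz := fun a b h => fr.commute_iff.2 (by rw [fr.q.B_symm]; exact hlm' b a (Ne.symm h)) }
  obtain ⟨B, hB0, hBx, hBz⟩ := hP.exists_orbit
  have hli := H12.CSix.linearIndependent_orbit fr.two hB0 hBz
  have hle1 := hli.fintype_card_le_finrank
  rw [Fintype.card_fun, Fintype.card_fin, ZMod.card, Module.finrank_fintype_fun_eq_card] at hle1
  have hle2 : Fintype.card ι ≤ 2 ^ k := by
    have h := finrank_range_le_card (R := F) fun w : W k => (fr.cl w : Matrix ι ι F)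
    rw [Set.finrank, fr.span, finrank_top, Module.finrank_matrix, Module.finrank_self, mul_one, Fintype.card_fun,
      Fintype.card_fin, ZMod.card, two_mul, pow_add] at h
    exact Nat.mul_self_le_mul_self_iff.1 h
  have hn : Fintype.card ι = 2 ^ k := le_antisymm hle2 hle1
  have htop : Submodule.span F (Set.range B) = ⊤ := hli.span_eq_top_of_card_eq_finrank' (by
    rw [Fintype.card_fun, Fintype.card_fin, ZMod.card, Module.finrank_fintype_fun_eq_card, hn])
  have hiso : ∀ w v, Q ((fr.cl w : Matrix ι ι F) *ᵥ v) = Q v := fun w =>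
    (mem_isometryGroup_iff (⇑Q) _).1 (hR (fr.cl_mem w))
  have hpol : ∀ w u v, polar Q ((fr.cl w : Matrix ι ι F) *ᵥ u) ((fr.cl w : Matrix ι ι F) *ᵥ v) = polar Q u v :=
    fun w u v => by simp only [polar, ← Matrix.mulVec_add, hiso]
  have horth : ∀ s t, s ≠ t → polar Q (B s) (B t) = 0 := by
    intro s t hst
    obtain ⟨a, ha⟩ := Function.ne_iff.1 hst
    have h := hpol (l a) (B s) (B t)
    rw [hBz, hBz, polar_smul_left', polar_smul_right'] at h
    refine (mul_eq_zero.1 (show ((bsign (s a) : F) * bsign (t a) - 1) * polar Q (B s) (B t) = 0 by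
      linear_combination h)).resolve_left fun h' => bsign_ne fr.two ha ?_
    calc (bsign (s a) : F) = bsign (s a) * (bsign (t a) * bsign (t a)) := by rw [bsign_sq, mul_one]
      _ = bsign (t a) := by rw [← mul_assoc, sub_eq_zero.1 h', one_mul]
  have hstep : ∀ a s, Q (B (s + Pi.single a 1)) = Q (B s) := fun a s => by rw [← hBx, hiso]
  have hval : ∀ s, Q (B s) = Q (B 0) := by
    suffices key : ∀ (A : Finset (Fin k)) (s : Pts k), (∀ i ∉ A, s i = 0) → Q (B s) = Q (B 0) from
      fun s => key Finset.univ s fun i hi => absurd (Finset.mem_univ i) hi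
    intro A
    induction A using Finset.induction_on with
    | empty => intro s hs; rw [show s = 0 from funext fun i => hs i (Finset.notMem_empty i)]
    | insert i A hi ih =>
      intro s hs
      rcases bit_cases (s i) with h | h
      · refine ih s fun j hj => ?_
        rcases eq_or_ne j i with rfl | hne
        exacts [h, hs j (by simp [hne, hj])]
      · rw [← hstep i s]
        refine ih _ fun j hj => ?_
        rcases eq_or_ne j i with rfl | hne
        · simp [h, Bit.two]
        · simp [hne, hs j (by simp [hne, hj])]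
  have hc0 : Q (B 0) ≠ 0 := fun h => hB0 0 (hQ _ fun y => by
    have hy : y ∈ Submodule.span F (Set.range B) := htop ▸ Submodule.mem_top
    induction hy using Submodule.span_induction with
    | mem x hx =>
      obtain ⟨t, rfl⟩ := hx
      rcases eq_or_ne (0 : Pts k) t with rfl | hne
      · rw [polar_self', h, mul_zero]
      · exact horth _ _ hne
    | zero => exact polar_zero_right (Q := Q) _
    | add u v _ _ hu hv => rw [QuadraticMap.polar_add_right, hu, hv, add_zero]
    | smul r u _ hu => rw [polar_smul_right', hu, mul_zero])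
  have H : ONB Q B (Q (B 0)) := ⟨fr.two, hc0, hval, horth, htop⟩
  refine ⟨hn, B, _, H, ?_⟩
  have happ : ∀ (w : W k) (p : O Q),
      (∀ s, (fr.cl w : Matrix ι ι F) *ᵥ B s = (p : (ι → F) ≃ₗ[F] (ι → F)) (B s)) → fr.cl w = H96.om Q p :=
    fun w p h => Units.ext (Matrix.toLin'.injective (LinearMap.ext_on htop (by
      rintro _ ⟨s, rfl⟩
      rw [Matrix.toLin'_apply, Matrix.toLin'_apply, H96.om_mulVec, h])))
  have hle : Coord.pauli H ≤ R.comap (H96.om Q) := by
    refine pauli_le H ?_ (fun a => ?_) (fun a => ?_)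
    · rw [Subgroup.mem_comap, om_neg]; exact fr.neg_mem
    · rw [Subgroup.mem_comap, ← happ (l a) _ fun s => by
        rw [hBz, Coord.cP_app H _ (off_empty _)]; simp [chi_empty]]
      exact fr.cl_mem _
    · rw [Subgroup.mem_comap, ← happ (m a) _ fun s => by
        rw [hBx, Coord.cP_app H _ (off_empty _)]; simp [chi_empty, bsign_zero]]
      exact fr.cl_mem _
  refine (Subgroup.eq_of_le_of_card_ge (Subgroup.map_le_iff_le_comap.2 hle) ?_).symm
  have hinj : Function.Injective fun t : Pts k × Pts k × ZMod 2 =>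
      (⟨H96.om Q (Coord.cP H ∅ t.1 t.2.1 t.2.2), Subgroup.mem_map_of_mem _ (Coord.cP_mem_pauli H _ _ _)⟩ :
        (Coord.pauli H).map (H96.om Q)) := by
    rintro ⟨a, b, d⟩ ⟨a', b', d'⟩ h
    have h0 := congrArg Subtype.val h
    simp only at h0
    have h' : Coord.cP H ∅ a b d = Coord.cP H ∅ a' b' d' := H96.om_injective Q h0
    have happ' : ∀ s, (bsign (a ⬝ᵥ s + d) : F) • B (s + b) = (bsign (a' ⬝ᵥ s + d') : F) • B (s + b') := fun s => by
      have h1 := congrArg (fun g : O Q => (g : (ι → F) ≃ₗ[F] (ι → F)) (B s)) h'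
      simpa [Coord.cP_app H _ (off_empty _), chi_empty] using h1
    have hb : b = b' := by
      by_contra hne
      have h1 := congrArg (H.co (0 + b)) (happ' 0)
      rw [H.co_smul, H.co_smul, H.co_self, H.co_ne (fun e => hne (add_left_cancel e)), mul_zero, mul_one] at h1
      exact one_ne_zero (α := F) (by rw [← bsign_sq (a ⬝ᵥ (0 : Pts k) + d), h1, zero_mul])
    subst hb
    have hsg : ∀ s : Pts k, a ⬝ᵥ s + d = a' ⬝ᵥ s + d' := fun s =>
      bsign_inj H.two (smul_left_injective F (H.e_ne_zero _) (happ' s))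
    have hd : d = d' := by simpa using hsg 0
    subst hd
    have ha : a = a' := funext fun r => by simpa using hsg (Pi.single r 1)
    subst ha
    rfl
  have h := Nat.card_le_card_of_injective _ hinj
  simp only [Nat.card_prod, Nat.card_eq_fintype_card (α := Pts k), Nat.card_zmod, Fintype.card_fun, Fintype.card_fin,
    ZMod.card] at h
  rw [hcard, show 2 ^ (1 + 2 * k) = 2 ^ k * (2 ^ k * 2) by ring]
  exact h

theorem mem_nrm_iff {e : Pts k → ι → F} {c : F} (H : ONB Q e c) (hR : R = (Coord.pauli H).map (H96.om Q)) (g : O Q) :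
    H96.om Q g ∈ Cfsg.Geo.subgroupNormalizer R ↔ g ∈ Subgroup.normalizer (Coord.pauli H : Set (O Q)) := by
  subst hR
  constructor
  · intro h
    refine Subgroup.mem_normalizer_iff.2 fun x => ?_
    have h1 := Subgroup.mem_normalizer_iff.1 h (H96.om Q x)
    rw [← map_inv, ← map_mul, ← map_mul] at h1
    simpa only [Subgroup.mem_map_iff_mem (H96.om_injective Q)] using h1
  · intro h
    refine Subgroup.mem_normalizer_iff.2 fun y => ⟨?_, ?_⟩
    · rintro ⟨x, hx, rfl⟩
      exact ⟨g * x * g⁻¹, (Subgroup.mem_normalizer_iff.1 h x).1 hx, by simp⟩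
    · rintro ⟨x, hx, hxy⟩
      refine ⟨g⁻¹ * x * g, ?_, ?_⟩
      · refine (Subgroup.mem_normalizer_iff.1 h _).2 ?_
        rwa [show g * (g⁻¹ * x * g) * g⁻¹ = x by group]
      · simp only [map_mul, map_inv, hxy]; group

/-- The label of an element of the group. -/
def Lab {e : Pts k → ι → F} {c : F} (H : ONB Q e c) (fr : Frame k R) (w : W k) (a b : Pts k) : Prop :=
  PM (fr.cl w) (H96.om Q (Coord.cP H ∅ a b 0))

variable {e : Pts k → ι → F} {c : F} (H : ONB Q e c) {fr : Frame k R}

theorem pm_cP (a b : Pts k) (d : ZMod 2) :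
    PM (H96.om Q (Coord.cP H ∅ a b d)) (H96.om Q (Coord.cP H ∅ a b 0)) := by
  rw [Coord.cP_split H a (off_empty b) d, map_mul, om_sg, sg_mul, one_mul]
  exact sg_PM _ _

theorem lab_exists (hR : R = (Coord.pauli H).map (H96.om Q)) (fr : Frame k R) (w : W k) :
    ∃ a b, Lab H fr w a b := by
  have := hR.le (fr.cl_mem w)
  obtain ⟨_, ⟨a, b, d, rfl⟩, he⟩ := this
  refine ⟨a, b, ?_⟩
  show PM _ _
  rw [← he]
  exact pm_cP H a b d

theorem lab_surj (hR : R = (Coord.pauli H).map (H96.om Q)) (fr : Frame k R) (a b : Pts k) :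
    ∃ w, Lab H fr w a b := by
  obtain ⟨w, hw⟩ := fr.surj (H96.om Q (Coord.cP H ∅ a b 0)) (by
    rw [hR]; exact Subgroup.mem_map_of_mem _ (Coord.cP_mem_pauli H a b 0))
  exact ⟨w, hw.symm⟩

theorem Lab.add {w w' : W k} {a b a' b' : Pts k} (h : Lab H fr w a b) (h' : Lab H fr w' a' b') :
    Lab H fr (w + w') (a + a') (b + b') := by
  have h1 := (fr.cl_mul w w').symm.trans (h.mul h')
  rw [← map_mul, Coord.cP_mul H a a' (off_empty b) (off_empty b')] at h1
  exact h1.trans (pm_cP H _ _ _)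

theorem Lab.smul {w : W k} {a b : Pts k} (h : Lab H fr w a b) (x : ZMod 2) :
    Lab H fr (x • w) (x • a) (x • b) := by
  rcases bit_cases x with rfl | rfl
  · simp only [zero_smul]
    show PM _ _
    rw [fr.cl_zero, Coord.cP_zero, map_one]
    exact PM.refl _
  · simpa only [one_smul] using h

theorem Lab.form {w : W k} {a b : Pts k} (h : Lab H fr w a b) : fr.q.Q w = a ⬝ᵥ b := by
  have h1 := fr.sq_of_pm h.symm
  rw [← map_mul, Coord.cP_mul H a a (off_empty b) (off_empty b), vtwo, vtwo, om_sg, zero_add, zero_add] at h1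
  exact (fr.sg_inj h1).symm

theorem Lab.bil {w w' : W k} {a b a' b' : Pts k} (h : Lab H fr w a b) (h' : Lab H fr w' a' b') :
    fr.q.B w w' = Coord.bb a b a' b' := by
  have h1 := fr.pm_comm h.symm h'.symm
  rw [← map_mul, Coord.cP_comm H a a' (off_empty b) (off_empty b'), map_mul, om_sg, sg_mul, one_mul,
    map_mul] at h1
  exact (fr.sg_inj h1).symm

theorem Lab.ne_zero {w : W k} {a b : Pts k} (h : Lab H fr w a b) (hw : w ≠ 0) : a ≠ 0 ∨ b ≠ 0 := by
  by_contra hno
  rw [not_or, not_not, not_not] at hno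
  obtain ⟨rfl, rfl⟩ := hno
  refine hw (fr.eq_zero_of_pm (h.trans (PM.of_eq ?_)))
  rw [Coord.cP_zero, map_one]

/-- Two non-singular vectors have a third one pairing to one with both. -/
theorem QForm.exists_between (q : QForm k) (hk : 4 ≤ k) {u u' : W k} (hu : q.Q u = 1) (hu' : q.Q u' = 1)
    (hne : u ≠ u') : ∃ x, q.Q x = 1 ∧ q.B u x = 1 ∧ q.B u' x = 1 := by
  have hu0 : u ≠ 0 := fun h => zero_ne_one (q.Q_zero.symm.trans ((congrArg q.Q h.symm).trans hu))
  have hu0' : u' ≠ 0 := fun h => zero_ne_one (q.Q_zero.symm.trans ((congrArg q.Q h.symm).trans hu'))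
  obtain ⟨x1, h11, h12⟩ := q.exists_B_one_zero hu0 hne
  obtain ⟨x2, h22, h21⟩ := q.exists_B_one_zero hu0' hne.symm
  set U := q.orth (Submodule.span (ZMod 2) {u, u'}) with hUdef
  have hdim := q.finrank_orth_two u u'
  rw [← hUdef] at hdim
  by_contra hno
  push Not at hno
  set x0 := x1 + x2 with hx0
  have hux : q.B u x0 = 1 := by rw [hx0, map_add, h11, h21, add_zero]
  have hux' : q.B u' x0 = 1 := by rw [hx0, map_add, h12, h22, zero_add]
  have hlin : ∀ a ∈ U, q.Q (x0 + a) = 0 := fun a ha => z2_ne_one fun e => by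
    obtain ⟨ha1, ha2⟩ := q.mem_orth_two.1 ha
    exact hno _ e (by rw [map_add, hux, ha1, add_zero]) (by rw [map_add, hux', ha2, add_zero])
  have hQ0 : q.Q x0 = 0 := by simpa using hlin 0 U.zero_mem
  have hQ : ∀ a ∈ U, q.Q a = q.B x0 a := fun a ha => by
    have := hlin a ha
    rw [q.Q_add, hQ0, zero_add] at this
    exact vadd_eq_zero this
  have hI : q.Isotropic U := fun a ha b hb => by
    rw [q.B_eq_Q, hQ a ha, hQ b hb, hQ _ (U.add_mem ha hb), map_add]
    linear_combination z2_self (q.B x0 a) + z2_self (q.B x0 b)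
  have := hI.finrank_le
  omega

/-- The blocks of two commuting pairs as controlled Pauli operators. -/
theorem bl_eq (H : ONB Q e c) {C X Y : GL ι F} {z : O Q}
    (h : ∀ s, (z : (ι → F) ≃ₗ[F] (ι → F)) (e s) = (2 : F)⁻¹ •
      ((X : Matrix ι ι F) *ᵥ e s + (C : Matrix ι ι F) *ᵥ ((X : Matrix ι ι F) *ᵥ e s) +
        ((Y : Matrix ι ι F) *ᵥ e s - (C : Matrix ι ι F) *ᵥ ((Y : Matrix ι ι F) *ᵥ e s)))) :
    bl C X Y = H96.om Q z := by
  have hm : blM (C : Matrix ι ι F) X Y = (H96.om Q z : Matrix ι ι F) :=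
    Matrix.toLin'.injective (LinearMap.ext_on H.top (by
      rintro _ ⟨s, rfl⟩
      rw [Matrix.toLin'_apply, Matrix.toLin'_apply, H96.om_mulVec, h, blM, smul_mulVec, add_mulVec,
        ← mulVec_mulVec, ← mulVec_mulVec, add_mulVec, sub_mulVec, one_mulVec, one_mulVec]))
  have hu : IsUnit (blM (C : Matrix ι ι F) X Y) := hm ▸ Units.isUnit _
  refine Units.ext ?_
  rw [bl, dif_pos hu, IsUnit.unit_spec, hm]

variable (hk : 4 ≤ k)
include hk

/-- One half sign and two operators of another coordinate. -/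
theorem bl_mem {l m : Fin k} (hlm : l ≠ m) {X0 : Subgroup (O Q)} (hX : Coord.Hyp H X0) (d1 d2 d3 : ZMod 2) :
    ∃ z ∈ X0, bl (H96.om Q (Coord.cP H ∅ (Pi.single l 1) 0 d1)) (H96.om Q (Coord.cP H ∅ 0 (Pi.single m 1) d2))
      (H96.om Q (Coord.cP H ∅ (Pi.single m 1) 0 d3)) = H96.om Q z := by
  have hoff : Off {l} (Pi.single m 1 : Pts k) := off_single (by simpa using hlm.symm)
  have hlm' : (Pi.single m 1 : Pts k) l = 0 := Pi.single_eq_of_ne hlm 1
  set em : Pts k := Pi.single m 1
  have hC : ∀ t, ((H96.om Q (Coord.cP H ∅ (Pi.single l 1) 0 d1) : GL ι F) : Matrix ι ι F) *ᵥ e t =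
      (bsign (t l + d1) : F) • e t := fun t => by
    rw [H96.om_mulVec, Coord.cP_app H _ (off_empty _)]; simp [chi_empty]
  have hX' : ∀ t, ((H96.om Q (Coord.cP H ∅ 0 em d2) : GL ι F) : Matrix ι ι F) *ᵥ e t =
      (bsign d2 : F) • e (t + em) := fun t => by
    rw [H96.om_mulVec, Coord.cP_app H _ (off_empty _)]; simp [chi_empty]
  have hY : ∀ t, ((H96.om Q (Coord.cP H ∅ em 0 d3) : GL ι F) : Matrix ι ι F) *ᵥ e t =
      (bsign (t m + d3) : F) • e t := fun t => by
    rw [H96.om_mulVec, Coord.cP_app H _ (off_empty _)]; simp [em, chi_empty]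
  have hhalf : (2 : F)⁻¹ * 2 = 1 := inv_mul_cancel₀ H.two
  rcases bit_cases d1 with rfl | rfl
  · refine ⟨Coord.cP H ∅ 0 em d2 * Coord.cP H {l} em em (d2 + d3),
      X0.mul_mem (Coord.cP_X H hX d2) (Coord.cP_one_X H hX l hlm' _), bl_eq H fun s => ?_⟩
    rw [hX', hY, mulVec_smul, mulVec_smul, hC, hC, Subgroup.coe_mul, mul_app, Coord.cP_app H _ hoff, map_smul,
      Coord.cP_app H _ (off_empty _), chi_empty, chi_one]
    simp only [Pi.add_apply, hlm', add_zero, zero_dotProduct, zero_add, one_mul, one_smul, smul_smul, em,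
      single_dotProduct, show bsign (0 : ZMod 2) = (1 : F) from bsign_zero]
    rcases bit_cases (s l) with h | h <;> rw [h]
    · simp only [zero_mul, zero_smul, add_zero, bsign_zero, one_mul, one_smul, mul_one]
      match_scalars
      · linear_combination -(bsign d2 : F) * hhalf
      · ring
    · simp only [one_mul, one_smul, bsign_one, mul_neg, mul_one, neg_smul, add_assoc, Bit.vtwo, add_zero]
      match_scalars
      · rw [bsign_add, bsign_add, bsign_add]
        linear_combination (bsign (s m) * bsign d3 : F) * bsign_sq (F := F) d2 -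
          (bsign (s m) * bsign d3 : F) * hhalf
      · ring
  · refine ⟨Coord.cP H ∅ em 0 d3 * Coord.cP H {l} em em (d2 + d3 + 1),
      X0.mul_mem (Coord.cP_X H hX d3) (Coord.cP_one_X H hX l hlm' _), bl_eq H fun s => ?_⟩
    rw [hX', hY, mulVec_smul, mulVec_smul, hC, hC, Subgroup.coe_mul, mul_app, Coord.cP_app H _ hoff, map_smul,
      Coord.cP_app H _ (off_empty _), chi_empty, chi_one]
    simp only [Pi.add_apply, hlm', add_zero, one_mul, one_smul, smul_smul, em, single_dotProduct, smul_zero,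
      Pi.smul_apply, Pi.single_eq_same, smul_eq_mul, mul_one]
    rcases bit_cases (s l) with h | h <;> rw [h]
    · simp only [zero_mul, zero_smul, add_zero, zero_add, bsign_zero, bsign_one, one_mul, mul_neg, mul_one, neg_smul]
      match_scalars
      · linear_combination -(bsign (s m + d3) : F) * hhalf
      · ring
    · simp only [one_mul, one_smul, show (1 : ZMod 2) + 1 = 0 by decide, bsign_zero, mul_one]
      match_scalars
      · simp only [bsign_add, bsign_one]
        linear_combination (bsign d2 : F) * (bsign (s m) * bsign (s m) : F) * bsign_sq (F := F) d3 +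
          (bsign d2 : F) * bsign_sq (F := F) (s m) - (bsign d2 : F) * hhalf
      · ring

end

section Main

variable {F : Type*} [Field F] [Fintype F] {n k : ℕ}

theorem isForm_polar {Q : (Fin n → F) → F} (hQ : Cfsg.Geo.IsNondegenerateQuadraticForm Q) :
    IsForm (fun u v => QuadraticMap.polar Q u v) :=
  ⟨hQ.polar_bilinear, hQ.nondegenerate⟩

/-- A triple sign change does not normalise. -/
theorem dsg_not_nrm {V : Type*} [AddCommGroup V] [Module F V] {Q : QuadraticForm F V} {e : Pts k → V} {c : F}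
    (H : ONB Q e c) {a b l : Fin k} (hab : a ≠ b) (hal : a ≠ l) (hbl : b ≠ l) :
    Coord.Dsg H (insert l {a, b}) ∉ Subgroup.normalizer (Coord.pauli H : Set (O Q)) := by
  intro hN
  have hl : l ∉ ({a, b} : Finset (Fin k)) := by simp [hal.symm, hbl.symm]
  set W' := Coord.cP H ∅ 0 (Pi.single l 1) 0
  have h1 := (Subgroup.mem_normalizer_iff.1 hN W').1 (Coord.cP_mem_pauli H _ _ _)
  have h2 : Coord.Dsg H {a, b} ∈ Coord.pauli H := by
    have h3 := (Coord.pauli H).mul_mem h1 ((Coord.pauli H).inv_mem (Coord.cP_mem_pauli H 0 (Pi.single l 1) 0))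
    rw [← Finset.empty_union ({a, b} : Finset (Fin k)),
      ← Coord.union_comm_sq H (K := ∅) (Finset.notMem_empty l) hl]
    have hWi : W'⁻¹ = W' := inv_eq_of_mul_eq_one_right (Coord.W_sq H _)
    have hD2 : (Coord.Dsg H (insert l {a, b}))⁻¹ = Coord.Dsg H (insert l {a, b}) :=
      inv_eq_of_mul_eq_one_right (Coord.Dsg_sq H _)
    have h4 := (Coord.pauli H).inv_mem h3
    rwa [_root_.mul_inv_rev, inv_inv, _root_.mul_inv_rev, _root_.mul_inv_rev, inv_inv, hWi, hD2, ← mul_assoc,
      ← mul_assoc] at h4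
  obtain ⟨u, v, d, he⟩ := h2
  have happ : ∀ s, (bsign (s a * s b) : F) • e s = (bsign (u ⬝ᵥ s + d) : F) • e (s + v) := fun s => by
    have h := congrArg (fun g : O Q => (g : V ≃ₗ[F] V) (e s)) he
    simpa [Coord.Dsg_app, Coord.cP_app H _ (off_empty _), chi_empty, chi_insert (show a ∉ ({b} : Finset (Fin k)) by
      simpa using hab), chi_one] using h
  have hv : v = 0 := by
    by_contra hne
    have h := congrArg (H.co 0) (happ 0)
    rw [H.co_smul, H.co_smul, H.co_self, H.co_ne (by simpa using Ne.symm hne), mul_zero, mul_one] at h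
    exact one_ne_zero (α := F) (by rw [← bsign_sq ((0 : Pts k) a * (0 : Pts k) b), h, zero_mul])
  subst hv
  have hs : ∀ s : Pts k, s a * s b = u ⬝ᵥ s + d := fun s => by
    have := happ s
    rw [add_zero] at this
    exact bsign_inj H.two (smul_left_injective F (H.e_ne_zero _) this)
  have e0 := hs 0
  have ea := hs (Pi.single a 1)
  have eb := hs (Pi.single b 1)
  have eab := hs (Pi.single a 1 + Pi.single b 1)
  simp [dotProduct_add, hab, hab.symm] at e0 ea eb eab
  rw [← e0, add_zero] at ea eb eab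
  rw [← ea, ← eb, add_zero] at eab
  exact one_ne_zero eab

/-- The normaliser of an absolutely irreducible 2^(1+2k) of plus type is maximal in Ω⁺. -/
theorem maximal_of_hyps (hn : 13 ≤ n) {Q : (Fin n → F) → F} (hQ : Cfsg.Geo.IsNondegenerateQuadraticForm Q)
    {p : ℕ} (hp : p.Prime) (hpo : Odd p) (hF : Fintype.card F = p)
    {R : Subgroup (GL (Fin n) F)} (hRs : Cfsg.Geo.IsSymplecticTypeGroup 2 R)
    (hRi : Cfsg.Geo.ActsAbsolutelyIrreducibly (Cfsg.Geo.matrixSet R)) (hR : R ≤ Cfsg.isometryGroup F Q)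
    (hcard : Nat.card R = 2 ^ (1 + 2 * k)) (hZ : Nat.card (Subgroup.center R) = 2)
    (hpt : Cfsg.Geo.IsOfPlusType k R) :
    Cfsg.Geo.IsMaximalIn (Cfsg.Geo.omegaGL Q) (Cfsg.Geo.subgroupNormalizer R ⊓ Cfsg.Geo.omegaGL Q) := by
  classical
  subst hF
  have h2 : (2 : F) ≠ 0 := Ring.two_ne_zero ((FiniteField.even_card_iff_char_two (F := F)).not.2
    (Nat.mod_two_ne_zero.2 (Nat.odd_iff.1 hpo)))
  haveI : Nonempty (Fin n) := ⟨⟨0, by omega⟩⟩
  obtain ⟨fr⟩ := frame_of_hyps h2 hRs hRi hcard hZ hpt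
  set Q' := H96.asForm hQ
  obtain ⟨hnk, e, c, H, hRP⟩ := exists_coord (Q := Q') (H96.asForm_nondeg hQ) hR fr hcard
  have hk : 4 ≤ k := by
    by_contra hlt
    have : 2 ^ k ≤ 2 ^ 3 := Nat.pow_le_pow_right (by norm_num) (by omega)
    rw [Fintype.card_fin] at hnk
    omega
  have hRX : ∀ {X : Subgroup (O Q')}, Coord.Hyp H X → ∀ r ∈ R, ∃ x ∈ X, H96.om Q' x = r := by
    intro X hX r hr
    rw [hRP] at hr
    obtain ⟨x, ⟨a, b, d, rfl⟩, rfl⟩ := hr
    exact ⟨_, Coord.cP_X H hX d, rfl⟩
  refine ⟨lt_of_le_not_ge inf_le_right fun h => ?_, fun M hM hMG => ?_⟩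
  · obtain ⟨a, b, l, hab, hal, hbl⟩ : ∃ a b l : Fin k, a ≠ b ∧ a ≠ l ∧ b ≠ l :=
      ⟨⟨0, by omega⟩, ⟨1, by omega⟩, ⟨2, by omega⟩, by simp, by simp, by simp⟩
    have hl : l ∉ ({a, b} : Finset (Fin k)) := by simp [hal.symm, hbl.symm]
    have hD : Coord.Dsg H (insert l {a, b}) ∈ commutator (O Q') := by
      rw [← Coord.cP_insert H hl]
      exact Coord.cP_mem H (by rw [Finset.card_pair hab]; omega) _ (off_zero _) 0
    exact dsg_not_nrm H hab hal hbl ((mem_nrm_iff H hRP _).1 (h ((H96.mem_omegaGL_iff Q' _).2 ⟨_, hD, rfl⟩)).1)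
  by_cases hMS : M ≤ Cfsg.Geo.subgroupNormalizer R
  · exact Or.inl (le_antisymm (le_inf hMS hMG) hM)
  refine Or.inr (le_antisymm hMG ?_)
  set X := M.comap (H96.om Q') with hXdef
  have hXle : X ≤ commutator (O Q') := fun x hx => by
    obtain ⟨y, hy, hyx⟩ := (H96.mem_omegaGL_iff Q' _).1 (hMG hx)
    exact H96.om_injective Q' hyx ▸ hy
  have hX : Coord.Hyp H X := ⟨hk, hXle, fun g hg hgN =>
    hM ⟨(mem_nrm_iff H hRP g).2 hgN, (H96.mem_omegaGL_iff Q' _).2 ⟨g, hg, rfl⟩⟩⟩
  suffices hall : commutator (O Q') ≤ X by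
    intro g hg
    obtain ⟨y, hy, rfl⟩ := (H96.mem_omegaGL_iff Q' g).1 hg
    exact hall hy
  by_contra hnall
  apply hMS
  have hpre : ∀ g ∈ M, ∃ x ∈ X, H96.om Q' x = g := fun g hg => by
    obtain ⟨x, -, rfl⟩ := (H96.mem_omegaGL_iff Q' g).1 (hMG hg)
    exact ⟨x, hg, rfl⟩
  have hover : Over (fun u v => QuadraticMap.polar Q u v) M fr := by
    refine ⟨hk, isForm_polar hQ, fun g hg => H95.mem_isoGrp.2 fun u v => ?_, fun r hr => ?_, fun u u' hu hu' => ?_,
      ?_, fun z x hz0 hzQ hx hc => ?_⟩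
    · obtain ⟨x, -, rfl⟩ := hpre g hg
      rw [H96.om_mulVec, H96.om_mulVec]
      exact O.polar_app x u v
    · obtain ⟨x, hx, rfl⟩ := hRX hX r hr
      exact hx
    · by_cases huu : u = u'
      · subst huu
        refine ⟨1, M.one_mem, Subgroup.one_mem _, fun w => ?_⟩
        have : fr.q.B u (w + fr.q.B u w • u) = fr.q.B u w := by
          rw [map_add, map_smul, fr.q.B_self, smul_zero, add_zero]
        rw [fr.act_one, Frame.refl, Frame.refl, this, add_assoc, vadd_self, add_zero]
      obtain ⟨a, b, hl⟩ := lab_exists H hRP fr u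
      obtain ⟨a', b', hl'⟩ := lab_exists H hRP fr u'
      obtain ⟨x, hxQ, hxu, hxu'⟩ := fr.q.exists_between hk hu hu' huu
      obtain ⟨xa, xb, hxl⟩ := lab_exists H hRP fr x
      have hab : a ⬝ᵥ b = 1 := hl.form H ▸ hu
      have hab' : a' ⬝ᵥ b' = 1 := hl'.form H ▸ hu'
      have hxab : xa ⬝ᵥ xb = 1 := hxl.form H ▸ hxQ
      have h1 : Coord.bb a b xa xb = 1 := hl.bil H hxl ▸ hxu
      have h1' : Coord.bb xa xb a' b' = 1 := hxl.bil H hl' ▸ (fr.q.B_symm x u').trans hxu'
      set T := lift (Coord.cP H ∅ a b 0) (Coord.cP H ∅ a' b' 0)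
      have hTN := Coord.lift_nrm H hab hab'
      have hTX : T ∈ X := hX.mem _ (Coord.lift_mem H (by omega) hab hab' hxab h1 h1') hTN
      have hTR : H96.om Q' T ∈ Frame.N R := (mem_nrm_iff H hRP T).2 hTN
      refine ⟨H96.om Q' T, hTX, hTR, fun w => fr.act_eq hTR ?_⟩
      obtain ⟨wa, wb, hwl⟩ := lab_exists H hRP fr w
      obtain ⟨d', hd'⟩ := Coord.lift_cP H hab hab' wa wb 0
      have hr1 : Lab H fr (fr.refl u' w) (wa + Coord.bb a' b' wa wb • a') (wb + Coord.bb a' b' wa wb • b') := by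
        rw [Frame.refl, hl'.bil H hwl]
        exact hwl.add H (hl'.smul H _)
      have hr2 : Lab H fr (fr.refl u (fr.refl u' w))
          (wa + Coord.bb a' b' wa wb • a' +
            Coord.bb a b (wa + Coord.bb a' b' wa wb • a') (wb + Coord.bb a' b' wa wb • b') • a)
          (wb + Coord.bb a' b' wa wb • b' +
            Coord.bb a b (wa + Coord.bb a' b' wa wb • a') (wb + Coord.bb a' b' wa wb • b') • b) := by
        rw [Frame.refl, hl.bil H hr1]
        exact hr1.add H (hl.smul H _)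
      refine ((hwl.conj (H96.om Q' T)).trans ?_).trans hr2.symm
      rw [← map_inv, ← map_mul, ← map_mul, hd', mul_inv_cancel_right]
      exact pm_cP H _ _ _
    · obtain ⟨l, m, hlm⟩ : ∃ l m : Fin k, l ≠ m := ⟨⟨0, by omega⟩, ⟨1, by omega⟩, by simp⟩
      obtain ⟨za, hza⟩ := lab_surj H hRP fr (Pi.single l 1) 0
      obtain ⟨ze, hze⟩ := lab_surj H hRP fr 0 (Pi.single m 1)
      obtain ⟨zb, hzb⟩ := lab_surj H hRP fr (Pi.single m 1) 0
      have hsgn : ∀ {w : W k} {a b : Pts k}, Lab H fr w a b →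
          ∃ d, fr.cl w = H96.om Q' (Coord.cP H ∅ a b d) := fun {w a b} h => by
        rcases h with h | h
        · exact ⟨0, h⟩
        · exact ⟨1, by rw [h, Coord.cP_split H a (off_empty b) 1, map_mul, om_neg, neg_one_mul]⟩
      obtain ⟨d1, h1⟩ := hsgn hza
      obtain ⟨d2, h2'⟩ := hsgn hze
      obtain ⟨d3, h3⟩ := hsgn hzb
      obtain ⟨z, hz, hbl⟩ := bl_mem H hk hlm hX d1 d2 d3
      refine ⟨za, ze, zb, fun h0 => ?_, ?_, ?_, ?_, ?_, ?_, ?_, by rw [h1, h2', h3, hbl]; exact hz⟩
      · rw [h0, fr.cl_zero] at h1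
        have h := congrArg (fun g : GL (Fin n) F => (g : Matrix (Fin n) (Fin n) F) *ᵥ e (Pi.single l 1)) h1
        have h' := congrArg (fun g : GL (Fin n) F => (g : Matrix (Fin n) (Fin n) F) *ᵥ e 0) h1
        simp only [Units.val_one, one_mulVec, H96.om_mulVec, Coord.cP_app H _ (off_empty _), chi_empty, smul_zero,
          add_zero, one_mul, dotProduct_single, Pi.single_eq_same, mul_one, dotProduct_zero, zero_add] at h h'
        have e1 : (bsign (1 + d1) : F) = bsign 0 :=
          smul_left_injective F (H.e_ne_zero (Pi.single l 1)) (by simpa [bsign_zero] using h.symm)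
        have e2 : (bsign d1 : F) = bsign 0 :=
          smul_left_injective F (H.e_ne_zero 0) (by simpa [bsign_zero] using h'.symm)
        rw [bsign_inj H.two e2] at e1
        exact one_ne_zero (bsign_inj H.two e1)
      · rw [hza.form H, dotProduct_zero]
      · rw [hza.bil H hze]; simp [Coord.bb, hlm]
      · rw [hza.bil H hzb]; simp [Coord.bb]
      · rw [hze.form H, zero_dotProduct]
      · rw [hzb.form H, dotProduct_zero]
      · rw [hze.bil H hzb]; simp [Coord.bb]
    · by_contra hxN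
      obtain ⟨a, b, hzl⟩ := lab_exists H hRP fr z
      obtain ⟨y, hy, rfl⟩ := hpre x hx
      have hm : Coord.Mv H ∅ y (a, b) (a, b) := by
        have h1 : PM (H96.om Q' y * H96.om Q' (Coord.cP H ∅ a b 0))
            (H96.om Q' (Coord.cP H ∅ a b 0) * H96.om Q' y) :=
          ((hzl.symm.mul_left _).trans hc).trans (hzl.mul_right _)
        rcases h1 with h1 | h1
        · refine ⟨0, H96.om_injective Q' ?_⟩
          rw [map_mul, map_mul]; exact h1
        · refine ⟨1, H96.om_injective Q' ?_⟩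
          rw [Coord.cP_split H a (off_empty b) 1, map_mul, map_mul, map_mul, om_neg, neg_one_mul, neg_mul]
          exact h1
      obtain ⟨J, hJ3, hJk, hD⟩ := Coord.exists_dsg H hX hy (fun h => hxN ((mem_nrm_iff H hRP y).2 h))
        (hzl.ne_zero H hz0) (by rw [← hzl.form H]; exact hzQ) hm
      exact hnall (Coord.comm_le_of_all H hX (fun J' hJ' => Coord.dsg_mem H hX hJ3 hJk hD hJ') hp)
  exact hover.le_normalizer

end Main

end Cfsg.Agent.H58.CSixPlus
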