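import Cfsg.Agent.H58.CSixPlus.Descent
import Cfsg.Agent.H97.Frame.Mono

/-!
The part of an overgroup supported on a half, and the element it contains when a singular centraliser does
not normalise.
-/

set_option autoImplicit false
set_option linter.unusedSectionVars false

namespace Cfsg.Agent.H58.CSixPlus

open QuadraticMap Module Cfsg.Agent.Orthogonal
open Cfsg.Agent.H97.Frame (ONB)
open Cfsg.Agent.H12.CSix (bsign bsign_zero bsign_one bsign_add bsign_sq bsign_ne bit_cases)
open Matrix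

variable {F V : Type*} [Field F] [Fintype F] [AddCommGroup V] [Module F V] {k : ℕ}
variable {Q : QuadraticForm F V} {e : Pts k → V} {c : F}

namespace Coord

open Bit

variable (H : ONB Q e c)
include H

theorem co_map (u : O Q) (t : Pts k) (v : V) :
    H.co t ((u : V ≃ₗ[F] V) v) = ∑ r, H.co r v * H.co t ((u : V ≃ₗ[F] V) (e r)) := by
  conv_lhs => rw [H.eq_sum v]
  rw [map_sum, ONB.co, ONB.dot, ← polarBilin_apply' Q, map_sum, Finset.mul_sum]
  refine Finset.sum_congr rfl fun r _ => ?_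
  rw [map_smul, polarBilin_apply', polar_smul_right']
  unfold ONB.co ONB.dot
  ring

theorem co_of_comm {J : Finset (Fin k)} {y : O Q} (hy : y * Dsg H J = Dsg H J * y) {s t : Pts k}
    (hst : chi J s ≠ chi J t) : H.co t ((y : V ≃ₗ[F] V) (e s)) = 0 := by
  have e1 := co_Dsg H J t ((y : V ≃ₗ[F] V) (e s))
  rw [← mul_app, ← Subgroup.coe_mul, ← hy, Subgroup.coe_mul, mul_app, Dsg_app, map_smul, H.co_smul] at e1
  exact (mul_eq_zero.1 (show ((bsign (chi J s) : F) - bsign (chi J t)) * H.co t ((y : V ≃ₗ[F] V) (e s)) = 0 by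
    linear_combination e1)).resolve_left (sub_ne_zero.2 (bsign_ne H.two hst))

/-- An element preserving the block has a part supported on it. -/
theorem exists_glue {J : Finset (Fin k)} {y : O Q} (hy : y * Dsg H J = Dsg H J * y) :
    ∃ g ∈ blkG H J, ∀ s, chi J s = 1 → (g : V ≃ₗ[F] V) (e s) = (y : V ≃ₗ[F] V) (e s) := by
  classical
  have hd : ∀ s t, chi J s = 1 → chi J t ≠ 1 → polar Q ((y : V ≃ₗ[F] V) (e s)) (e t) = 0 := fun s t hs ht => by
    have h0 := co_of_comm H hy (s := s) (t := t) (by rw [hs]; exact Ne.symm ht)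
    rw [polar_comm]
    exact H.polar_of_dot h0
  obtain ⟨g, hg⟩ := exists_iso H (fun s => if chi J s = 1 then (y : V ≃ₗ[F] V) (e s) else e s)
    (fun s => by split_ifs <;> [rw [O.map_app, H.val]; rw [H.val]]) fun s t hst => by
      split_ifs with h1 h2 h2
      · rw [O.polar_app]; exact H.orth s t hst
      · exact hd s t h1 h2
      · rw [polar_comm]; exact hd t s h2 h1
      · exact H.orth s t hst
  refine ⟨g, blkG_of_fix H fun s hs => ?_, fun s hs => by rw [hg, if_pos hs]⟩
  rw [hg, if_neg (by rw [hs]; exact zero_ne_one)]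

theorem eq_on_blk {J : Finset (Fin k)} {y z : O Q} (hy : y ∈ blkG H J) (hz : z ∈ blkG H J)
    (h : ∀ s, chi J s = 1 → (y : V ≃ₗ[F] V) (e s) = (z : V ≃ₗ[F] V) (e s)) : y = z := H.ext_e fun s => by
  rcases bit_cases (chi J s) with hs | hs
  · rw [blkG_fix H hy hs, blkG_fix H hz hs]
  · exact h s hs

/-- Two elements agreeing on the block act in the same way on vectors of the block. -/
theorem agree {J : Finset (Fin k)} {g y : O Q}
    (hgy : ∀ t, chi J t = 1 → (g : V ≃ₗ[F] V) (e t) = (y : V ≃ₗ[F] V) (e t)) {v : V}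
    (hv : ∀ t, chi J t = 0 → H.co t v = 0) : (g : V ≃ₗ[F] V) v = (y : V ≃ₗ[F] V) v := by
  rw [H.eq_sum v, map_sum, map_sum]
  refine Finset.sum_congr rfl fun t _ => ?_
  rcases bit_cases (chi J t) with ht | ht
  · rw [hv t ht, zero_smul, map_zero, map_zero]
  · rw [map_smul, map_smul, hgy t ht]

theorem glue_conj {J : Finset (Fin k)} {g y : O Q} (hgB : g ∈ blkG H J) (hyD : y * Dsg H J = Dsg H J * y)
    (hgy : ∀ t, chi J t = 1 → (g : V ≃ₗ[F] V) (e t) = (y : V ≃ₗ[F] V) (e t)) {u : O Q} (hu : u ∈ blkG H J) :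
    g * u * g⁻¹ = y * u * y⁻¹ := by
  refine eq_on_blk H (mul_mem (mul_mem hgB hu) (inv_mem hgB)) (blkG_conj H hyD hu) fun s hs => ?_
  have hgi : ∀ t, chi J t = 0 → H.co t (((g⁻¹ : O Q) : V ≃ₗ[F] V) (e s)) = 0 := fun t ht =>
    blkG_co H (inv_mem hgB) hs ht
  have hw : ((g⁻¹ : O Q) : V ≃ₗ[F] V) (e s) = ((y⁻¹ : O Q) : V ≃ₗ[F] V) (e s) := by
    have h1 : (g : V ≃ₗ[F] V) (((g⁻¹ : O Q) : V ≃ₗ[F] V) (e s)) = e s := by
      rw [← mul_app, ← Subgroup.coe_mul, mul_inv_cancel]; rfl
    rw [agree H hgy hgi] at h1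
    conv_rhs => rw [← h1]
    rw [← mul_app ((y⁻¹ : O Q) : V ≃ₗ[F] V), ← Subgroup.coe_mul, inv_mul_cancel]; rfl
  rw [Subgroup.coe_mul, mul_app, Subgroup.coe_mul, mul_app, Subgroup.coe_mul, mul_app, Subgroup.coe_mul, mul_app, ← hw]
  refine agree H hgy fun t ht => ?_
  rw [co_map H]
  refine Finset.sum_eq_zero fun r _ => ?_
  rcases bit_cases (chi J r) with hr | hr
  · rw [hgi r hr, zero_mul]
  · rw [blkG_co H hu hr ht, mul_zero]

theorem blk_comm_compl {J : Finset (Fin k)} {y z : O Q} (hy : y ∈ blkG H J) (hz : z * Dsg H J = Dsg H J * z)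
    (hfix : ∀ s, chi J s = 1 → (z : V ≃ₗ[F] V) (e s) = e s) : y * z = z * y := H.ext_e fun s => by
  rw [Subgroup.coe_mul, mul_app, Subgroup.coe_mul, mul_app]
  rcases bit_cases (chi J s) with hs | hs
  · rw [blkG_fix H hy hs]
    refine hy _ ?_
    rw [← mul_app (Dsg H J : V ≃ₗ[F] V), ← Subgroup.coe_mul, ← hz, Subgroup.coe_mul, mul_app, Dsg_app, hs,
      bsign_zero, one_smul]
  · rw [hfix s hs]
    have h0 := agree H (J := J) (g := z) (y := 1) (fun t ht => by rw [hfix t ht]; rfl)
      (v := (y : V ≃ₗ[F] V) (e s)) fun t ht => blkG_co H hy hs ht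
    rw [h0]; rfl

theorem W_sq (b : Pts k) : cP H ∅ 0 b 0 * cP H ∅ 0 b 0 = 1 := by
  rw [cP_mul H 0 0 (off_empty b) (off_empty b), zero_dotProduct, add_zero, add_zero, add_zero, Bit.vtwo, cP_zero]

theorem halves_mul {i : Fin k} (a : Pts k) {b : Pts k} (ha : a i = 0) (hb : b i = 0) (d : ZMod 2) :
    cP H {i} a b d * (cP H ∅ 0 (Pi.single i 1) 0 * cP H {i} a b d * cP H ∅ 0 (Pi.single i 1) 0) =
      cP H ∅ a b d := H.ext_e fun s => by
  have hb' : Off {i} b := fun j hj => by rw [Finset.mem_singleton.1 hj]; exact hb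
  simp only [Subgroup.coe_mul, mul_app, cP_app H a (off_empty b), cP_app H 0 (off_empty _), cP_app H a hb',
    map_smul, smul_smul, chi_empty, zero_dotProduct, add_zero, mul_zero, bsign_zero, one_smul, chi_one, one_mul,
    mul_one, Pi.add_apply, Pi.single_eq_same, Pi.smul_apply, hb, smul_zero, dotProduct_add, dotProduct_single, ha,
    dotProduct_smul, smul_eq_mul, ← bsign_add]
  rcases bit_cases (s i) with h | h <;> rw [h]
  · simp only [zero_mul, zero_add, zero_smul, add_zero, one_smul, one_mul, Bit.two, mul_zero, Pi.zero_apply,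
      add_comm (Pi.single i 1 : Pts k), add_assoc, Bit.vtwo]
  · simp only [show (1 : ZMod 2) + 1 = 0 by decide, zero_mul, zero_smul, add_zero, one_smul, one_mul, zero_add,
      Pi.zero_apply, add_assoc, Bit.vtwo]

variable {X : Subgroup (O Q)}

/-- The elements of the half normalising the Pauli group are controlled Pauli operators. -/
theorem nrm_half {i : Fin k} {y : O Q} (hy : y ∈ blkG H {i})
    (hN : y ∈ Subgroup.normalizer (pauli H : Set (O Q))) :
    ∃ a b d, Off {i} a ∧ Off {i} b ∧ y = cP H {i} a b d := by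
  refine eq_cP H hy fun p hp => ?_
  obtain ⟨a, b, d, hb, rfl⟩ := hp
  obtain ⟨a', b', d', he⟩ := (Subgroup.mem_normalizer_iff.1 hN _).1 (cP_mem_pauli H a b d)
  rw [mul_inv_eq_iff_eq_mul] at he
  have hfix : ∀ s, s i = 0 →
      (bsign (a ⬝ᵥ s + d) : F) • e (s + b) = (bsign (a' ⬝ᵥ s + d') : F) • e (s + b') := by
    intro s hs
    have h1 := congrArg (fun g : O Q => (g : V ≃ₗ[F] V) (e s)) he
    have hs' : chi {i} s = 0 := by rw [chi_one, hs]
    simp only [Subgroup.coe_mul, mul_app, blkG_fix H hy hs', cP_app H _ (off_empty _), map_smul, chi_empty, one_smul,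
      one_mul] at h1
    rwa [blkG_fix H hy (by rw [chi_add hb, hs'] : chi {i} (s + b) = 0)] at h1
  have hbb : b' = b := by
    have h1 := congrArg (H.co (0 + b)) (hfix 0 rfl)
    by_contra hne
    rw [H.co_smul, H.co_smul, H.co_self, H.co_ne (fun h => hne (by simpa using h.symm)), mul_zero, mul_one] at h1
    exact one_ne_zero (α := F) (by rw [← bsign_sq (a ⬝ᵥ (0 : Pts k) + d), h1, zero_mul])
  subst hbb
  have hsig : ∀ s : Pts k, s i = 0 → a ⬝ᵥ s + d = a' ⬝ᵥ s + d' := fun s hs =>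
    bsign_inj H.two (smul_left_injective F (H.e_ne_zero _) (hfix s hs))
  have hd : d = d' := by simpa using hsig 0 rfl
  subst hd
  have ha : ∀ l, l ≠ i → a l = a' l := fun l hl => by
    simpa using hsig (Pi.single l 1) (Pi.single_eq_of_ne (Ne.symm hl) 1)
  have hp : cP H ∅ a' b' d = cP H {i} 0 0 (a i + a' i) * cP H ∅ a b' d := H.ext_e fun s => by
    rw [Subgroup.coe_mul, mul_app, cP_app H a (off_empty _), map_smul, cP_app H 0 (off_zero {i}),
      cP_app H a' (off_empty _), smul_smul, ← bsign_add, chi_empty, chi_one, one_mul, one_mul, one_smul, smul_zero,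
      add_zero, zero_dotProduct, zero_add, Pi.add_apply, hb i (Finset.mem_singleton_self i), add_zero]
    congr 2
    have hdot : a' ⬝ᵥ s = a ⬝ᵥ s + (a i + a' i) * s i := by
      rw [show a' = a + Pi.single i (a i + a' i) from funext fun l => by
        rcases eq_or_ne l i with rfl | hl
        · simp only [Pi.add_apply, Pi.single_eq_same]; linear_combination -Bit.two (a l)
        · simp [Pi.single_eq_of_ne hl, ha l hl], add_dotProduct, single_dotProduct]
      simp only [Pi.add_apply, Pi.single_eq_same]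
      linear_combination -(s i) * Bit.two (a i)
    rw [hdot]; ring
  have hz : cP H {i} 0 0 (a i + a' i) ∈ scl H {i} := cP_scl H {i} _
  have he' : y * cP H ∅ a b' d = cP H {i} 0 0 (a i + a' i) * cP H ∅ a b' d * y := by rw [← hp]; exact he
  set z := cP H {i} 0 0 (a i + a' i)
  set P := cP H ∅ a b' d
  have hzi : z⁻¹ = z := inv_eq_of_mul_eq_one_right (scl_sq H hz)
  have hzy : z * y = y * z := scl_comm H hz (blkG_comm H hy)
  have hconj : P * y * P⁻¹ * y⁻¹ = z := by
    have h1 : P * y = z * (y * P) := by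
      rw [he']
      calc P * y = z * z * (P * y) := by rw [scl_sq H hz, one_mul]
        _ = z * (z * P * y) := by group
    rw [h1]; group
  rw [hconj]
  exact hz

theorem cP_half_nrm {i : Fin k} (a : Pts k) {b : Pts k} (hb : Off {i} b) (d : ZMod 2) :
    cP H {i} a b d ∈ Subgroup.normalizer (pauli H : Set (O Q)) :=
  cP_one_nrm H i a (hb i (Finset.mem_singleton_self i)) d

variable (hX : Hyp H X)
include hX

/-- If a centraliser of a sign change does not normalise, the half carries an element outside the normaliser. -/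
theorem exists_half {i : Fin k} {x : O Q} (hx : x ∈ X) (hxN : x ∉ Subgroup.normalizer (pauli H : Set (O Q)))
    (hxD : x * Dsg H {i} = Dsg H {i} * x) :
    ∃ y ∈ X, y ∈ blkG H {i} ∧ y ∉ Subgroup.normalizer (pauli H : Set (O Q)) := by
  by_contra hno
  push Not at hno
  set N := Subgroup.normalizer (pauli H : Set (O Q))
  set W := cP H ∅ 0 (Pi.single i 1) 0
  have hWX : W ∈ X := cP_X H hX 0
  have hW2 : W * W = 1 := W_sq H _
  have hWi : W⁻¹ = W := inv_eq_of_mul_eq_one_right hW2
  obtain ⟨g, hg, hgx⟩ := exists_glue H hxD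
  have hWe : ∀ s : Pts k, (W : V ≃ₗ[F] V) (e s) = e (s + Pi.single i 1) := fun s => by
    rw [cP_app H 0 (off_empty _)]; simp [chi_empty, bsign_zero]
  have hz0 : ∀ u : O Q, u ∈ blkG H {i} → (W * u * W) * Dsg H {i} = Dsg H {i} * (W * u * W) ∧
      ∀ s, chi {i} s = 1 → ((W * u * W : O Q) : V ≃ₗ[F] V) (e s) = e s := by
    intro u hu
    have hfix : ∀ s, chi {i} s = 1 → ((W * u * W : O Q) : V ≃ₗ[F] V) (e s) = e s := fun s hs => by
      rw [Subgroup.coe_mul, mul_app, hWe, Subgroup.coe_mul, mul_app, blkG_fix H hu, hWe, add_assoc, Bit.vtwo, add_zero]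
      rw [chi_one] at hs ⊢
      simp [hs, Bit.two]
    refine ⟨H.ext_e fun s => ?_, hfix⟩
    rw [Subgroup.coe_mul _ (W * u * W) (Dsg H {i}), mul_app, Subgroup.coe_mul _ (Dsg H {i}) (W * u * W), mul_app, Dsg_app, map_smul]
    refine H.ext_co fun t => ?_
    rw [H.co_smul, co_Dsg]
    by_cases hst : chi {i} s = chi {i} t
    · rw [hst]
    · suffices h0 : H.co t (((W * u * W : O Q) : V ≃ₗ[F] V) (e s)) = 0 by rw [h0, mul_zero, mul_zero]
      rcases bit_cases (chi {i} s) with hs | hs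
      · have ht : chi {i} t = 1 := (bit_cases _).resolve_left fun h => hst (hs.trans h.symm)
        unfold ONB.co
        rw [← hfix t ht, H.dot_app]
        exact H.co_ne fun h => hst (by rw [h])
      · rw [hfix s hs]
        exact H.co_ne fun h => hst (by rw [h])
  set g' := W * g * W with hg'def
  obtain ⟨hg'D, hg'fix⟩ := hz0 g hg
  set h2 := g * g' with hh2
  have hh2W : h2 * W = W * h2 := by
    have hc : g * g' = g' * g := blk_comm_compl H hg hg'D hg'fix
    calc g * g' * W = g' * g * W := by rw [hc]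
      _ = W * g * W * g * W := by rw [hg'def]
      _ = W * (g * (W * g * W)) := by group
  have hconj : ∀ (a b : Pts k), a i = 0 → b i = 0 → ∀ d, h2 * cP H ∅ a b d * h2⁻¹ ∈ pauli H := by
    intro a b ha hb d
    set u := cP H {i} a b d
    have hb' : Off {i} b := fun j hj => by rw [Finset.mem_singleton.1 hj]; exact hb
    have hu : u ∈ blkG H {i} := cP_blk H a hb' d
    have huX : u ∈ X := cP_one_X H hX i hb d
    set u' := x * u * x⁻¹ with hu'def
    have hu'B : u' ∈ blkG H {i} := blkG_conj H hxD hu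
    obtain ⟨a', b', d', ha', hb'', he⟩ := nrm_half H hu'B
      (hno u' (X.mul_mem (X.mul_mem hx huX) (X.inv_mem hx)) hu'B)
    have hgu : g * u * g⁻¹ = u' := glue_conj H hg hxD hgx hu
    have hgu' : g' * u * g'⁻¹ = u := by
      rw [← blk_comm_compl H hu hg'D hg'fix, mul_inv_cancel_right]
    obtain ⟨huWD, huWfix⟩ := hz0 u hu
    have hguW : g * (W * u * W) * g⁻¹ = W * u * W := by
      rw [blk_comm_compl H hg huWD huWfix, mul_inv_cancel_right]
    have hg'uW : g' * (W * u * W) * g'⁻¹ = W * u' * W := by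
      rw [← hgu, hg'def, _root_.mul_inv_rev, _root_.mul_inv_rev, hWi,
        show W * g * W * (W * u * W) * (W * (g⁻¹ * W)) = W * g * (W * W) * u * (W * W) * g⁻¹ * W by group, hW2]
      group
    have hu'W := blk_comm_compl H hg (hz0 u' hu'B).1 (hz0 u' hu'B).2
    refine ⟨a', b', d', ?_⟩
    calc h2 * cP H ∅ a b d * h2⁻¹ = g * (g' * (u * (W * u * W)) * g'⁻¹) * g⁻¹ := by
          rw [halves_mul H a ha hb, hh2]; group
      _ = g * ((g' * u * g'⁻¹) * (g' * (W * u * W) * g'⁻¹)) * g⁻¹ := by group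
      _ = g * (u * (W * u' * W)) * g⁻¹ := by rw [hgu', hg'uW]
      _ = (g * u * g⁻¹) * (g * (W * u' * W) * g⁻¹) := by group
      _ = u' * (W * u' * W) := by rw [hgu, hu'W, mul_inv_cancel_right]
      _ = cP H ∅ a' b' d' := by
          rw [he]
          exact halves_mul H a' (ha' i (Finset.mem_singleton_self i)) (hb'' i (Finset.mem_singleton_self i)) d'
  have hdiag : cP H ∅ (Pi.single i 1) 0 0 = Dsg H {i} := cP_insert H (Finset.notMem_empty i)
  have hh2D : h2 * Dsg H {i} = Dsg H {i} * h2 := by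
    rw [hh2, mul_assoc, hg'D, ← mul_assoc, blkG_comm H hg, mul_assoc]
  have hh2N : h2 ∈ N := by
    refine mem_nrm H fun a b d => ?_
    set a0 := a + a i • (Pi.single i 1 : Pts k)
    set b0 := b + b i • (Pi.single i 1 : Pts k)
    have ha0 : a0 i = 0 := by simp [a0, Bit.two]
    have hb0 : b0 i = 0 := by simp [b0, Bit.two]
    have hsplit : ∃ d1, cP H ∅ a b d = cP H ∅ a0 b0 d1 * cP H ∅ (a i • Pi.single i 1) 0 0 *
        cP H ∅ 0 (b i • Pi.single i 1) 0 := by
      refine ⟨d + (a i * b i), ?_⟩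
      rw [cP_mul H _ _ (off_empty _) (off_empty _), cP_mul H _ _ (off_empty _) (off_empty _), dotProduct_zero]
      congr 1
      · simp only [a0, add_zero, add_assoc, Bit.vtwo]
      · simp only [b0, add_zero, add_assoc, Bit.vtwo]
      · simp only [a0, add_zero, dotProduct_smul, add_assoc, Bit.vtwo, dotProduct_single, mul_one, smul_eq_mul]
        linear_combination -Bit.two (a i * b i)
    obtain ⟨d1, hd1⟩ := hsplit
    have hZpow : h2 * cP H ∅ (a i • Pi.single i 1) 0 0 = cP H ∅ (a i • Pi.single i 1) 0 0 * h2 := by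
      rcases bit_cases (a i) with h | h <;> rw [h]
      · rw [zero_smul, cP_zero, one_mul, mul_one]
      · rw [one_smul, hdiag, hh2D]
    have hWpow : h2 * cP H ∅ 0 (b i • Pi.single i 1) 0 = cP H ∅ 0 (b i • Pi.single i 1) 0 * h2 := by
      rcases bit_cases (b i) with h | h <;> rw [h]
      · rw [zero_smul, cP_zero, one_mul, mul_one]
      · rw [one_smul]; exact hh2W
    obtain ⟨a', b', d', he⟩ := hconj a0 b0 ha0 hb0 d1
    have hmem : cP H ∅ a' b' d' * cP H ∅ (a i • Pi.single i 1) 0 0 * cP H ∅ 0 (b i • Pi.single i 1) 0 ∈ pauli H :=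
      (pauli H).mul_mem ((pauli H).mul_mem (cP_mem_pauli H _ _ _) (cP_mem_pauli H _ _ _)) (cP_mem_pauli H _ _ _)
    obtain ⟨A, B, D, hABD⟩ := hmem
    refine ⟨A, B, D, ?_⟩
    rw [← hABD, hd1, ← mul_assoc, ← mul_assoc, show h2 * cP H ∅ a0 b0 d1 = cP H ∅ a' b' d' * h2 from
      mul_inv_eq_iff_eq_mul.1 he, mul_assoc (cP H ∅ a' b' d') h2, hZpow, ← mul_assoc, mul_assoc _ h2, hWpow,
      ← mul_assoc]
  have hh2c : h2 ∈ commutator (O Q) := by
    have hfd := H.finite
    have h4 : finrank F V ≠ 4 := by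
      rw [H.finrank_eq, Fintype.card_fun, Fintype.card_fin, ZMod.card]
      have : 2 ^ 4 ≤ 2 ^ k := Nat.pow_le_pow_right (by norm_num) hX.four
      omega
    rw [show h2 = g ^ 2 * (g⁻¹ * W * g⁻¹⁻¹ * W⁻¹) by rw [hh2, hg'def, hWi]; group]
    refine mul_mem (H58.Elusive.sq_mem_commutator H.nondeg h4 g) ?_
    rw [← commutatorElement_def, commutator_def]
    exact Subgroup.commutator_mem_commutator (Subgroup.mem_top _) (Subgroup.mem_top _)
  have hh2X := hX.mem h2 hh2c hh2N
  set y := h2⁻¹ * x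
  have hyX : y ∈ X := X.mul_mem (X.inv_mem hh2X) hx
  have hyfix : ∀ s, chi {i} s = 1 → (y : V ≃ₗ[F] V) (e s) = e s := fun s hs => by
    have h1 : (h2 : V ≃ₗ[F] V) (e s) = (x : V ≃ₗ[F] V) (e s) := by
      rw [hh2, Subgroup.coe_mul, mul_app, hg'fix s hs, hgx s hs]
    rw [Subgroup.coe_mul, mul_app, ← h1, ← mul_app, ← Subgroup.coe_mul, inv_mul_cancel]; rfl
  have hyD : y * Dsg H {i} = Dsg H {i} * y :=
    ((show Commute h2 (Dsg H {i}) from hh2D).inv_left.mul_left hxD).eq
  have hWyW : W * y * W ∈ blkG H {i} := blkG_of_fix H fun s hs => by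
    rw [Subgroup.coe_mul, mul_app, hWe, Subgroup.coe_mul, mul_app, hyfix _ (by
      rw [chi_one] at hs ⊢; simp [hs]), hWe, add_assoc, Bit.vtwo, add_zero]
  have hWN : W ∈ N := Subgroup.le_normalizer (cP_mem_pauli H _ _ _)
  have hyN : y ∈ N := by
    have := N.mul_mem (N.mul_mem hWN (hno _ (X.mul_mem (X.mul_mem hWX hyX) hWX) hWyW)) hWN
    rwa [show W * (W * y * W) * W = W * W * y * (W * W) by group, hW2, one_mul, mul_one] at this
  have := N.mul_mem hh2N hyN
  rw [mul_inv_cancel_left] at this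
  exact hxN this

end Coord

end Cfsg.Agent.H58.CSixPlus
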