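import Cfsg.Agent.H58.CSixPlus.Descent

/-!
From one sign change on a block of at least three coordinates to the sign changes on all proper blocks.
-/

set_option autoImplicit false
set_option linter.unusedSectionVars false

namespace Cfsg.Agent.H58.CSixPlus

open QuadraticMap Module Cfsg.Agent.Orthogonal
open Cfsg.Agent.H97.Frame (ONB)
open Cfsg.Agent.H12.CSix (bsign bsign_zero bsign_one bsign_add bsign_sq bsign_ne bit_cases)
open Matrix

variable {F V : Type*} [Field F] [Fintype F] [AddCommGroup V] [Module F V] {k : ℕ}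
variable {Q : QuadraticForm F V} {e : Pts k → V} {c : F}

namespace Coord

open Bit

variable (H : ONB Q e c)
include H

theorem chi_union (K L : Finset (Fin k)) (s : Pts k) : chi (K ∪ L) s = chi K s * chi L s := by
  rcases bit_cases (chi K s) with h | h <;> rw [h]
  · rw [zero_mul]
    refine (bit_cases _).resolve_right fun h1 => zero_ne_one (h.symm.trans ?_)
    exact chi_eq_one.2 fun i hi => chi_eq_one.1 h1 i (Finset.mem_union_left _ hi)
  rw [one_mul]
  rcases bit_cases (chi L s) with h' | h' <;> rw [h']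
  · refine (bit_cases _).resolve_right fun h1 => zero_ne_one (h'.symm.trans ?_)
    exact chi_eq_one.2 fun i hi => chi_eq_one.1 h1 i (Finset.mem_union_right _ hi)
  · refine chi_eq_one.2 fun i hi => ?_
    rcases Finset.mem_union.1 hi with hi | hi
    exacts [chi_eq_one.1 h i hi, chi_eq_one.1 h' i hi]

theorem union_comm_sq {K L : Finset (Fin k)} {l : Fin k} (hK : l ∉ K) (hL : l ∉ L) :
    cP H K 0 (Pi.single l 1) 0 * Dsg H (insert l L) * cP H K 0 (Pi.single l 1) 0 * Dsg H (insert l L) =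
      Dsg H (K ∪ L) := H.ext_e fun s => by
  have hf : ∀ t, ((cP H K 0 (Pi.single l 1) 0 : O Q) : V ≃ₗ[F] V) (e t) = e (t + chi K t • Pi.single l 1) :=
    fun t => by rw [cP_app H 0 (off_single hK)]; simp [bsign_zero]
  simp only [Subgroup.coe_mul, mul_app, Dsg_app, map_smul, hf, smul_smul]
  rw [← bsign_add, chi_insert hL, chi_insert hL, chi_smul_add (off_single hL), Pi.add_apply, Pi.smul_apply,
    Pi.single_eq_same, smul_eq_mul, mul_one, chi_union H, add_assoc, chi_smul_add (off_single hK),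
    ← add_smul, Bit.two, zero_smul, add_zero]
  congr 2
  generalize chi K s = x, chi L s = y, s l = z
  revert x y z; decide

variable {X : Subgroup (O Q)} (hX : Hyp H X)
include hX

theorem dsg_erase {J : Finset (Fin k)} {i : Fin k} (hi : i ∉ J) (h : Dsg H (insert i J) ∈ X) : Dsg H J ∈ X := by
  have hW : cP H ∅ 0 (Pi.single i 1) 0 ∈ X := cP_X H hX 0
  have h1 := X.mul_mem (X.mul_mem (X.mul_mem hW h) (X.inv_mem hW)) (X.inv_mem h)
  rw [← cP_insert H hi, cP_comm_off H 0 _ (off_single hi) (off_zero J), mul_inv_cancel_right,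
    mul_inv_cancel_right] at h1
  simpa [bb, Dsg] using h1

theorem dsg_subset {I J : Finset (Fin k)} (hIJ : I ⊆ J) (h : Dsg H J ∈ X) : Dsg H I ∈ X := by
  obtain ⟨m, hm⟩ : ∃ m, (J \ I).card = m := ⟨_, rfl⟩
  induction m generalizing J with
  | zero =>
    rwa [Finset.Subset.antisymm hIJ (Finset.sdiff_eq_empty_iff_subset.1 (Finset.card_eq_zero.1 hm))]
  | succ m ih =>
    obtain ⟨i, hi⟩ := Finset.card_pos.1 (show 0 < (J \ I).card by omega)
    obtain ⟨hiJ, hiI⟩ := Finset.mem_sdiff.1 hi
    refine ih (J := J.erase i) (fun x hx => Finset.mem_erase.2 ⟨fun h' => hiI (h' ▸ hx), hIJ hx⟩) ?_ ?_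
    · refine dsg_erase H hX (Finset.notMem_erase i J) ?_
      rwa [Finset.insert_erase hiJ]
    · rw [Finset.erase_sdiff_comm, Finset.card_erase_of_mem hi, hm]; rfl

theorem dsg_swap {J : Finset (Fin k)} (hJ : J.card + 2 ≤ k) {i j : Fin k} (hi : i ∉ J) (hj : j ∉ J)
    (h : Dsg H (insert i J) ∈ X) : Dsg H (insert j J) ∈ X := by
  have h0 := dsg_erase H hX hi h
  obtain ⟨g, hg, -, -, hga⟩ := (sim_normal H hX hJ hj (off_single hi) (off_zero J) (.inl (single_ne i))).1
    (dotProduct_zero _)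
  obtain ⟨d, hd⟩ := hga 0
  rw [cP_insert H hi] at hd
  have h1 := X.mul_mem (X.mul_mem hg h) (X.inv_mem hg)
  rw [hd, mul_inv_cancel_right] at h1
  rcases bit_cases d with rfl | rfl
  · rwa [cP_insert H hj] at h1
  · have h2 := X.mul_mem h0 h1
    rw [Dsg, cP_mul H 0 _ (off_zero J) (off_zero J)] at h2
    rw [← cP_insert H hj]
    simpa [Bit.two] using h2

theorem dsg_all {m : ℕ} (hm : m + 1 ≤ k) {J : Finset (Fin k)} (hJ : J.card = m) (h : Dsg H J ∈ X)
    {J' : Finset (Fin k)} (hJ' : J'.card = m) : Dsg H J' ∈ X := by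
  obtain ⟨n, hn⟩ : ∃ n, (J' \ J).card = n := ⟨_, rfl⟩
  induction n generalizing J with
  | zero =>
    rwa [Finset.eq_of_subset_of_card_le (Finset.sdiff_eq_empty_iff_subset.1 (Finset.card_eq_zero.1 hn)) (by omega)]
  | succ n ih =>
    obtain ⟨j, hj⟩ := Finset.card_pos.1 (show 0 < (J' \ J).card by omega)
    obtain ⟨hjJ', hjJ⟩ := Finset.mem_sdiff.1 hj
    obtain ⟨i, hiJ, hiJ'⟩ : ∃ i ∈ J, i ∉ J' := by
      by_contra hno
      push Not at hno
      exact hjJ ((Finset.eq_of_subset_of_card_le hno (by omega)).symm ▸ hjJ')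
    have hpos : 0 < J.card := Finset.card_pos.2 ⟨i, hiJ⟩
    have hj' : j ∉ J.erase i := fun h' => hjJ (Finset.mem_of_mem_erase h')
    have hcard : (insert j (J.erase i)).card = m := by
      rw [Finset.card_insert_of_notMem hj', Finset.card_erase_of_mem hiJ]; omega
    refine ih (J := insert j (J.erase i)) hcard (dsg_swap H hX ?_ (Finset.notMem_erase i J) hj' ?_) ?_
    · rw [Finset.card_erase_of_mem hiJ]; omega
    · rwa [Finset.insert_erase hiJ]
    · have : J' \ insert j (J.erase i) = (J' \ J).erase j := by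
        ext x
        simp only [Finset.mem_sdiff, Finset.mem_insert, Finset.mem_erase]
        constructor
        · rintro ⟨h1, h2⟩
          exact ⟨fun h' => h2 (.inl h'), h1, fun h' => h2 (.inr ⟨fun h'' => hiJ' (h'' ▸ h1), h'⟩)⟩
        · rintro ⟨h1, h2, h3⟩
          exact ⟨h2, fun h' => h'.elim h1 fun h'' => h3 h''.2⟩
      rw [this, Finset.card_erase_of_mem hj, hn]; rfl

/-- The controlled translation of a coordinate. -/
theorem toffoli_mem {K : Finset (Fin k)} {l j : Fin k} (hl : l ∉ K) (hj : j ∉ K) (hjl : l ≠ j)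
    (h : Dsg H (insert l K) ∈ X) : cP H K 0 (Pi.single l 1) 0 ∈ X := by
  obtain ⟨g, hg, -, -, hga⟩ := sim_turn H hX (J := K) hjl hl hj
  obtain ⟨d, hd⟩ := hga 0
  have h0 := dsg_erase H hX hl h
  have hs : cP H K (Pi.single l 1) 0 d ∈ X := by
    rcases bit_cases d with rfl | rfl
    · rwa [cP_insert H hl]
    · have h2 := X.mul_mem h0 h
      rw [← cP_insert H hl, Dsg, cP_mul H 0 _ (off_zero K) (off_zero K)] at h2
      simpa [Bit.two] using h2
  have h1 := X.mul_mem (X.mul_mem (X.inv_mem hg) hs) hg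
  rwa [mul_assoc, ← hd, inv_mul_cancel_left] at h1

/-- Sign changes on larger and larger blocks. -/
theorem dsg_up {J : Finset (Fin k)} (h3 : 3 ≤ J.card) (hJ : J.card + 2 ≤ k) (h : Dsg H J ∈ X) :
    ∃ J' : Finset (Fin k), J'.card = J.card + 1 ∧ Dsg H J' ∈ X := by
  obtain ⟨a, ha, b, hb, hab⟩ := Finset.one_lt_card.1 (show 1 < Jᶜ.card by
    rw [Finset.card_compl, Fintype.card_fin]; omega)
  rw [Finset.mem_compl] at ha hb
  obtain ⟨l, hlJ⟩ := Finset.card_pos.1 (show 0 < J.card by omega)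
  set K := J.erase l
  have hlK : l ∉ K := Finset.notMem_erase l J
  have hT : cP H K 0 (Pi.single l 1) 0 ∈ X := toffoli_mem H hX hlK (j := a)
    (fun h' => ha (Finset.mem_of_mem_erase h')) (fun h' => ha (h' ▸ hlJ)) (by rwa [Finset.insert_erase hlJ])
  have hlL : l ∉ ({a, b} : Finset (Fin k)) := by
    simp only [Finset.mem_insert, Finset.mem_singleton, not_or]
    exact ⟨fun h' => ha (h' ▸ hlJ), fun h' => hb (h' ▸ hlJ)⟩
  obtain ⟨I, hIJ, hI⟩ := Finset.exists_subset_card_eq h3
  have hD : Dsg H (insert l {a, b}) ∈ X := dsg_all H hX (m := 3) (by omega) hI (dsg_subset H hX hIJ h)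
    (by rw [Finset.card_insert_of_notMem hlL, Finset.card_pair hab])
  refine ⟨K ∪ {a, b}, ?_, ?_⟩
  · rw [Finset.card_union_of_disjoint, Finset.card_erase_of_mem hlJ, Finset.card_pair hab]
    · omega
    · rw [Finset.disjoint_left]
      intro x hx hx'
      simp only [Finset.mem_insert, Finset.mem_singleton] at hx'
      rcases hx' with rfl | rfl
      exacts [ha (Finset.mem_of_mem_erase hx), hb (Finset.mem_of_mem_erase hx)]
  · rw [← union_comm_sq H hlK hlL]
    exact X.mul_mem (X.mul_mem (X.mul_mem hT hD) hT) hD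

/-- All proper blocks. -/
theorem dsg_mem {J : Finset (Fin k)} (h3 : 3 ≤ J.card) (hJ : J.card + 1 ≤ k) (h : Dsg H J ∈ X)
    {J' : Finset (Fin k)} (hJ' : J'.card + 1 ≤ k) : Dsg H J' ∈ X := by
  obtain ⟨n, hn⟩ : ∃ n, J.card + n + 1 = k := ⟨k - J.card - 1, by omega⟩
  induction n generalizing J with
  | zero =>
    obtain ⟨J'', hsub, hc⟩ := Finset.exists_superset_card_eq (s := J') (n := J.card) (by omega)
      (by rw [Fintype.card_fin]; omega)
    exact dsg_subset H hX hsub (dsg_all H hX (m := J.card) (by omega) rfl h hc)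
  | succ n ih =>
    obtain ⟨J'', hc, hD⟩ := dsg_up H hX h3 (by omega) h
    exact ih (J := J'') (by omega) (by omega) hD (by omega)

end Coord

end Cfsg.Agent.H58.CSixPlus
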