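import Cfsg.Agent.H58.CSixPlus.Pauli

/-!
Products of two isometries (1 + U)/√2 for skew elements U, as elements of the normaliser of the Pauli group.
-/

set_option autoImplicit false
set_option linter.unusedSectionVars false

namespace Cfsg.Agent.H58.CSixPlus

open QuadraticMap Module Cfsg.Agent.Orthogonal
open Cfsg.Agent.H97.Frame (ONB)
open Cfsg.Agent.H12.CSix (bsign bsign_zero bsign_one bsign_add bsign_sq bsign_ne bit_cases)
open Matrix

section General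

variable {F V : Type*} [Field F] [AddCommGroup V] [Module F V] {Q : QuadraticForm F V}

/-- The square is the negation. -/
def Skew (U : O Q) : Prop := ∀ v, (U : V ≃ₗ[F] V) ((U : V ≃ₗ[F] V) v) = -v

theorem Skew.polar_self {U : O Q} (h : Skew U) (h2 : (2 : F) ≠ 0) (x : V) : polar Q x ((U : V ≃ₗ[F] V) x) = 0 := by
  have e := O.polar_app U x ((U : V ≃ₗ[F] V) x)
  rw [h, QuadraticMap.polar_neg_right, QuadraticMap.polar_comm] at e
  exact (mul_eq_zero.1 (show (2 : F) * polar Q x ((U : V ≃ₗ[F] V) x) = 0 by linear_combination -e)).resolve_left h2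

theorem Skew.norm {U : O Q} (h : Skew U) (h2 : (2 : F) ≠ 0) (x : V) :
    Q (x + (U : V ≃ₗ[F] V) x) = 2 * Q x := by
  rw [map_add_polar, O.map_app, h.polar_self h2]; ring

open Classical in
/-- The isometry v ↦ (1 + U)(1 + U') v / 2. -/
noncomputable def lift (U U' : O Q) : O Q :=
  if h : (2 : F) ≠ 0 ∧ Skew U ∧ Skew U' then
    ⟨LinearEquiv.ofLinearMap
      ((2 : F)⁻¹ • ((LinearMap.id + ((U : V ≃ₗ[F] V) : V →ₗ[F] V)).comp
        (LinearMap.id + ((U' : V ≃ₗ[F] V) : V →ₗ[F] V))))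
      ((2 : F)⁻¹ • ((LinearMap.id - ((U' : V ≃ₗ[F] V) : V →ₗ[F] V)).comp
        (LinearMap.id - ((U : V ≃ₗ[F] V) : V →ₗ[F] V))))
      (LinearMap.ext fun v => by
        obtain ⟨h2, hU, hU'⟩ := h
        have k : ∀ {X : O Q}, Skew X → ∀ w : V, (w - (X : V ≃ₗ[F] V) w) + (X : V ≃ₗ[F] V) (w - (X : V ≃ₗ[F] V) w) = (2 : F) • w :=
          fun {X} hX w => by rw [map_sub, hX, two_smul]; abel
        simp only [LinearMap.comp_apply, LinearMap.smul_apply, LinearMap.add_apply, LinearMap.sub_apply,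
          LinearMap.id_apply, LinearEquiv.coe_coe, map_smul, k hU', k hU]
        rw [smul_smul, smul_smul, smul_smul]
        rw [show (2 : F)⁻¹ * (2 : F)⁻¹ * 2 * 2 = 1 by field_simp, one_smul])
      (LinearMap.ext fun v => by
        obtain ⟨h2, hU, hU'⟩ := h
        have k : ∀ {X : O Q}, Skew X → ∀ w : V, (w + (X : V ≃ₗ[F] V) w) - (X : V ≃ₗ[F] V) (w + (X : V ≃ₗ[F] V) w) = (2 : F) • w :=
          fun {X} hX w => by rw [map_add, hX, two_smul]; abel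
        simp only [LinearMap.comp_apply, LinearMap.smul_apply, LinearMap.add_apply, LinearMap.sub_apply,
          LinearMap.id_apply, LinearEquiv.coe_coe, map_smul, k hU', k hU]
        rw [smul_smul, smul_smul, smul_smul]
        rw [show (2 : F)⁻¹ * (2 : F)⁻¹ * 2 * 2 = 1 by field_simp, one_smul]),
    fun v => by
      obtain ⟨h2, hU, hU'⟩ := h
      show Q ((2 : F)⁻¹ • ((v + (U' : V ≃ₗ[F] V) v) + (U : V ≃ₗ[F] V) (v + (U' : V ≃ₗ[F] V) v))) = Q v
      rw [qmap_smul, hU.norm h2, hU'.norm h2]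
      field_simp⟩
  else 1

theorem lift_app {U U' : O Q} (h2 : (2 : F) ≠ 0) (hU : Skew U) (hU' : Skew U') (v : V) :
    ((lift U U' : O Q) : V ≃ₗ[F] V) v =
      (2 : F)⁻¹ • ((v + (U' : V ≃ₗ[F] V) v) + (U : V ≃ₗ[F] V) (v + (U' : V ≃ₗ[F] V) v)) := by
  rw [lift, dif_pos ⟨h2, hU, hU'⟩]; rfl

/-- The operator 1 + U carries X to Y. -/
def Moves (U X Y : O Q) : Prop :=
  ∀ v, (X : V ≃ₗ[F] V) v + (U : V ≃ₗ[F] V) ((X : V ≃ₗ[F] V) v) = (Y : V ≃ₗ[F] V) (v + (U : V ≃ₗ[F] V) v)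

theorem moves_comm {U X : O Q} (h : U * X = X * U) : Moves U X X := fun v => by
  rw [map_add, ← mul_app (U : V ≃ₗ[F] V), ← Subgroup.coe_mul, h, Subgroup.coe_mul, mul_app]

theorem moves_anti {U X : O Q} (hU : Skew U)
    (h : ∀ v, (U : V ≃ₗ[F] V) ((X : V ≃ₗ[F] V) v) = -(X : V ≃ₗ[F] V) ((U : V ≃ₗ[F] V) v)) : Moves U X (U * X) :=
  fun v => by
  rw [Subgroup.coe_mul, mul_app, map_add, map_add]
  have e : (U : V ≃ₗ[F] V) ((X : V ≃ₗ[F] V) ((U : V ≃ₗ[F] V) v)) = (X : V ≃ₗ[F] V) v := by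
    have := congrArg (U : V ≃ₗ[F] V) (h v)
    rw [hU, map_neg, neg_inj] at this
    exact this.symm
  rw [e, add_comm]

theorem lift_moves {U U' X Y Z : O Q} (h2 : (2 : F) ≠ 0) (hU : Skew U) (hU' : Skew U') (h1 : Moves U' X Y)
    (h1' : Moves U Y Z) : lift U U' * X = Z * lift U U' := O.ext_app fun v => by
  rw [Subgroup.coe_mul, mul_app, Subgroup.coe_mul, mul_app, lift_app h2 hU hU', lift_app h2 hU hU', h1, h1', map_smul]

theorem lift_mul_lift {U U' U'' : O Q} (h2 : (2 : F) ≠ 0) (hU : Skew U) (hU' : Skew U') (hU'' : Skew U'')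
    (h : ∀ v, (U : V ≃ₗ[F] V) ((U'' : V ≃ₗ[F] V) v) = -(U'' : V ≃ₗ[F] V) ((U : V ≃ₗ[F] V) v)) :
    lift U U'' * lift U'' U' = U * U'' * lift U U' := O.ext_app fun v => by
  have k : ∀ w, (w + (U'' : V ≃ₗ[F] V) w) + (U'' : V ≃ₗ[F] V) (w + (U'' : V ≃ₗ[F] V) w) =
      (2 : F) • (U'' : V ≃ₗ[F] V) w := fun w => by rw [map_add, hU'', two_smul]; abel
  simp only [Subgroup.coe_mul, mul_app, lift_app h2 hU hU', lift_app h2 hU hU'', lift_app h2 hU'' hU', map_smul]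
  rw [← smul_add, k, smul_smul, inv_mul_cancel₀ h2, one_smul]
  congr 1
  rw [moves_anti hU h, Subgroup.coe_mul, mul_app]

theorem lift_cube {U U' : O Q} (h2 : (2 : F) ≠ 0) (hU : Skew U) (hU' : Skew U')
    (h : ∀ v, (U : V ≃ₗ[F] V) ((U' : V ≃ₗ[F] V) v) = -(U' : V ≃ₗ[F] V) ((U : V ≃ₗ[F] V) v)) (v : V) :
    ((lift U U' ^ 3 : O Q) : V ≃ₗ[F] V) v = -v := by
  set T := ((lift U U' : O Q) : V ≃ₗ[F] V)
  have hT : ∀ w, T (T w) = T w - w := fun w => by
    have e : ∀ x, T x = (2 : F)⁻¹ • (x + (U' : V ≃ₗ[F] V) x + ((U : V ≃ₗ[F] V) x + (U : V ≃ₗ[F] V) ((U' : V ≃ₗ[F] V) x))) :=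
      fun x => by simp only [T, lift_app h2 hU hU', map_add]
    have h' : ∀ v, (U' : V ≃ₗ[F] V) ((U : V ≃ₗ[F] V) v) = -(U : V ≃ₗ[F] V) ((U' : V ≃ₗ[F] V) v) := fun v => by
      rw [h, neg_neg]
    rw [e (T w), e w]
    simp only [map_smul, map_add, hU _, hU' _, h', map_neg, smul_add, smul_neg, smul_smul, neg_neg]
    match_scalars <;> field_simp <;> ring
  rw [show lift U U' ^ 3 = lift U U' * (lift U U' * lift U U') by rw [pow_succ', pow_two], Subgroup.coe_mul, mul_app,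
    Subgroup.coe_mul, mul_app]
  show T (T (T v)) = -v
  rw [hT v, map_sub, hT v]
  abel

end General

namespace Coord

variable {F V : Type*} [Field F] [Fintype F] [AddCommGroup V] [Module F V] {k : ℕ}
variable {Q : QuadraticForm F V} {e : Pts k → V} {c : F} (H : ONB Q e c)
include H

/-- The alternating product. -/
def bb (a b a' b' : Pts k) : ZMod 2 := a ⬝ᵥ b' + a' ⬝ᵥ b

theorem scal_app (d : ZMod 2) (v : V) :
    ((cP H ∅ 0 0 d : O Q) : V ≃ₗ[F] V) v = (bsign d : F) • v := by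
  have hv : v ∈ Submodule.span F (Set.range e) := H.top ▸ Submodule.mem_top
  induction hv using Submodule.span_induction with
  | mem x hx =>
    obtain ⟨s, rfl⟩ := hx
    rw [cP_app H 0 (Bit.off_empty _)]
    simp [Bit.chi_empty]
  | zero => simp
  | add x y _ _ hx hy => rw [map_add, hx, hy, smul_add]
  | smul a x _ hx => rw [map_smul, hx, smul_comm]

theorem scal_neg (v : V) : ((cP H ∅ 0 0 1 : O Q) : V ≃ₗ[F] V) v = -v := by
  rw [scal_app, bsign_one, neg_one_smul]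

theorem skew_cP {a b : Pts k} (d : ZMod 2) (h : a ⬝ᵥ b = 1) : Skew (cP H ∅ a b d) := fun v => by
  rw [← mul_app, ← Subgroup.coe_mul, cP_mul H a a (Bit.off_empty b) (Bit.off_empty b), Bit.vtwo, Bit.vtwo, h,
    show d + d + 1 = 1 by rw [Bit.two, zero_add], scal_neg]

theorem anti_cP {a b a' b' : Pts k} (d d' : ZMod 2) (h : bb a b a' b' = 1) (v : V) :
    ((cP H ∅ a b d : O Q) : V ≃ₗ[F] V) (((cP H ∅ a' b' d' : O Q) : V ≃ₗ[F] V) v) =
      -((cP H ∅ a' b' d' : O Q) : V ≃ₗ[F] V) (((cP H ∅ a b d : O Q) : V ≃ₗ[F] V) v) := by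
  rw [← mul_app, ← Subgroup.coe_mul, cP_comm H a a' (Bit.off_empty b) (Bit.off_empty b'),
    show a ⬝ᵥ b' + a' ⬝ᵥ b = 1 from h, Subgroup.coe_mul, mul_app, scal_neg, Subgroup.coe_mul, mul_app]

theorem comm_cP {a b a' b' : Pts k} (d d' : ZMod 2) (h : bb a b a' b' = 0) :
    cP H ∅ a b d * cP H ∅ a' b' d' = cP H ∅ a' b' d' * cP H ∅ a b d := by
  rw [cP_comm H a a' (Bit.off_empty b) (Bit.off_empty b'), show a ⬝ᵥ b' + a' ⬝ᵥ b = 0 from h, cP_zero, one_mul]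

/-- 1 + U acts on the Pauli operators by the reflection. -/
theorem moves_refl {u v : Pts k} (hu : u ⬝ᵥ v = 1) (a b : Pts k) (d : ZMod 2) :
    ∃ d', Moves (cP H ∅ u v 0) (cP H ∅ a b d) (cP H ∅ (a + bb u v a b • u) (b + bb u v a b • v) d') := by
  rcases bit_cases (bb u v a b) with h | h
  · exact ⟨d, by rw [h, zero_smul, zero_smul, add_zero, add_zero]; exact moves_comm (comm_cP H 0 d h)⟩
  · refine ⟨0 + d + u ⬝ᵥ b, ?_⟩
    rw [h, one_smul, one_smul, add_comm a, add_comm b, ← cP_mul H u a (Bit.off_empty v) (Bit.off_empty b)]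
    exact moves_anti (skew_cP H 0 hu) (anti_cP H 0 d h)

/-- The lift of a product of two reflections acts so. -/
theorem lift_cP {u v u' v' : Pts k} (hu : u ⬝ᵥ v = 1) (hu' : u' ⬝ᵥ v' = 1) (a b : Pts k) (d : ZMod 2) :
    ∃ d', lift (cP H ∅ u v 0) (cP H ∅ u' v' 0) * cP H ∅ a b d =
      cP H ∅ (a + bb u' v' a b • u' + bb u v (a + bb u' v' a b • u') (b + bb u' v' a b • v') • u)
        (b + bb u' v' a b • v' + bb u v (a + bb u' v' a b • u') (b + bb u' v' a b • v') • v) d' *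
      lift (cP H ∅ u v 0) (cP H ∅ u' v' 0) := by
  obtain ⟨d1, h1⟩ := moves_refl H hu' a b d
  obtain ⟨d2, h2⟩ := moves_refl H hu (a + bb u' v' a b • u') (b + bb u' v' a b • v') d1
  exact ⟨d2, lift_moves H.two (skew_cP H 0 hu) (skew_cP H 0 hu') h1 h2⟩

theorem lift_nrm {u v u' v' : Pts k} (hu : u ⬝ᵥ v = 1) (hu' : u' ⬝ᵥ v' = 1) :
    lift (cP H ∅ u v 0) (cP H ∅ u' v' 0) ∈ Subgroup.normalizer (pauli H : Set (O Q)) :=
  mem_nrm H fun a b d => ⟨_, _, lift_cP H hu hu' a b d⟩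

theorem lift_mem_anti (hk : 3 ≤ k) {u v u' v' : Pts k} (hu : u ⬝ᵥ v = 1) (hu' : u' ⬝ᵥ v' = 1)
    (h : bb u v u' v' = 1) : lift (cP H ∅ u v 0) (cP H ∅ u' v' 0) ∈ commutator (O Q) := by
  set T := lift (cP H ∅ u v 0) (cP H ∅ u' v' 0)
  have hn : cP H ∅ 0 0 1 ∈ commutator (O Q) := cP_mem H (by simp; omega) 0 (Bit.off_empty _) 1
  have h3 : T ^ 3 = cP H ∅ 0 0 1 := O.ext_app fun w => by
    rw [lift_cube H.two (skew_cP H 0 hu) (skew_cP H 0 hu') (anti_cP H 0 0 h), scal_neg]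
  have hT6 : (T * cP H ∅ 0 0 1) ^ 3 = 1 := by
    have hc : Commute T (cP H ∅ 0 0 1) := O.ext_app fun w => by
      simp only [Subgroup.coe_mul, mul_app, scal_neg, map_neg]
    rw [hc.mul_pow, h3, ← pow_succ']
    refine O.ext_app fun w => ?_
    simp only [pow_succ, pow_zero, one_mul, Subgroup.coe_mul, mul_app, scal_neg, neg_neg]; rfl
  have hfd := H.finite
  have h4 : finrank F V ≠ 4 := by
    rw [H.finrank_eq, Fintype.card_fun, Fintype.card_fin, ZMod.card]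
    have : 2 ^ 3 ≤ 2 ^ k := Nat.pow_le_pow_right (by norm_num) hk
    omega
  have hm := H58.Elusive.mem_commutator_of_odd H.nondeg h4 (r := 3) (by decide) _ hT6
  simpa using mul_mem hm (inv_mem hn)

theorem lift_mem (hk : 3 ≤ k) {u v u' v' x y : Pts k} (hu : u ⬝ᵥ v = 1) (hu' : u' ⬝ᵥ v' = 1) (hx : x ⬝ᵥ y = 1)
    (h : bb u v x y = 1) (h' : bb x y u' v' = 1) :
    lift (cP H ∅ u v 0) (cP H ∅ u' v' 0) ∈ commutator (O Q) := by
  have e := lift_mul_lift H.two (skew_cP H 0 hu) (skew_cP H 0 hu') (skew_cP H 0 hx) (anti_cP H 0 0 h)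
  have hm : cP H ∅ u v 0 * cP H ∅ x y 0 ∈ commutator (O Q) :=
    mul_mem (cP_mem H (by simp; omega) u (Bit.off_empty _) 0) (cP_mem H (by simp; omega) x (Bit.off_empty _) 0)
  have := mul_mem (inv_mem hm) (mul_mem (lift_mem_anti H hk hu hx h) (lift_mem_anti H hk hx hu' h'))
  rwa [e, inv_mul_cancel_left] at this

end Coord

end Cfsg.Agent.H58.CSixPlus
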