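import Cfsg.Agent.H58.CSixPlus.Coord
import Mathlib.Data.Matrix.Mul

/-!
Pauli operators controlled on coordinate subspaces, as signed permutations of a frame indexed by bit strings.
-/

set_option autoImplicit false
set_option linter.unusedSectionVars false

namespace Cfsg.Agent.H58.CSixPlus

open QuadraticMap Module Cfsg.Agent.Orthogonal
open Cfsg.Agent.H97.Frame (ONB)
open Cfsg.Agent.H12.CSix (bsign bsign_zero bsign_one bsign_add bsign_sq bsign_ne bit_cases)
open Matrix

/-- Bit strings. -/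
abbrev Pts (k : ℕ) : Type := Fin k → ZMod 2

namespace Bit

variable {k : ℕ}

theorem two (x : ZMod 2) : x + x = 0 := CharTwo.add_self_eq_zero x

theorem vtwo (x : Pts k) : x + x = 0 := funext fun _ => two _

/-- The indicator of the strings with ones on J. -/
def chi (J : Finset (Fin k)) (s : Pts k) : ZMod 2 := ∏ i ∈ J, s i

/-- The vector vanishes on J. -/
def Off (J : Finset (Fin k)) (b : Pts k) : Prop := ∀ i ∈ J, b i = 0

theorem chi_empty (s : Pts k) : chi ∅ s = 1 := Finset.prod_empty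

theorem chi_one (i : Fin k) (s : Pts k) : chi {i} s = s i := Finset.prod_singleton _ _

theorem chi_insert {J : Finset (Fin k)} {l : Fin k} (h : l ∉ J) (s : Pts k) :
    chi (insert l J) s = s l * chi J s := Finset.prod_insert h

theorem chi_sq (J : Finset (Fin k)) (s : Pts k) : chi J s * chi J s = chi J s := by
  generalize chi J s = x; revert x; decide

theorem chi_eq_one {J : Finset (Fin k)} {s : Pts k} : chi J s = 1 ↔ ∀ i ∈ J, s i = 1 := by
  constructor
  · intro h i hi
    refine (bit_cases _).resolve_left fun e => ?_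
    rw [chi, Finset.prod_eq_zero hi e] at h
    exact zero_ne_one h
  · exact fun h => Finset.prod_eq_one h

theorem chi_add {J : Finset (Fin k)} {b : Pts k} (hb : Off J b) (s : Pts k) : chi J (s + b) = chi J s :=
  Finset.prod_congr rfl fun i hi => by rw [Pi.add_apply, hb i hi, add_zero]

theorem chi_smul_add {J : Finset (Fin k)} {b : Pts k} (hb : Off J b) (x : ZMod 2) (s : Pts k) :
    chi J (s + x • b) = chi J s := chi_add (fun i hi => by rw [Pi.smul_apply, hb i hi, smul_zero]) s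

theorem off_empty (b : Pts k) : Off ∅ b := fun i hi => absurd hi (Finset.notMem_empty i)

theorem off_zero (J : Finset (Fin k)) : Off J (0 : Pts k) := fun _ _ => rfl

theorem Off.add {J : Finset (Fin k)} {b b' : Pts k} (h : Off J b) (h' : Off J b') : Off J (b + b') :=
  fun i hi => by rw [Pi.add_apply, h i hi, h' i hi, add_zero]

theorem off_single {J : Finset (Fin k)} {l : Fin k} (h : l ∉ J) : Off J (Pi.single l 1 : Pts k) :=
  fun i hi => Pi.single_eq_of_ne (fun e => h (by rw [← e]; exact hi)) 1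

theorem Off.anti {I J : Finset (Fin k)} {b : Pts k} (h : Off J b) (hIJ : I ⊆ J) : Off I b :=
  fun i hi => h i (hIJ hi)

theorem single_ne (l : Fin k) : (Pi.single l 1 : Pts k) ≠ 0 := fun h => by simpa using congrFun h l

theorem single_inj {l m : Fin k} (h : l ≠ m) : (Pi.single l 1 : Pts k) ≠ Pi.single m 1 := fun e => by
  simpa [Pi.single_eq_of_ne h] using congrFun e l

theorem pair_ne {l m : Fin k} (h : l ≠ m) : (Pi.single l 1 + Pi.single m 1 : Pts k) ≠ 0 := fun e => by
  simpa [Pi.single_eq_of_ne h] using congrFun e l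

/-- Two coordinates give a vector killed by a functional. -/
theorem exists_ker {J : Finset (Fin k)} (hJ : J.card + 2 ≤ k) (a : Pts k) :
    ∃ w, Off J w ∧ w ≠ 0 ∧ a ⬝ᵥ w = 0 := by
  obtain ⟨l, hl, m, hm, hlm⟩ := Finset.one_lt_card.1 (show 1 < Jᶜ.card by
    rw [Finset.card_compl, Fintype.card_fin]; omega)
  rw [Finset.mem_compl] at hl hm
  rcases bit_cases (a l) with h1 | h1
  · exact ⟨_, off_single hl, single_ne l, by rw [dotProduct_single, h1, zero_mul]⟩
  rcases bit_cases (a m) with h2 | h2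
  · exact ⟨_, off_single hm, single_ne m, by rw [dotProduct_single, h2, zero_mul]⟩
  exact ⟨_, (off_single hl).add (off_single hm), pair_ne hlm, by
    rw [dotProduct_add, dotProduct_single, dotProduct_single, h1, h2, one_mul, two]⟩

/-- Three coordinates give two of them. -/
theorem exists_ker_two {J : Finset (Fin k)} (hJ : J.card + 3 ≤ k) (a u : Pts k) :
    ∃ w, Off J w ∧ w ≠ 0 ∧ w ≠ u ∧ a ⬝ᵥ w = 0 := by
  obtain ⟨w, hw, hw0, hwa⟩ := exists_ker (J := J) (by omega) a
  by_cases hwu : w = u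
  swap
  · exact ⟨w, hw, hw0, hwu, hwa⟩
  obtain ⟨l, hl⟩ : ∃ l, w l ≠ 0 := Function.ne_iff.1 hw0
  have hlJ : l ∉ J := fun h => hl (hw l h)
  obtain ⟨w', hw', hw'0, hw'a⟩ := exists_ker (J := insert l J) (by rw [Finset.card_insert_of_notMem hlJ]; omega) a
  exact ⟨w', hw'.anti (Finset.subset_insert _ _), hw'0,
    fun e => hl (by rw [hwu, ← e]; exact hw' l (Finset.mem_insert_self _ _)), hw'a⟩

theorem exists_other {J : Finset (Fin k)} (hJ : J.card + 2 ≤ k) (b : Pts k) :
    ∃ w, Off J w ∧ w ≠ 0 ∧ w ≠ b := by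
  obtain ⟨l, hl, m, hm, hlm⟩ := Finset.one_lt_card.1 (show 1 < Jᶜ.card by
    rw [Finset.card_compl, Fintype.card_fin]; omega)
  rw [Finset.mem_compl] at hl hm
  by_cases h : Pi.single l 1 = b
  · exact ⟨_, off_single hm, single_ne m, fun e => single_inj hlm (h.trans e.symm)⟩
  · exact ⟨_, off_single hl, single_ne l, h⟩

theorem exists_dual {b w : Pts k} (hw : w ≠ 0) (hwb : w ≠ b) : ∃ a : Pts k, a ⬝ᵥ b = 0 ∧ a ⬝ᵥ w = 1 := by
  by_cases h : ∃ l, b l = 0 ∧ w l = 1
  · obtain ⟨l, h1, h2⟩ := h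
    exact ⟨Pi.single l 1, by rw [single_dotProduct, one_mul, h1], by rw [single_dotProduct, one_mul, h2]⟩
  push Not at h
  obtain ⟨l, hl⟩ := Function.ne_iff.1 hw
  have hl1 : w l = 1 := (bit_cases _).resolve_left hl
  have hbl : b l = 1 := (bit_cases _).resolve_left fun e => h l e hl1
  obtain ⟨m, hm⟩ := Function.ne_iff.1 hwb
  have hbm : b m = 1 := (bit_cases _).resolve_left fun e => hm (by
    rw [e]; exact (bit_cases _).resolve_right (h m e))
  have hwm : w m = 0 := (bit_cases _).resolve_right fun e => hm (by rw [e, hbm])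
  refine ⟨Pi.single l 1 + Pi.single m 1, ?_, ?_⟩ <;>
    rw [add_dotProduct, single_dotProduct, single_dotProduct, one_mul, one_mul]
  · rw [hbl, hbm, two]
  · rw [hl1, hwm, add_zero]

theorem sum_eq_zero_of_invariant (f : Pts k → ZMod 2) {w : Pts k} (hw : w ≠ 0) (h : ∀ s, f (s + w) = f s) :
    ∑ s, f s = 0 :=
  Finset.sum_involution (fun s _ => s + w) (fun s _ => by rw [h, two])
    (fun s _ _ e => hw (by simpa using e)) (fun s _ => Finset.mem_univ _)
    (fun s _ => by rw [add_assoc, vtwo, add_zero])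

open Classical in
/-- The permutation adding b where P is one. -/
noncomputable def flp (P : Pts k → ZMod 2) (b : Pts k) : Equiv.Perm (Pts k) :=
  if h : ∀ s, P (s + b) = P s then
    Function.Involutive.toPerm (fun s => s + P s • b) (fun s => by
      have e : P (s + P s • b) = P s := by
        rcases bit_cases (P s) with e | e
        · rw [e, zero_smul, add_zero, e]
        · rw [e, one_smul, h, e]
      show s + P s • b + P (s + P s • b) • b = s
      rw [e, add_assoc, vtwo, add_zero])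
  else 1

theorem flp_app {P : Pts k → ZMod 2} {b : Pts k} (h : ∀ s, P (s + b) = P s) (s : Pts k) :
    flp P b s = s + P s • b := by
  rw [flp, dif_pos h]; rfl

theorem flp_sign {P : Pts k → ZMod 2} {b w : Pts k} (hb : ∀ s, P (s + b) = P s) (hw : ∀ s, P (s + w) = P s)
    (hw0 : w ≠ 0) (hwb : w ≠ b) : Equiv.Perm.sign (flp P b) = 1 := by
  obtain ⟨a, hab, haw⟩ := exists_dual hw0 hwb
  set P1 : Pts k → ZMod 2 := fun s => P s * (a ⬝ᵥ s)
  set P2 : Pts k → ZMod 2 := fun s => P s * (1 + a ⬝ᵥ s)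
  have h1 : ∀ s, P1 (s + b) = P1 s := fun s => by simp only [P1, hb, dotProduct_add, hab, add_zero]
  have h2 : ∀ s, P2 (s + b) = P2 s := fun s => by simp only [P2, hb, dotProduct_add, hab, add_zero]
  set τ : Equiv.Perm (Pts k) := Equiv.addRight w
  have hprod : flp P b = flp P1 b * flp P2 b := Equiv.ext fun s => by
    rw [Equiv.Perm.mul_apply, flp_app hb, flp_app h2, flp_app h1]
    have e : P1 (s + P2 s • b) = P1 s := by
      rcases bit_cases (P2 s) with e | e <;> rw [e]
      · rw [zero_smul, add_zero]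
      · rw [one_smul, h1]
    rw [e, add_assoc, ← add_smul]
    congr 2
    simp only [P1, P2]
    generalize P s = x, a ⬝ᵥ s = y
    revert x y; decide
  have hconj : flp P2 b = τ * flp P1 b * τ⁻¹ := by
    rw [eq_mul_inv_iff_mul_eq]
    refine Equiv.ext fun s => ?_
    rw [Equiv.Perm.mul_apply, Equiv.Perm.mul_apply, flp_app h2, flp_app h1]
    show s + w + P2 (s + w) • b = s + P1 s • b + w
    have e : P2 (s + w) = P1 s := by
      simp only [P1, P2, hw, dotProduct_add, haw]
      generalize P s = x, a ⬝ᵥ s = y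
      revert x y; decide
    rw [e, add_right_comm]
  rw [hprod, hconj, map_mul, map_mul, map_mul, map_inv, mul_inv_cancel_comm, Int.units_mul_self]

theorem chi_flp {J : Finset (Fin k)} {b : Pts k} (hb : Off J b) (s : Pts k) :
    flp (chi J) b s = s + chi J s • b := flp_app (chi_add hb) s

theorem lin_inv {c u : Pts k} (h : c ⬝ᵥ u = 0) (s : Pts k) : c ⬝ᵥ (s + u) = c ⬝ᵥ s := by
  rw [dotProduct_add, h, add_zero]

end Bit

open Bit

variable {F V : Type*} [Field F] [Fintype F] [AddCommGroup V] [Module F V] {k : ℕ}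
variable {Q : QuadraticForm F V} {e : Pts k → V} {c : F}

namespace Coord

variable (H : ONB Q e c)
include H

/-- The Pauli operator (a, b) with the sign d, controlled on J. -/
noncomputable def cP (J : Finset (Fin k)) (a b : Pts k) (d : ZMod 2) : O Q :=
  mn H (flp (chi J) b) fun s => chi J s * (a ⬝ᵥ s + d)

theorem cP_app {J : Finset (Fin k)} (a : Pts k) {b : Pts k} (hb : Off J b) (d : ZMod 2) (s : Pts k) :
    ((cP H J a b d : O Q) : V ≃ₗ[F] V) (e s) =
      (bsign (chi J s * (a ⬝ᵥ s + d)) : F) • e (s + chi J s • b) := by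
  rw [cP, mn_app, chi_flp hb]

theorem cP_mul {J : Finset (Fin k)} (a a' : Pts k) {b b' : Pts k} (hb : Off J b) (hb' : Off J b') (d d' : ZMod 2) :
    cP H J a b d * cP H J a' b' d' = cP H J (a + a') (b + b') (d + d' + a ⬝ᵥ b') := H.ext_e fun s => by
  rw [Subgroup.coe_mul, mul_app, cP_app H a' hb', map_smul, cP_app H a hb, cP_app H _ (hb.add hb'), smul_smul,
    ← bsign_add, chi_smul_add hb', add_assoc, ← smul_add, add_comm b' b]
  congr 2
  rw [dotProduct_add, dotProduct_smul, add_dotProduct, smul_eq_mul]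
  have hx : chi J s = 0 ∨ chi J s = 1 := bit_cases _
  rcases hx with h | h <;> rw [h]
  · simp
  · generalize a ⬝ᵥ s = x, a' ⬝ᵥ s = y, a ⬝ᵥ b' = z
    revert x y z d d'; decide

theorem cP_zero (J : Finset (Fin k)) : cP H J 0 0 0 = 1 := H.ext_e fun s => by
  rw [cP_app H 0 (off_zero J)]; simp [bsign_zero]

theorem cP_inv {J : Finset (Fin k)} (a : Pts k) {b : Pts k} (hb : Off J b) (d : ZMod 2) :
    (cP H J a b d)⁻¹ = cP H J a b (d + a ⬝ᵥ b) := by
  refine inv_eq_of_mul_eq_one_right ?_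
  rw [cP_mul H a a hb hb, vtwo, vtwo, ← cP_zero H J]
  congr 1
  generalize a ⬝ᵥ b = x
  revert x d; decide

theorem cP_comm {J : Finset (Fin k)} (a a' : Pts k) {b b' : Pts k} (hb : Off J b) (hb' : Off J b') (d d' : ZMod 2) :
    cP H J a b d * cP H J a' b' d' = cP H J 0 0 (a ⬝ᵥ b' + a' ⬝ᵥ b) * (cP H J a' b' d' * cP H J a b d) := by
  rw [cP_mul H a a' hb hb', cP_mul H a' a hb' hb, cP_mul H 0 _ (off_zero J) (hb'.add hb), zero_add, zero_add,
    zero_dotProduct, add_comm a, add_comm b]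
  congr 1
  generalize a ⬝ᵥ b' = x, a' ⬝ᵥ b = y
  revert x y d d'; decide

/-- The criterion for a signed permutation to conjugate one controlled Pauli operator to another. -/
theorem mn_cP {J J' : Finset (Fin k)} (σ : Equiv.Perm (Pts k)) (ε : Pts k → ZMod 2) (a a' : Pts k) {b b' : Pts k}
    (hb : Off J b) (hb' : Off J' b') (d d' : ZMod 2)
    (h1 : ∀ s, σ (s + chi J s • b) = σ s + chi J' (σ s) • b')
    (h2 : ∀ s, chi J s * (a ⬝ᵥ s + d) + ε (s + chi J s • b) = ε s + chi J' (σ s) * (a' ⬝ᵥ σ s + d')) :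
    mn H σ ε * cP H J a b d = cP H J' a' b' d' * mn H σ ε := H.ext_e fun s => by
  rw [Subgroup.coe_mul, mul_app, Subgroup.coe_mul, mul_app, cP_app H a hb, map_smul, mn_app, mn_app, map_smul,
    cP_app H a' hb', smul_smul, smul_smul, h1, ← bsign_add, ← bsign_add, h2]

theorem cP_mem {J : Finset (Fin k)} (hJ : J.card + 2 ≤ k) (a : Pts k) {b : Pts k} (hb : Off J b) (d : ZMod 2) :
    cP H J a b d ∈ commutator (O Q) := by
  refine mn_mem H ?_ ?_
  · obtain ⟨w, hw, hw0, hwb⟩ := exists_other hJ b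
    exact flp_sign (chi_add hb) (chi_add hw) hw0 hwb
  · obtain ⟨w, hw, hw0, hwa⟩ := exists_ker hJ a
    exact sum_eq_zero_of_invariant _ hw0 fun s => by rw [chi_add hw, dotProduct_add, hwa, add_zero]

/-- The Pauli group. -/
def pauli : Subgroup (O Q) where
  carrier := {g | ∃ a b d, g = cP H ∅ a b d}
  one_mem' := ⟨0, 0, 0, (cP_zero H ∅).symm⟩
  mul_mem' := by
    rintro _ _ ⟨a, b, d, rfl⟩ ⟨a', b', d', rfl⟩
    exact ⟨_, _, _, cP_mul H a a' (off_empty b) (off_empty b') d d'⟩
  inv_mem' := by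
    rintro _ ⟨a, b, d, rfl⟩
    exact ⟨_, _, _, cP_inv H a (off_empty b) d⟩

theorem cP_mem_pauli (a b : Pts k) (d : ZMod 2) : cP H ∅ a b d ∈ pauli H := ⟨a, b, d, rfl⟩

/-- An element permuting the Pauli operators normalises their group. -/
theorem mem_nrm {g : O Q}
    (h : ∀ a b d, ∃ a' b' d', g * cP H ∅ a b d = cP H ∅ a' b' d' * g) :
    g ∈ Subgroup.normalizer (pauli H : Set (O Q)) := by
  have hfd := H.finite
  have : Finite V := Module.finite_of_finite F
  have : Finite (O Q) := Finite.of_injective (fun g : O Q => fun x => (g : V ≃ₗ[F] V) x)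
    fun a b h => O.ext_app fun x => congrFun h x
  have hsub : ∀ x ∈ pauli H, g * x * g⁻¹ ∈ pauli H := by
    rintro _ ⟨a, b, d, rfl⟩
    obtain ⟨a', b', d', e'⟩ := h a b d
    rw [e', mul_inv_cancel_right]
    exact cP_mem_pauli H _ _ _
  refine Subgroup.mem_normalizer_iff.2 fun x => ⟨hsub x, fun hx => ?_⟩
  have hinj : Function.Injective fun y : pauli H => (⟨g * y.1 * g⁻¹, hsub y.1 y.2⟩ : pauli H) := fun a b e =>
    Subtype.ext (mul_left_cancel (mul_right_cancel (congrArg Subtype.val e)))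
  obtain ⟨y, hy⟩ := (Finite.injective_iff_surjective.1 hinj) ⟨_, hx⟩
  rw [← mul_left_cancel (mul_right_cancel (congrArg Subtype.val hy))]
  exact y.2

/-- The linear transvection. -/
noncomputable def lin (u c' : Pts k) : O Q := mn H (flp (fun s => c' ⬝ᵥ s) u) 0

/-- The quadratic sign change. -/
noncomputable def shr (f g : Pts k) : O Q := mn H 1 fun s => (f ⬝ᵥ s) * (g ⬝ᵥ s)

theorem lin_cP (u c' : Pts k) (hcu : c' ⬝ᵥ u = 0) {J : Finset (Fin k)} (hu : Off J u) (a : Pts k)
    {b : Pts k} (hb : Off J b) (d : ZMod 2) :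
    lin H u c' * cP H J a b d =
      cP H J (a + (a ⬝ᵥ u) • c') (b + (c' ⬝ᵥ b) • u) d * lin H u c' := by
  have hP := fun s => lin_inv hcu s
  refine mn_cP H _ _ a _ hb (hb.add fun i hi => by rw [Pi.smul_apply, hu i hi, smul_zero]) d d (fun s => ?_) fun s => ?_
  · rw [flp_app hP, flp_app hP, chi_smul_add hu, dotProduct_add, dotProduct_smul, add_smul, smul_add, smul_smul,
      smul_eq_mul]
    abel
  · rw [flp_app hP, chi_smul_add hu, add_dotProduct, dotProduct_add, dotProduct_add, smul_dotProduct,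
      smul_dotProduct, dotProduct_smul, dotProduct_smul, hcu]
    simp only [Pi.zero_apply, smul_eq_mul]
    generalize chi J s = x, a ⬝ᵥ s = y, a ⬝ᵥ u = z, c' ⬝ᵥ s = v
    revert x y z v d; decide

theorem shr_cP (f g : Pts k) (a : Pts k) (b : Pts k) (d : ZMod 2) :
    shr H f g * cP H ∅ a b d =
      cP H ∅ (a + (g ⬝ᵥ b) • f + (f ⬝ᵥ b) • g) b (d + (f ⬝ᵥ b) * (g ⬝ᵥ b)) * shr H f g := by
  refine mn_cP H _ _ a _ (off_empty b) (off_empty b) d _ (fun s => rfl) fun s => ?_
  simp only [chi_empty, one_smul, one_mul, Equiv.Perm.one_apply, dotProduct_add, add_dotProduct, smul_dotProduct,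
    smul_eq_mul]
  generalize a ⬝ᵥ s = x, f ⬝ᵥ s = y, g ⬝ᵥ s = z, f ⬝ᵥ b = v, g ⬝ᵥ b = t
  revert x y z v t d; decide

/-- A sign change by a quadratic off J commutes with the controls. -/
theorem shr_cP_off {f g : Pts k} {J : Finset (Fin k)} (a : Pts k) {b : Pts k} (hb : Off J b) (d : ZMod 2) :
    shr H f g * cP H J a b d =
      cP H J (a + (g ⬝ᵥ b) • f + (f ⬝ᵥ b) • g) b (d + (f ⬝ᵥ b) * (g ⬝ᵥ b)) * shr H f g := by
  refine mn_cP H _ _ a _ hb hb d _ (fun s => rfl) fun s => ?_
  simp only [Equiv.Perm.one_apply, dotProduct_add, dotProduct_smul, add_dotProduct, smul_dotProduct, smul_eq_mul]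
  generalize chi J s = w, a ⬝ᵥ s = x, f ⬝ᵥ s = y, g ⬝ᵥ s = z, f ⬝ᵥ b = v, g ⬝ᵥ b = t
  revert w x y z v t d; decide

theorem lin_nrm {u c' : Pts k} (hcu : c' ⬝ᵥ u = 0) :
    lin H u c' ∈ Subgroup.normalizer (pauli H : Set (O Q)) :=
  mem_nrm H fun a b d => ⟨_, _, _, lin_cP H u c' hcu (off_empty u) a (off_empty b) d⟩

theorem shr_nrm (f g : Pts k) : shr H f g ∈ Subgroup.normalizer (pauli H : Set (O Q)) :=
  mem_nrm H fun a b d => ⟨_, _, _, shr_cP H f g a b d⟩

theorem lin_mem (hk : 3 ≤ k) {u c' : Pts k} (hcu : c' ⬝ᵥ u = 0) : lin H u c' ∈ commutator (O Q) := by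
  refine mn_mem H ?_ (by simp)
  obtain ⟨w, -, hw0, hwu, hwc⟩ := exists_ker_two (J := ∅) (by simpa using hk) c' u
  exact flp_sign (lin_inv hcu) (lin_inv hwc) hw0 hwu

theorem shr_mem (hk : 3 ≤ k) (f g : Pts k) : shr H f g ∈ commutator (O Q) := by
  refine mn_mem H (map_one _) ?_
  obtain ⟨w1, -, hw10, -, hf1⟩ := exists_ker_two (J := ∅) (by simpa using hk) f 0
  obtain ⟨w2, -, hw20, hw21, hf2⟩ := exists_ker_two (J := ∅) (by simpa using hk) f w1
  obtain ⟨w, hw0, hfw, hgw⟩ : ∃ w, w ≠ 0 ∧ f ⬝ᵥ w = 0 ∧ g ⬝ᵥ w = 0 := by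
    rcases bit_cases (g ⬝ᵥ w1) with h1 | h1
    · exact ⟨w1, hw10, hf1, h1⟩
    rcases bit_cases (g ⬝ᵥ w2) with h2 | h2
    · exact ⟨w2, hw20, hf2, h2⟩
    refine ⟨w1 + w2, fun h => hw21 ?_, by rw [dotProduct_add, hf1, hf2, add_zero], by
      rw [dotProduct_add, h1, h2, two]⟩
    calc w2 = w1 + (w1 + w2) := by rw [← add_assoc, vtwo, zero_add]
      _ = w1 := by rw [h, add_zero]
  exact sum_eq_zero_of_invariant _ hw0 fun s => by rw [lin_inv hfw, lin_inv hgw]

theorem cP_one_nrm (i : Fin k) (a : Pts k) {b : Pts k} (hb : b i = 0) (d : ZMod 2) :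
    cP H {i} a b d ∈ Subgroup.normalizer (pauli H : Set (O Q)) := by
  have hb' : Off {i} b := fun j hj => by rw [Finset.mem_singleton.1 hj]; exact hb
  refine mem_nrm H fun a' b' d' => ?_
  set A := a' + b' i • a + (a ⬝ᵥ b') • (Pi.single i 1 : Pts k)
  refine ⟨A + (A ⬝ᵥ b) • Pi.single i 1, b' + b' i • b, d' + b' i * d + b' i * (a ⬝ᵥ b'),
    mn_cP H _ _ a' _ (off_empty _) (off_empty _) d' _ (fun s => ?_) fun s => ?_⟩
  · simp only [chi_empty, one_smul, chi_flp hb', chi_one, Pi.add_apply, add_smul]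
    abel
  · simp only [chi_empty, one_smul, one_mul, chi_flp hb', chi_one, Pi.add_apply, A, dotProduct_add, add_dotProduct,
      smul_dotProduct, dotProduct_smul, smul_eq_mul, single_dotProduct, hb, mul_zero, add_zero]
    generalize a' ⬝ᵥ s = x, a' ⬝ᵥ b = y, a ⬝ᵥ s = z, a ⬝ᵥ b = t, a ⬝ᵥ b' = v, b' i = w, s i = r
    revert x y z t v w r d d'; decide

end Coord

end Cfsg.Agent.H58.CSixPlus
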