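import Cfsg.Agent.H57.CSix.F2Quad

/-!
Quadratic forms of plus type on spaces over the field with two elements, and their involutive isometries.
-/

set_option autoImplicit false

namespace Cfsg.Agent.H58.CSixPlus

open Module
open Cfsg.Agent.H57.CSix (W z2_cases z2_self z2_ne_zero z2_ne_one vadd_self vadd_eq_zero vadd_cancel vadd_cancel'
  smul_cases mem_span_one mem_span_two finrank_span_two diag_form_eq_card)

/-- A non-degenerate quadratic form of plus type on a space of dimension 2k. -/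
structure QForm (k : ℕ) where
  B : LinearMap.BilinForm (ZMod 2) (W k)
  Q : W k → ZMod 2
  Q_add : ∀ u v, Q (u + v) = Q u + Q v + B u v
  nondeg : B.Nondegenerate
  plus : ∃ L : Submodule (ZMod 2) (W k), (∀ x ∈ L, Q x = 0) ∧ finrank (ZMod 2) L = k

namespace QForm

variable {k : ℕ} (q : QForm k)

theorem Q_zero : q.Q 0 = 0 := by
  have := q.Q_add 0 0
  simp only [add_zero, map_zero, z2_self] at this
  exact this

theorem B_self (u : W k) : q.B u u = 0 := by
  have := q.Q_add u u
  rw [vadd_self, q.Q_zero, z2_self, zero_add] at this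
  exact this.symm

theorem B_symm (u v : W k) : q.B u v = q.B v u := by
  have h1 := q.Q_add u v
  have h2 := q.Q_add v u
  rw [add_comm v u, h1, add_comm (q.Q v)] at h2
  exact add_left_cancel h2

theorem B_isRefl : q.B.IsRefl := fun u v h => by
  show q.B v u = 0
  rw [q.B_symm]; exact h

theorem B_eq_Q (u v : W k) : q.B u v = q.Q (u + v) + q.Q u + q.Q v := by
  linear_combination -(q.Q_add u v) - z2_self (q.Q u) - z2_self (q.Q v)

theorem Q_add_of_orth {u v : W k} (h : q.B u v = 0) : q.Q (u + v) = q.Q u + q.Q v := by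
  rw [q.Q_add, h, add_zero]

theorem exists_B_one {x : W k} (hx : x ≠ 0) : ∃ y, q.B x y = 1 := by
  by_contra h
  push Not at h
  exact hx (q.nondeg.1 x fun y => z2_ne_one (h y))

theorem eq_of_B_eq {a b : W k} (h : ∀ w, q.B a w = q.B b w) : a = b :=
  vadd_eq_zero (q.nondeg.1 _ fun w => by rw [map_add, LinearMap.add_apply, h, z2_self])

/-- The orthogonal of a subspace. -/
def orth (U : Submodule (ZMod 2) (W k)) : Submodule (ZMod 2) (W k) := q.B.orthogonal U

theorem mem_orth {U : Submodule (ZMod 2) (W k)} {x : W k} : x ∈ q.orth U ↔ ∀ u ∈ U, q.B u x = 0 :=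
  LinearMap.BilinForm.mem_orthogonal_iff

theorem mem_orth' {U : Submodule (ZMod 2) (W k)} {x : W k} : x ∈ q.orth U ↔ ∀ u ∈ U, q.B x u = 0 := by
  simp only [q.mem_orth, q.B_symm x]

theorem finrank_W : finrank (ZMod 2) (W k) = 2 * k := by simp

theorem finrank_orth (U : Submodule (ZMod 2) (W k)) :
    finrank (ZMod 2) (q.orth U) + finrank (ZMod 2) U = 2 * k := by
  have h := LinearMap.BilinForm.finrank_orthogonal q.nondeg U
  have h2 := Submodule.finrank_le U
  rw [finrank_W] at h h2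
  unfold orth
  omega

theorem orth_orth (U : Submodule (ZMod 2) (W k)) : q.orth (q.orth U) = U :=
  LinearMap.BilinForm.orthogonal_orthogonal q.nondeg q.B_isRefl U

theorem orth_le {U V : Submodule (ZMod 2) (W k)} (h : U ≤ V) : q.orth V ≤ q.orth U := fun x hx =>
  q.mem_orth.2 fun u hu => q.mem_orth.1 hx u (h hu)

theorem mem_orth_span {s : Set (W k)} {x : W k} :
    x ∈ q.orth (Submodule.span (ZMod 2) s) ↔ ∀ u ∈ s, q.B u x = 0 := by
  rw [q.mem_orth]
  refine ⟨fun h u hu => h u (Submodule.subset_span hu), fun h u hu => ?_⟩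
  induction hu using Submodule.span_induction with
  | mem u hu => exact h u hu
  | zero => simp
  | add u v _ _ hu hv => rw [map_add, LinearMap.add_apply, hu, hv, add_zero]
  | smul c u _ hu => rw [map_smul, LinearMap.smul_apply, hu, smul_zero]

theorem mem_orth_one {a x : W k} : x ∈ q.orth (Submodule.span (ZMod 2) {a}) ↔ q.B a x = 0 := by
  rw [q.mem_orth_span]; simp

theorem mem_orth_two {a b x : W k} :
    x ∈ q.orth (Submodule.span (ZMod 2) {a, b}) ↔ q.B a x = 0 ∧ q.B b x = 0 := by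
  rw [q.mem_orth_span]; simp

theorem finrank_orth_one (a : W k) :
    2 * k ≤ finrank (ZMod 2) (q.orth (Submodule.span (ZMod 2) ({a} : Set (W k)))) + 1 := by
  have h := q.finrank_orth (Submodule.span (ZMod 2) ({a} : Set (W k)))
  have h2 := finrank_span_le_card (R := ZMod 2) ({a} : Set (W k))
  simp at h2
  omega

theorem finrank_orth_two (a b : W k) :
    2 * k ≤ finrank (ZMod 2) (q.orth (Submodule.span (ZMod 2) ({a, b} : Set (W k)))) + 2 := by
  classical
  have h := q.finrank_orth (Submodule.span (ZMod 2) ({a, b} : Set (W k)))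
  have h2 : finrank (ZMod 2) (Submodule.span (ZMod 2) ({a, b} : Set (W k))) ≤ 2 := by
    refine (finrank_span_le_card (R := ZMod 2) ({a, b} : Set (W k))).trans ?_
    rw [Set.toFinset_insert, Set.toFinset_singleton]
    exact Finset.card_le_two
  omega

/-- Two independent functionals take any values. -/
theorem exists_B_one_zero {a b : W k} (ha : a ≠ 0) (hab : a ≠ b) : ∃ e, q.B a e = 1 ∧ q.B b e = 0 := by
  by_contra h
  push Not at h
  have h1 : a ∈ q.orth (q.orth (Submodule.span (ZMod 2) {b})) :=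
    q.mem_orth'.2 fun x hx => z2_ne_one fun h' => h x h' (q.mem_orth_one.1 hx)
  rw [q.orth_orth, mem_span_one] at h1
  exact h1.elim ha hab

/-- A subspace of dimension at least three has a non-zero singular vector. -/
theorem exists_singular {U : Submodule (ZMod 2) (W k)} (hU : 3 ≤ finrank (ZMod 2) U) :
    ∃ u ∈ U, u ≠ 0 ∧ q.Q u = 0 := by
  by_contra h
  push Not at h
  have hone : ∀ u ∈ U, u ≠ 0 → q.Q u = 1 := fun u hu h0 => z2_ne_zero (h u hu h0)
  obtain ⟨v, hv⟩ := exists_linearIndependent_of_le_finrank hU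
  have hlin := Fintype.linearIndependent_iff.1 hv
  set a := (v 0).1 with ha'
  set b := (v 1).1 with hb'
  set c := (v 2).1 with hc'
  have hkey : ∀ r s t : ZMod 2, r • a + s • b + t • c = 0 → r = 0 ∧ s = 0 ∧ t = 0 := by
    intro r s t e
    have h0 := hlin ![r, s, t] (Subtype.ext (by simpa [Fin.sum_univ_three] using e))
    exact ⟨h0 0, h0 1, h0 2⟩
  have hab : a + b ≠ 0 := fun e => one_ne_zero (hkey 1 1 0 (by simpa using e)).1
  have hac : a + c ≠ 0 := fun e => one_ne_zero (hkey 1 0 1 (by simpa using e)).1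
  have hbc : b + c ≠ 0 := fun e => one_ne_zero (hkey 0 1 1 (by simpa using e)).2.1
  have habc : a + (b + c) ≠ 0 := fun e => one_ne_zero (hkey 1 1 1 (by simpa [add_assoc] using e)).1
  have ha0 : a ≠ 0 := fun e => one_ne_zero (hkey 1 0 0 (by simp [e])).1
  have hb0 : b ≠ 0 := fun e => one_ne_zero (hkey 0 1 0 (by simp [e])).2.1
  have hc0 : c ≠ 0 := fun e => one_ne_zero (hkey 0 0 1 (by simp [e])).2.2
  have h1 := q.B_eq_Q a b
  have h2 := q.B_eq_Q a c
  have h3 := q.B_eq_Q a (b + c)
  rw [hone _ (U.add_mem (v 0).2 (v 1).2) hab, hone _ (v 0).2 ha0, hone _ (v 1).2 hb0] at h1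
  rw [hone _ (U.add_mem (v 0).2 (v 2).2) hac, hone _ (v 0).2 ha0, hone _ (v 2).2 hc0] at h2
  rw [hone _ (U.add_mem (v 0).2 (U.add_mem (v 1).2 (v 2).2)) habc, hone _ (v 0).2 ha0,
    hone _ (U.add_mem (v 1).2 (v 2).2) hbc, map_add, h1, h2] at h3
  revert h3; decide

/-- A subspace on which the bilinear form vanishes. -/
def Isotropic (U : Submodule (ZMod 2) (W k)) : Prop := ∀ u ∈ U, ∀ v ∈ U, q.B u v = 0

/-- A totally singular subspace. -/
def Singular (U : Submodule (ZMod 2) (W k)) : Prop := ∀ u ∈ U, q.Q u = 0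

theorem Singular.isotropic {q : QForm k} {U : Submodule (ZMod 2) (W k)} (h : q.Singular U) : q.Isotropic U :=
  fun u hu v hv => by rw [q.B_eq_Q, h _ (U.add_mem hu hv), h u hu, h v hv]; rfl

theorem isotropic_iff {U : Submodule (ZMod 2) (W k)} : q.Isotropic U ↔ U ≤ q.orth U :=
  ⟨fun h u hu => q.mem_orth.2 fun v hv => h v hv u hu, fun h u hu v hv => q.mem_orth.1 (h hv) u hu⟩

theorem Isotropic.finrank_le {q : QForm k} {U : Submodule (ZMod 2) (W k)} (h : q.Isotropic U) :
    finrank (ZMod 2) U ≤ k := by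
  have h1 := Submodule.finrank_mono (q.isotropic_iff.1 h)
  have h2 := q.finrank_orth U
  omega

theorem Isotropic.mono {q : QForm k} {U V : Submodule (ZMod 2) (W k)} (h : q.Isotropic U) (hVU : V ≤ U) :
    q.Isotropic V := fun u hu v hv => h u (hVU hu) v (hVU hv)

theorem Isotropic.sup {q : QForm k} {U V : Submodule (ZMod 2) (W k)} (hU : q.Isotropic U) (hV : q.Isotropic V)
    (hUV : ∀ u ∈ U, ∀ v ∈ V, q.B u v = 0) : q.Isotropic (U ⊔ V) := by
  intro x hx y hy
  obtain ⟨a, ha, b, hb, rfl⟩ := Submodule.mem_sup.1 hx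
  obtain ⟨c, hc, d, hd, rfl⟩ := Submodule.mem_sup.1 hy
  simp only [map_add, LinearMap.add_apply, hU a ha c hc, hUV a ha d hd, q.B_symm b c, hUV c hc b hb,
    hV b hb d hd, add_zero]

theorem Singular.sup {q : QForm k} {U V : Submodule (ZMod 2) (W k)} (hU : q.Singular U) (hV : q.Singular V)
    (hUV : ∀ u ∈ U, ∀ v ∈ V, q.B u v = 0) : q.Singular (U ⊔ V) := by
  intro x hx
  obtain ⟨a, ha, b, hb, rfl⟩ := Submodule.mem_sup.1 hx
  rw [q.Q_add_of_orth (hUV a ha b hb), hU a ha, hV b hb, add_zero]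

/-- An isotropic subspace of dimension at least two has a non-zero singular vector. -/
theorem Isotropic.exists_singular {q : QForm k} {U : Submodule (ZMod 2) (W k)} (h : q.Isotropic U)
    (hU : 2 ≤ finrank (ZMod 2) U) : ∃ u ∈ U, u ≠ 0 ∧ q.Q u = 0 := by
  obtain ⟨a, ha, ha0⟩ := U.ne_bot_iff.1 (fun e => by rw [e, finrank_bot] at hU; omega)
  have hne : ¬ U ≤ Submodule.span (ZMod 2) {a} := fun hle => by
    have := Submodule.finrank_mono hle
    rw [finrank_span_singleton (K := ZMod 2) ha0] at this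
    omega
  obtain ⟨b, hb, hba⟩ := SetLike.not_le_iff_exists.1 hne
  rw [mem_span_one, not_or] at hba
  rcases z2_cases (q.Q a) with h1 | h1
  · exact ⟨a, ha, ha0, h1⟩
  rcases z2_cases (q.Q b) with h2 | h2
  · exact ⟨b, hb, hba.1, h2⟩
  refine ⟨a + b, U.add_mem ha hb, fun e => hba.2 (vadd_eq_zero e).symm, ?_⟩
  rw [q.Q_add_of_orth (h a ha b hb), h1, h2]
  rfl

theorem Singular.finrank_le {q : QForm k} {U : Submodule (ZMod 2) (W k)} (h : q.Singular U) :
    finrank (ZMod 2) U ≤ k := h.isotropic.finrank_le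

theorem exists_nonsingular {U : Submodule (ZMod 2) (W k)} (hU : k < finrank (ZMod 2) U) :
    ∃ u ∈ U, q.Q u = 1 := by
  by_contra h
  push Not at h
  have := Singular.finrank_le (q := q) (U := U) fun x hx => z2_ne_one (h x hx)
  omega

/-- A totally singular subspace lies in one of dimension k. -/
theorem Singular.extend {q : QForm k} {U : Submodule (ZMod 2) (W k)} (hU : q.Singular U) :
    ∃ L, U ≤ L ∧ q.Singular L ∧ finrank (ZMod 2) L = k := by
  obtain ⟨S, hS, hSk⟩ := q.plus
  set T := q.orth U ⊓ S with hT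
  have hTs : q.Singular T := fun x hx => hS x hx.2
  have hsup : q.Singular (U ⊔ T) := hU.sup hTs fun u hu v hv => q.mem_orth.1 hv.1 u hu
  refine ⟨U ⊔ T, le_sup_left, hsup, le_antisymm hsup.finrank_le ?_⟩
  have h1 := Submodule.finrank_sup_add_finrank_inf_eq U T
  have h2 := Submodule.finrank_sup_add_finrank_inf_eq (q.orth U) S
  have h3 := q.finrank_orth U
  have h4 : q.orth U ⊔ S ≤ q.orth (U ⊓ S) := sup_le (q.orth_le inf_le_left) fun x hx =>
    q.mem_orth.2 fun u hu => Singular.isotropic hS u hu.2 x hx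
  have h5 := Submodule.finrank_mono h4
  have h6 := q.finrank_orth (U ⊓ S)
  have h7 : finrank (ZMod 2) ↥(U ⊓ T) ≤ finrank (ZMod 2) ↥(U ⊓ S) :=
    Submodule.finrank_mono (inf_le_inf_left U inf_le_right)
  rw [← hT] at h2
  omega

/-- The orthogonal of an isotropic subspace of dimension less than k has a singular vector outside it. -/
theorem Isotropic.exists_singular_outside {q : QForm k} {I : Submodule (ZMod 2) (W k)} (hI : q.Isotropic I)
    (hlt : finrank (ZMod 2) I < k) : ∃ z ∈ q.orth I, q.Q z = 0 ∧ z ∉ I := by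
  by_cases hs : q.Singular I
  · obtain ⟨L, hIL, hL, hLk⟩ := hs.extend
    obtain ⟨z, hz, hzI⟩ := SetLike.not_le_iff_exists.1 (show ¬ L ≤ I from fun h => by
      have := Submodule.finrank_mono h; omega)
    exact ⟨z, q.mem_orth.2 fun u hu => hL.isotropic u (hIL hu) z hz, hL z hz, hzI⟩
  · obtain ⟨i, hi, hiQ⟩ : ∃ i ∈ I, q.Q i ≠ 0 := by simpa [Singular] using hs
    obtain ⟨v, hv, hvI⟩ := SetLike.not_le_iff_exists.1 (show ¬ q.orth I ≤ I from fun h => by
      have := Submodule.finrank_mono h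
      have := q.finrank_orth I
      omega)
    rcases z2_cases (q.Q v) with e | e
    · exact ⟨v, hv, e, hvI⟩
    · refine ⟨v + i, Submodule.add_mem _ hv (q.isotropic_iff.1 hI hi), ?_, fun h => hvI ?_⟩
      · rw [q.Q_add_of_orth (q.mem_orth'.1 hv i hi), e, z2_ne_zero hiQ]; rfl
      · simpa [vadd_cancel'] using I.add_mem h hi

/-- An isometry. -/
def Iso (g : W k →ₗ[ZMod 2] W k) : Prop := ∀ x, q.Q (g x) = q.Q x

theorem Iso.B_map {q : QForm k} {g : W k →ₗ[ZMod 2] W k} (h : q.Iso g) (x y : W k) :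
    q.B (g x) (g y) = q.B x y := by
  rw [q.B_eq_Q, q.B_eq_Q x y, ← map_add, h, h, h]

theorem Iso.injective {q : QForm k} {g : W k →ₗ[ZMod 2] W k} (h : q.Iso g) : Function.Injective g := by
  intro a b e
  exact q.eq_of_B_eq fun w => by rw [← h.B_map a w, e, h.B_map]

/-- The difference of a map and the identity. -/
def dif (g : W k →ₗ[ZMod 2] W k) : W k →ₗ[ZMod 2] W k := g + LinearMap.id

theorem dif_apply (g : W k →ₗ[ZMod 2] W k) (x : W k) : dif g x = g x + x := rfl

theorem apply_eq_dif (g : W k →ₗ[ZMod 2] W k) (x : W k) : g x = dif g x + x := by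
  rw [dif_apply, vadd_cancel']

theorem mem_ker_dif {g : W k →ₗ[ZMod 2] W k} {x : W k} : x ∈ LinearMap.ker (dif g) ↔ g x = x := by
  rw [LinearMap.mem_ker, dif_apply]
  exact ⟨vadd_eq_zero, fun e => by rw [e, vadd_self]⟩

theorem Iso.Q_dif {q : QForm k} {g : W k →ₗ[ZMod 2] W k} (h : q.Iso g) (x : W k) :
    q.Q (dif g x) = q.B x (dif g x) := by
  rw [dif_apply, q.Q_add, h, z2_self, zero_add, map_add, q.B_self, add_zero, q.B_symm]

/-- An involutive isometry. -/
structure Invol (g : W k →ₗ[ZMod 2] W k) : Prop where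
  iso : q.Iso g
  sq : ∀ x, g (g x) = x

variable {q} {g : W k →ₗ[ZMod 2] W k}

theorem Invol.B_dif (h : q.Invol g) (x y : W k) : q.B (dif g x) y = q.B x (dif g y) := by
  rw [dif_apply, dif_apply, map_add, map_add, LinearMap.add_apply]
  congr 1
  conv_rhs => rw [← h.iso.B_map, h.sq]

theorem Invol.range_le_ker (h : q.Invol g) : LinearMap.range (dif g) ≤ LinearMap.ker (dif g) := by
  rintro _ ⟨x, rfl⟩
  rw [mem_ker_dif, dif_apply, map_add, h.sq, add_comm]

theorem Invol.ker_eq (h : q.Invol g) : LinearMap.ker (dif g) = q.orth (LinearMap.range (dif g)) := by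
  ext y
  rw [LinearMap.mem_ker, q.mem_orth]
  constructor
  · rintro hy _ ⟨x, rfl⟩
    rw [h.B_dif, hy, map_zero]
  · intro hy
    refine q.eq_of_B_eq fun w => ?_
    rw [h.B_dif, q.B_symm, hy _ ⟨w, rfl⟩]
    simp

theorem Invol.isotropic (h : q.Invol g) : q.Isotropic (LinearMap.range (dif g)) :=
  q.isotropic_iff.2 (h.range_le_ker.trans h.ker_eq.le)

theorem Invol.finrank_ker (h : q.Invol g) :
    finrank (ZMod 2) (LinearMap.ker (dif g)) + finrank (ZMod 2) (LinearMap.range (dif g)) = 2 * k := by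
  rw [h.ker_eq]; exact q.finrank_orth _

/-- An invariant subspace of dimension at least four has a fixed non-zero singular vector. -/
theorem Invol.exists_fixed_singular (h : q.Invol g) {U : Submodule (ZMod 2) (W k)}
    (hU : ∀ x ∈ U, g x ∈ U) (h4 : 4 ≤ finrank (ZMod 2) U) :
    ∃ y ∈ U, y ≠ 0 ∧ q.Q y = 0 ∧ g y = y := by
  let φ : U →ₗ[ZMod 2] W k := (dif g).domRestrict U
  have hrk := LinearMap.finrank_range_add_finrank_ker φ
  have hE : finrank (ZMod 2) (LinearMap.ker φ) = finrank (ZMod 2) ↥(U ⊓ LinearMap.ker (dif g)) := by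
    have : (LinearMap.ker φ).map U.subtype = U ⊓ LinearMap.ker (dif g) := by
      rw [show LinearMap.ker φ = (LinearMap.ker (dif g)).comap U.subtype from LinearMap.ker_comp _ _,
        Submodule.map_comap_subtype]
    rw [← this, Submodule.finrank_map_subtype_eq]
  by_cases h2 : 2 ≤ finrank (ZMod 2) (LinearMap.range φ)
  · obtain ⟨y, hy, hy0, hyQ⟩ := (h.isotropic.mono (show LinearMap.range φ ≤ LinearMap.range (dif g) by
      rintro _ ⟨x, rfl⟩; exact ⟨x.1, rfl⟩)).exists_singular h2
    obtain ⟨x, rfl⟩ := hy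
    refine ⟨φ x, ?_, hy0, hyQ, mem_ker_dif.1 (h.range_le_ker ⟨x.1, rfl⟩)⟩
    exact U.add_mem (hU _ x.2) x.2
  · obtain ⟨y, hy, hy0, hyQ⟩ := q.exists_singular (U := U ⊓ LinearMap.ker (dif g)) (by omega)
    exact ⟨y, hy.1, hy0, hyQ, mem_ker_dif.1 hy.2⟩

end QForm

end Cfsg.Agent.H58.CSixPlus
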