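import Cfsg.Agent.H58.CSixPlus.Lift

/-!
Overgroups of the monomial Clifford elements, their blocks, and the normal forms of controlled Pauli operators.
-/

set_option autoImplicit false
set_option linter.unusedSectionVars false

namespace Cfsg.Agent.H58.CSixPlus

open QuadraticMap Module Cfsg.Agent.Orthogonal
open Cfsg.Agent.H97.Frame (ONB)
open Cfsg.Agent.H12.CSix (bsign bsign_zero bsign_one bsign_add bsign_sq bsign_ne bit_cases)
open Matrix

variable {F V : Type*} [Field F] [Fintype F] [AddCommGroup V] [Module F V] {k : ℕ}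
variable {Q : QuadraticForm F V} {e : Pts k → V} {c : F}

namespace Coord

open Bit

variable (H : ONB Q e c)
include H

theorem cP_comm_off {J : Finset (Fin k)} (u a : Pts k) {v b : Pts k} (hv : Off J v) (hb : Off J b) (d' d : ZMod 2) :
    cP H ∅ u v d' * cP H J a b d = cP H J 0 0 (bb u v a b) * cP H J a b d * cP H ∅ u v d' := H.ext_e fun s => by
  simp only [Subgroup.coe_mul, mul_app, cP_app H a hb, cP_app H u (off_empty v), cP_app H 0 (off_zero J), map_smul,
    smul_smul, ← bsign_add, chi_empty, one_smul, one_mul, chi_smul_add hb, chi_add hv, smul_zero, add_zero,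
    zero_dotProduct, zero_add, dotProduct_add, dotProduct_smul, smul_eq_mul, bb]
  rw [add_right_comm s (chi J s • b) v]
  congr 2
  generalize chi J s = x, a ⬝ᵥ s = y, u ⬝ᵥ s = z, u ⬝ᵥ b = t, a ⬝ᵥ v = r
  revert x y z t r d d'; decide

/-- 1 + U acts on controlled Pauli operators by the reflection. -/
theorem moves_block {J : Finset (Fin k)} {u v : Pts k} (hu : u ⬝ᵥ v = 1) (hv : Off J v) (a : Pts k) {b : Pts k}
    (hb : Off J b) (d : ZMod 2) :
    ∃ d', Moves (cP H ∅ u v 0) (cP H J a b d)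
      (cP H J (a + bb u v a b • u) (b + bb u v a b • v) d') := by
  obtain ⟨d', hd'⟩ := moves_refl H hu a b d
  refine ⟨d', fun w => ?_⟩
  have hw : w ∈ Submodule.span F (Set.range e) := H.top ▸ Submodule.mem_top
  induction hw using Submodule.span_induction with
  | zero => simp
  | add x y _ _ hx hy =>
    rw [map_add, map_add, add_add_add_comm, hx, hy, ← map_add]
    simp only [map_add]; abel
  | smul z x _ hx => rw [map_smul, map_smul, ← smul_add, hx, ← map_smul, smul_add, map_smul]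
  | mem x hx =>
    obtain ⟨s, rfl⟩ := hx
    have hb' : Off J (b + bb u v a b • v) := hb.add fun i hi => by rw [Pi.smul_apply, hv i hi, smul_zero]
    have key := hd' (e s)
    simp only [map_add, cP_app H a hb, cP_app H u (off_empty v), cP_app H a (off_empty b),
      cP_app H _ (off_empty (b + bb u v a b • v)), cP_app H _ hb', map_smul, chi_empty, one_smul, one_mul,
      chi_add hv] at key ⊢
    rcases bit_cases (chi J s) with h | h <;> rw [h]
    · simp [bsign_zero]
    · simpa only [one_smul, one_mul] using key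

theorem lift_block {J : Finset (Fin k)} {u v u' v' : Pts k} (hu : u ⬝ᵥ v = 1) (hu' : u' ⬝ᵥ v' = 1) (hv : Off J v)
    (hv' : Off J v') (a : Pts k) {b : Pts k} (hb : Off J b) (d : ZMod 2) :
    ∃ d', lift (cP H ∅ u v 0) (cP H ∅ u' v' 0) * cP H J a b d =
      cP H J (a + bb u' v' a b • u' + bb u v (a + bb u' v' a b • u') (b + bb u' v' a b • v') • u)
        (b + bb u' v' a b • v' + bb u v (a + bb u' v' a b • u') (b + bb u' v' a b • v') • v) d' *
      lift (cP H ∅ u v 0) (cP H ∅ u' v' 0) := by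
  obtain ⟨d1, h1⟩ := moves_block H hu' hv' a hb d
  obtain ⟨d2, h2⟩ := moves_block H hu hv (a + bb u' v' a b • u')
    (hb.add fun i hi => by rw [Pi.smul_apply, hv' i hi, smul_zero] : Off J (b + bb u' v' a b • v')) d1
  exact ⟨d2, lift_moves H.two (skew_cP H 0 hu) (skew_cP H 0 hu') h1 h2⟩

/-- A subgroup of Ω containing the elements of Ω normalising the Pauli group. -/
structure Hyp (X : Subgroup (O Q)) : Prop where
  four : 4 ≤ k
  le : X ≤ commutator (O Q)
  mem : ∀ g ∈ commutator (O Q), g ∈ Subgroup.normalizer (pauli H : Set (O Q)) → g ∈ X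

/-- The sign change on the strings with ones on J. -/
noncomputable def Dsg (J : Finset (Fin k)) : O Q := cP H J 0 0 1

/-- The isometries supported on the negated space of the sign change. -/
def blkG (J : Finset (Fin k)) : Subgroup (O Q) where
  carrier := {x | ∀ v, (Dsg H J : V ≃ₗ[F] V) v = v → (x : V ≃ₗ[F] V) v = v}
  one_mem' := fun v _ => rfl
  mul_mem' := fun {x y} hx hy v hv => by rw [Subgroup.coe_mul, mul_app, hy v hv, hx v hv]
  inv_mem' := fun {x} hx v hv => by
    conv_lhs => rw [← hx v hv]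
    rw [← mul_app, ← Subgroup.coe_mul, inv_mul_cancel]; rfl

theorem Dsg_app (J : Finset (Fin k)) (s : Pts k) :
    ((Dsg H J : O Q) : V ≃ₗ[F] V) (e s) = (bsign (chi J s) : F) • e s := by
  rw [Dsg, cP_app H 0 (off_zero J)]; simp

theorem blkG_fix {J : Finset (Fin k)} {x : O Q} (hx : x ∈ blkG H J) {s : Pts k} (hs : chi J s = 0) :
    (x : V ≃ₗ[F] V) (e s) = e s := hx _ (by rw [Dsg_app, hs, bsign_zero, one_smul])

theorem blkG_of_fix {J : Finset (Fin k)} {x : O Q}
    (hx : ∀ s, chi J s = 0 → (x : V ≃ₗ[F] V) (e s) = e s) : x ∈ blkG H J := by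
  intro v hv
  rw [H.eq_sum v, map_sum]
  refine Finset.sum_congr rfl fun s _ => ?_
  rw [map_smul]
  rcases bit_cases (chi J s) with h | h
  · rw [hx s h]
  · have e1 := H.dot_app (Dsg H J) (e s) v
    rw [hv, Dsg_app, h, bsign_one, neg_one_smul, H.dot_neg_left] at e1
    have : H.co s v = 0 := (mul_eq_zero.1 (show (2 : F) * H.co s v = 0 by
      unfold ONB.co; linear_combination -e1)).resolve_left H.two
    rw [this, zero_smul, zero_smul]

theorem cP_blk {J : Finset (Fin k)} (a : Pts k) {b : Pts k} (hb : Off J b) (d : ZMod 2) :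
    cP H J a b d ∈ blkG H J :=
  blkG_of_fix H fun s hs => by rw [cP_app H a hb, hs]; simp [bsign_zero]

theorem blkG_mono {I J : Finset (Fin k)} (h : I ⊆ J) : blkG H J ≤ blkG H I := fun x hx =>
  blkG_of_fix H fun s hs => blkG_fix H hx ((bit_cases _).resolve_right fun e1 => by
    rw [chi_eq_one] at e1
    exact zero_ne_one (hs.symm.trans (chi_eq_one.2 fun i hi => e1 i (h hi))))

theorem blkG_conj {J : Finset (Fin k)} {g x : O Q} (hg : g * Dsg H J = Dsg H J * g) (hx : x ∈ blkG H J) :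
    g * x * g⁻¹ ∈ blkG H J := by
  intro v hv
  have hg' : g⁻¹ * Dsg H J = Dsg H J * g⁻¹ := ((show Commute g (Dsg H J) from hg).inv_left).eq
  have h1 : (Dsg H J : V ≃ₗ[F] V) (((g⁻¹ : O Q) : V ≃ₗ[F] V) v) = ((g⁻¹ : O Q) : V ≃ₗ[F] V) v := by
    rw [← mul_app, ← Subgroup.coe_mul, ← hg', Subgroup.coe_mul, mul_app, hv]
  rw [Subgroup.coe_mul, mul_app, Subgroup.coe_mul, mul_app, hx _ h1, ← mul_app, ← Subgroup.coe_mul, mul_inv_cancel]
  rfl

/-- The elements of X moving one controlled Pauli operator to another. -/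
def Sim (X : Subgroup (O Q)) (J : Finset (Fin k)) (a b a' b' : Pts k) : Prop :=
  ∃ g ∈ X, g ∈ Subgroup.normalizer (pauli H : Set (O Q)) ∧ g * Dsg H J = Dsg H J * g ∧
    ∀ d, ∃ d', g * cP H J a b d = cP H J a' b' d' * g

variable {X : Subgroup (O Q)} {J : Finset (Fin k)}

theorem Sim.refl (a b : Pts k) : Sim H X J a b a b :=
  ⟨1, one_mem _, one_mem _, by rw [one_mul, mul_one], fun d => ⟨d, by rw [one_mul, mul_one]⟩⟩

theorem Sim.trans {a b a' b' a'' b'' : Pts k} (h : Sim H X J a b a' b') (h' : Sim H X J a' b' a'' b'') :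
    Sim H X J a b a'' b'' := by
  obtain ⟨g, hg, hgN, hgD, hga⟩ := h
  obtain ⟨g', hg', hg'N, hg'D, hg'a⟩ := h'
  refine ⟨g' * g, mul_mem hg' hg, mul_mem hg'N hgN, by rw [mul_assoc, hgD, ← mul_assoc, hg'D, mul_assoc],
    fun d => ?_⟩
  obtain ⟨d1, e1⟩ := hga d
  obtain ⟨d2, e2⟩ := hg'a d1
  exact ⟨d2, by rw [mul_assoc, e1, ← mul_assoc, e2, mul_assoc]⟩

variable (hX : Hyp H X)
include hX

theorem lin_X {u c' : Pts k} (hcu : c' ⬝ᵥ u = 0) : lin H u c' ∈ X :=
  hX.mem _ (lin_mem H (by have := hX.four; omega) hcu) (lin_nrm H hcu)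

theorem shr_X (f g : Pts k) : shr H f g ∈ X :=
  hX.mem _ (shr_mem H (by have := hX.four; omega) f g) (shr_nrm H f g)

theorem cP_X {a b : Pts k} (d : ZMod 2) : cP H ∅ a b d ∈ X :=
  hX.mem _ (cP_mem H (by have := hX.four; simp; omega) a (off_empty b) d)
    (Subgroup.le_normalizer (cP_mem_pauli H a b d))

theorem cP_one_X (i : Fin k) {a b : Pts k} (hb : b i = 0) (d : ZMod 2) : cP H {i} a b d ∈ X :=
  hX.mem _ (cP_mem H (by have := hX.four; simp; omega) a
    (fun j hj => by rw [Finset.mem_singleton.1 hj]; exact hb) d) (cP_one_nrm H i a hb d)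

theorem sim_lin {u c' : Pts k} (hcu : c' ⬝ᵥ u = 0) (hu : Off J u) (a : Pts k) {b : Pts k} (hb : Off J b) :
    Sim H X J a b (a + (a ⬝ᵥ u) • c') (b + (c' ⬝ᵥ b) • u) := by
  refine ⟨_, lin_X H hX hcu, lin_nrm H hcu, ?_, fun d => ⟨d, lin_cP H u c' hcu hu a hb d⟩⟩
  have := lin_cP H u c' hcu hu 0 (off_zero J) 1
  simpa [Dsg] using this

theorem sim_shr (f g : Pts k) (a : Pts k) {b : Pts k} (hb : Off J b) :
    Sim H X J a b (a + (g ⬝ᵥ b) • f + (f ⬝ᵥ b) • g) b := by
  refine ⟨_, shr_X H hX f g, shr_nrm H f g, ?_, fun d => ⟨_, shr_cP_off H a hb d⟩⟩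
  have := shr_cP_off H (f := f) (g := g) 0 (off_zero J) 1
  simpa [Dsg] using this

theorem sim_turn {i j : Fin k} (hij : i ≠ j) (hi : i ∉ J) (hj : j ∉ J) :
    Sim H X J 0 (Pi.single i 1) (Pi.single i 1) 0 := by
  have hk := hX.four
  obtain ⟨l, hl⟩ : ∃ l, l ∉ ({i, j} : Finset (Fin k)) := by
    by_contra hno
    push Not at hno
    have := Finset.card_le_card (show (Finset.univ : Finset (Fin k)) ⊆ {i, j} from fun x _ => hno x)
    rw [Finset.card_univ, Fintype.card_fin, Finset.card_pair hij] at this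
    omega
  simp only [Finset.mem_insert, Finset.mem_singleton, not_or] at hl
  set ei : Pts k := Pi.single i 1
  set ej : Pts k := Pi.single j 1
  set el : Pts k := Pi.single l 1
  have hi1 : ei ⬝ᵥ ei = 1 := by simp [ei]
  have hj1 : ej ⬝ᵥ ej = 1 := by simp [ej]
  have hx : (ei + ej + el) ⬝ᵥ el = 1 := by simp [ei, ej, el, add_dotProduct, hl.1, hl.2]
  have h1 : bb ei ei (ei + ej + el) el = 1 := by
    simp [bb, ei, ej, el, add_dotProduct, hl.1, hl.2, hij, Ne.symm hl.1, hij.symm]
  have h2 : bb (ei + ej + el) el ej ej = 1 := by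
    simp [bb, ei, ej, el, add_dotProduct, hl.1, hl.2, hij, Ne.symm hl.2, hij.symm]
  refine ⟨_, hX.mem _ (lift_mem H (by omega) hi1 hj1 hx h1 h2) (lift_nrm H hi1 hj1), lift_nrm H hi1 hj1, ?_, fun d => ?_⟩
  · obtain ⟨d', hd'⟩ := lift_block H hi1 hj1 (off_single hi) (off_single hj) 0 (off_zero J) 1
    have hz : bb ej ej 0 0 = 0 := by simp [bb]
    have hz' : bb ei ei 0 0 = 0 := by simp [bb]
    simp only [hz, zero_smul, add_zero, hz'] at hd'
    rcases bit_cases d' with rfl | rfl
    · rw [cP_zero, one_mul] at hd'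
      have h1 : cP H J 0 0 1 = 1 := mul_eq_left.1 hd'
      refine absurd (congrArg (fun g : O Q => (g : V ≃ₗ[F] V) (e (fun _ => 1))) h1) ?_
      rw [cP_app H 0 (off_zero J)]
      intro h'
      have := congrArg (H.co (fun _ => 1)) h'
      simp only [smul_zero, add_zero, H.co_smul, OneMemClass.coe_one, LinearEquiv.coe_one, id_eq, H.co_self,
        chi_eq_one.2 (fun _ _ => rfl), zero_dotProduct, zero_add, mul_one, bsign_one] at this
      exact H.two (by linear_combination -this)
    · exact hd'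
  · obtain ⟨d', hd'⟩ := lift_block H hi1 hj1 (off_single hi) (off_single hj) 0 (b := ei) (off_single hi) d
    have hz : bb ej ej 0 ei = 0 := by simp [bb, ei, ej, hij.symm]
    have hz' : bb ei ei 0 ei = 1 := by simp [bb, ei]
    simp only [hz, zero_smul, add_zero, hz', one_smul, zero_add, Bit.vtwo] at hd'
    exact ⟨d', hd'⟩

/-- Normal forms: a singular label becomes a pure sign, a non-singular one a pair in one coordinate. -/
theorem sim_normal (hJ : J.card + 2 ≤ k) {l : Fin k} (hl : l ∉ J) {a b : Pts k} (ha : Off J a) (hb : Off J b)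
    (h0 : a ≠ 0 ∨ b ≠ 0) :
    (a ⬝ᵥ b = 0 → Sim H X J a b (Pi.single l 1) 0) ∧ (a ⬝ᵥ b = 1 → Sim H X J a b (Pi.single l 1) (Pi.single l 1)) := by
  -- a transvection taking one nonzero vector to another
  have hc : ∀ v w : Pts k, Off J v → Off J w → v ≠ 0 → w ≠ 0 →
      ∃ c', Off J c' ∧ c' ⬝ᵥ v = 1 ∧ c' ⬝ᵥ w = 1 := by
    intro v w hv hw hv0 hw0
    obtain ⟨i, hi⟩ := Function.ne_iff.1 hv0
    obtain ⟨j, hj⟩ := Function.ne_iff.1 hw0
    have hiJ : i ∉ J := fun h => hi (hv i h)
    have hjJ : j ∉ J := fun h => hj (hw j h)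
    have hi1 : v i = 1 := (bit_cases _).resolve_left hi
    have hj1 : w j = 1 := (bit_cases _).resolve_left hj
    by_cases h1 : w i = 1
    · exact ⟨_, off_single hiJ, by rw [single_dotProduct, one_mul, hi1], by rw [single_dotProduct, one_mul, h1]⟩
    by_cases h2 : v j = 1
    · exact ⟨_, off_single hjJ, by rw [single_dotProduct, one_mul, h2], by rw [single_dotProduct, one_mul, hj1]⟩
    refine ⟨_, (off_single hiJ).add (off_single hjJ), ?_, ?_⟩ <;>
      rw [add_dotProduct, single_dotProduct, single_dotProduct, one_mul, one_mul]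
    · rw [hi1, (bit_cases _).resolve_right h2, add_zero]
    · rw [(bit_cases _).resolve_right h1, hj1, zero_add]
  have stepb : ∀ {a b : Pts k}, Off J a → Off J b → b ≠ 0 → ∀ {m : Fin k}, m ∉ J →
      ∃ a', Off J a' ∧ a' ⬝ᵥ Pi.single m 1 = a ⬝ᵥ b ∧ Sim H X J a b a' (Pi.single m 1) := by
    intro a b ha hb hb0 m hm
    obtain ⟨c', hc', hcb, hcm⟩ := hc b (Pi.single m 1) hb (off_single hm) hb0 (single_ne m)
    set u := b + Pi.single m 1 with hu
    have hcu : c' ⬝ᵥ u = 0 := by rw [hu, dotProduct_add, hcb, hcm, Bit.two]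
    refine ⟨a + (a ⬝ᵥ u) • c', ha.add fun i hi => by rw [Pi.smul_apply, hc' i hi, smul_zero], ?_, ?_⟩
    · rw [add_dotProduct, smul_dotProduct, hcm, smul_eq_mul, mul_one, hu, dotProduct_add, ← add_assoc,
        add_comm (a ⬝ᵥ Pi.single m 1), add_assoc, Bit.two, add_zero]
    · have := sim_lin H hX hcu (hb.add (off_single hm) : Off J u) a hb
      rwa [hcb, one_smul, hu, ← add_assoc, Bit.vtwo, zero_add] at this
  have stepa : ∀ {a : Pts k}, Off J a → a ≠ 0 → Sim H X J a 0 (Pi.single l 1) 0 := by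
    intro a ha ha0
    obtain ⟨u, hu, hua, hul⟩ := hc a (Pi.single l 1) ha (off_single hl) ha0 (single_ne l)
    have hcu : (a + Pi.single l 1) ⬝ᵥ u = 0 := by
      rw [add_dotProduct, dotProduct_comm a, dotProduct_comm _ u, hua, hul, Bit.two]
    have := sim_lin H hX hcu hu a (off_zero J)
    rwa [dotProduct_comm a, hua, one_smul, ← add_assoc, Bit.vtwo, zero_add, dotProduct_zero, zero_smul,
      add_zero] at this
  obtain ⟨m, hm, hml⟩ : ∃ m, m ∉ J ∧ m ≠ l := by
    obtain ⟨m, hm, hml⟩ := Finset.exists_mem_ne (show 1 < Jᶜ.card by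
      rw [Finset.card_compl, Fintype.card_fin]; omega) l
    exact ⟨m, Finset.mem_compl.1 hm, hml⟩
  refine ⟨fun hs => ?_, fun hs => ?_⟩
  · by_cases hb0 : b = 0
    · subst hb0
      exact stepa ha (h0.resolve_right (by simp))
    obtain ⟨a', ha', ha'b, h1⟩ := stepb ha hb hb0 hm
    have h2 := sim_shr H hX (Pi.single m 1) a' a' (off_single hm : Off J (Pi.single m 1 : Pts k))
    rw [ha'b, hs, zero_smul, add_zero, single_dotProduct, one_mul, Pi.single_eq_same, one_smul, Bit.vtwo] at h2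
    exact (h1.trans H h2).trans H ((sim_turn H hX hml hm hl).trans H (stepa (off_single hm) (single_ne m)))
  · have hb0 : b ≠ 0 := fun h => by rw [h, dotProduct_zero] at hs; exact zero_ne_one hs
    obtain ⟨a', ha', ha'b, h1⟩ := stepb ha hb hb0 hl
    have h2 := sim_shr H hX (Pi.single l 1) (a' + Pi.single l 1) a' (off_single hl : Off J (Pi.single l 1 : Pts k))
    rw [add_dotProduct, ha'b, hs, single_dotProduct, one_mul, Pi.single_eq_same, Bit.two, zero_smul, add_zero,
      one_smul, ← add_assoc, Bit.vtwo, zero_add] at h2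
    exact h1.trans H h2

end Coord

end Cfsg.Agent.H58.CSixPlus
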