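import Cfsg.Agent.H58.CSixPlus.Descent
import Cfsg.Agent.H97.Frame.Mono

/-!
The end of the descent: a nonscalar element on two points gives the sign change on two points.
-/

set_option autoImplicit false
set_option linter.unusedSectionVars false

namespace Cfsg.Agent.H58.CSixPlus

open QuadraticMap Module Cfsg.Agent.Orthogonal
open Cfsg.Agent.H97.Frame (ONB)
open Cfsg.Agent.H12.CSix (bsign bsign_zero bsign_one bsign_add bsign_sq bsign_ne bit_cases)
open Matrix

variable {F V : Type*} [Field F] [Fintype F] [AddCommGroup V] [Module F V] {k : ℕ}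
variable {Q : QuadraticForm F V} {e : Pts k → V} {c : F}

namespace Coord

open Bit

variable (H : ONB Q e c)
include H

theorem co_pair {q r : Pts k} {v : V} (hv : v ∈ H.sub {q, r}) (hqr : q ≠ r) (w : V) :
    H.dot v w = H.co q v * H.co q w + H.co r v * H.co r w := by
  rw [H.dot_mem_sub hv, Finset.sum_pair hqr]

/-- An isometry of a coordinate plane without the eigenvalue -1 fixing a nonzero vector of it is trivial. -/
theorem rot_fix {x : O Q} {q r : Pts k} (hqr : q ≠ r) (hx : H.Supp x {q, r})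
    (hno : ∀ v, (x : V ≃ₗ[F] V) v = -v → v = 0) {w : V} (hw : w ∈ H.sub {q, r}) (hw0 : w ≠ 0)
    (hfix : (x : V ≃ₗ[F] V) w = w) : x = 1 := by
  have hq : e q ∈ H.sub {q, r} := H.e_mem_sub (by simp)
  set d := (x : V ≃ₗ[F] V) (e q) - e q with hd
  have hdm : d ∈ H.sub {q, r} := Submodule.sub_mem _ (ONB.Supp.app_mem H hx hq) hq
  have hdw : H.dot d w = 0 := by
    rw [hd, H.dot_sub_left]
    nth_rw 1 [← hfix]
    rw [H.dot_app, sub_self]
  by_cases hd0 : d = 0
  · have hfq : (x : V ≃ₗ[F] V) (e q) = e q := sub_eq_zero.1 hd0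
    have hr : e r ∈ H.sub {q, r} := H.e_mem_sub (by simp)
    have hxr := ONB.Supp.app_mem H hx hr
    have hq0 : H.co q ((x : V ≃ₗ[F] V) (e r)) = 0 := by
      unfold ONB.co
      nth_rw 1 [← hfq]
      rw [H.dot_app]
      exact H.co_ne hqr
    have hs : H.co r ((x : V ≃ₗ[F] V) (e r)) * H.co r ((x : V ≃ₗ[F] V) (e r)) = 1 := by
      have h1 := co_pair H hxr hqr ((x : V ≃ₗ[F] V) (e r))
      rw [hq0, zero_mul, zero_add, H.dot_app, H.dot_self_unit (H.val r)] at h1
      exact h1.symm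
    have heq : (x : V ≃ₗ[F] V) (e r) = H.co r ((x : V ≃ₗ[F] V) (e r)) • e r := H.ext_co fun t => by
      rw [H.co_smul]
      rcases eq_or_ne t r with rfl | htr
      · rw [H.co_self, mul_one]
      rw [H.co_ne htr, mul_zero]
      rcases eq_or_ne t q with rfl | htq
      · exact hq0
      · exact hxr t (by simp [htr, htq])
    rcases mul_self_eq_one_iff.1 hs with h1 | h1 <;> rw [h1] at heq
    · refine H.ext_e fun t => ?_
      show (x : V ≃ₗ[F] V) (e t) = e t
      by_cases htq : t = q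
      · rw [htq, hfq]
      by_cases htr : t = r
      · rw [htr, heq, one_smul]
      exact hx t (by simp [htq, htr])
    · exact absurd (hno _ (by rw [heq, neg_one_smul])) (H.e_ne_zero r)
  exfalso
  have hnorm : H.dot d d = -2 * H.co q d := by
    have h1 : H.dot ((x : V ≃ₗ[F] V) (e q)) ((x : V ≃ₗ[F] V) (e q)) = 1 := by
      rw [H.dot_app, H.dot_self_unit (H.val q)]
    rw [show (x : V ≃ₗ[F] V) (e q) = d + e q from (sub_add_cancel _ _).symm, H.dot_add_left, H.dot_add_right,
      H.dot_add_right, H.dot_self_unit (H.val q), H.dot_comm d (e q), show H.dot (e q) d = H.co q d from rfl] at h1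
    linear_combination h1
  rw [co_pair H hdm hqr] at hdw hnorm
  set α := H.co q d
  set β := H.co r d
  set a := H.co q w
  set b := H.co r w
  have hab : a ≠ 0 ∨ b ≠ 0 := by
    by_contra h
    rw [not_or, not_not, not_not] at h
    refine hw0 (H.ext_co fun t => ?_)
    rw [H.co_zero]
    rcases eq_or_ne t q with rfl | htq
    · exact h.1
    rcases eq_or_ne t r with rfl | htr
    · exact h.2
    exact hw t (by simp [htq, htr])
  have hαβ : α ≠ 0 ∨ β ≠ 0 := by
    by_contra h
    rw [not_or, not_not, not_not] at h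
    refine hd0 (H.ext_co fun t => ?_)
    rw [H.co_zero]
    rcases eq_or_ne t q with rfl | htq
    · exact h.1
    rcases eq_or_ne t r with rfl | htr
    · exact h.2
    exact hdm t (by simp [htq, htr])
  -- d is anisotropic
  have hdd : α * α + β * β ≠ 0 := by
    intro h0
    rw [h0, eq_comm, mul_eq_zero] at hnorm
    have hα : α = 0 := hnorm.resolve_left (neg_ne_zero.2 H.two)
    rw [hα, mul_zero, zero_add] at h0
    exact hαβ.elim (fun h => h hα) (fun h => h (mul_self_eq_zero.1 h0))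
  -- the line orthogonal to w is preserved
  set v := (x : V ≃ₗ[F] V) d
  have hvm : v ∈ H.sub {q, r} := ONB.Supp.app_mem H hx hdm
  have hvw : H.co q v * a + H.co r v * b = 0 := by
    rw [← co_pair H hvm hqr]
    nth_rw 1 [← hfix]
    rw [H.dot_app, co_pair H hdm hqr, hdw]
  have hdet : H.co q v * β - H.co r v * α = 0 := by
    rcases hab with ha | hb
    · exact (mul_eq_zero.1 (show a * (H.co q v * β - H.co r v * α) = 0 by
        linear_combination β * hvw - H.co r v * hdw)).resolve_left ha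
    · exact (mul_eq_zero.1 (show b * (H.co q v * β - H.co r v * α) = 0 by
        linear_combination H.co q v * hdw - α * hvw)).resolve_left hb
  have hlam : ∃ s : F, v = s • d := by
    refine ⟨(H.co q v * α + H.co r v * β) / (α * α + β * β), H.ext_co fun t => ?_⟩
    rw [H.co_smul]
    rcases eq_or_ne t q with rfl | htq
    · rw [show H.co t d = α from rfl, div_mul_eq_mul_div, eq_div_iff hdd]
      linear_combination β * hdet
    rcases eq_or_ne t r with rfl | htr
    · rw [show H.co t d = β from rfl, div_mul_eq_mul_div, eq_div_iff hdd]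
      linear_combination -α * hdet
    rw [hvm t (by simp [htq, htr]), hdm t (by simp [htq, htr]), mul_zero]
  obtain ⟨s, hs⟩ := hlam
  have hs2 : s * s = 1 := by
    have h1 := H.dot_app x d d
    rw [show (x : V ≃ₗ[F] V) d = s • d from hs, H.dot_smul_left, H.dot_smul_right, co_pair H hdm hqr] at h1
    exact mul_right_cancel₀ hdd (by linear_combination h1)
  rcases mul_self_eq_one_iff.1 hs2 with rfl | rfl
  · rw [one_smul] at hs
    have h1 := H.dot_app x d (e q)
    rw [show (x : V ≃ₗ[F] V) d = d from hs, ← sub_eq_zero, ← H.dot_sub_right, ← hd, co_pair H hdm hqr] at h1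
    exact hdd h1
  · exact hd0 (hno d (by rw [show (x : V ≃ₗ[F] V) d = (-1 : F) • d from hs, neg_one_smul]))

variable {X : Subgroup (O Q)} (hX : Hyp H X)
include hX

/-- Signless elements of X move any two points to any two. -/
theorem exists_move2 {p q p' q' : Pts k} (hpq : p ≠ q) (hpq' : p' ≠ q') :
    ∃ g ∈ X, (g : V ≃ₗ[F] V) (e p) = e p' ∧ (g : V ≃ₗ[F] V) (e q) = e q' := by
  have hne : ∀ {x y : Pts k}, x ≠ y → y + x ≠ 0 := fun {x y} h e1 => h (by
    have h2 := congrArg (· + x) e1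
    simp only [zero_add, add_assoc, Bit.vtwo, add_zero] at h2
    exact h2.symm)
  set v := q + p
  set w := q' + p'
  have hv : v ≠ 0 := hne hpq
  have hw : w ≠ 0 := hne hpq'
  obtain ⟨cc, hcv, hcw⟩ : ∃ cc : Pts k, cc ⬝ᵥ v = 1 ∧ cc ⬝ᵥ w = 1 := by
    by_cases hvw : w = v
    · obtain ⟨a, -, ha⟩ := exists_dual (b := 0) hv hv
      exact ⟨a, ha, by rw [hvw, ha]⟩
    obtain ⟨a, ha1, ha2⟩ := exists_dual hw hvw
    obtain ⟨b, hb1, hb2⟩ := exists_dual hv (Ne.symm hvw)
    exact ⟨a + b, by rw [add_dotProduct, ha1, hb2, zero_add], by rw [add_dotProduct, ha2, hb1, add_zero]⟩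
  have hcu : cc ⬝ᵥ (v + w) = 0 := by rw [dotProduct_add, hcv, hcw, Bit.two]
  have hT : ∀ b s : Pts k, ((cP H ∅ 0 b 0 : O Q) : V ≃ₗ[F] V) (e s) = e (s + b) := fun b s => by
    rw [cP_app H 0 (off_empty b)]; simp [chi_empty, bsign_zero]
  have hL : ∀ s : Pts k, (lin H (v + w) cc : V ≃ₗ[F] V) (e s) = e (s + (cc ⬝ᵥ s) • (v + w)) := fun s => by
    rw [lin, mn_app, flp_app (lin_inv hcu)]; simp [bsign_zero]
  refine ⟨cP H ∅ 0 p' 0 * lin H (v + w) cc * cP H ∅ 0 p 0,
    X.mul_mem (X.mul_mem (cP_X H hX 0) (lin_X H hX hcu)) (cP_X H hX 0), ?_, ?_⟩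
  · rw [Subgroup.coe_mul, mul_app, hT, Subgroup.coe_mul, mul_app, hL, hT, Bit.vtwo, dotProduct_zero]
    simp
  · rw [Subgroup.coe_mul, mul_app, hT, Subgroup.coe_mul, mul_app, hL, hT, show q + p = v from rfl, hcv, one_smul,
      ← add_assoc, Bit.vtwo, zero_add, show w = q' + p' from rfl, add_assoc, Bit.vtwo, add_zero]

/-- A nonscalar element on a block of two points gives a sign change on one. -/
theorem triple {J : Finset (Fin k)} (hJ : J.card + 1 = k) (h : Nontriv H X J) :
    ∃ J' : Finset (Fin k), J'.card + 1 = k ∧ Dsg H J' ∈ X := by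
  classical
  by_contra hno
  have hfin := finiteO H
  have hDX : Dsg H J ∉ X := fun h => hno ⟨J, hJ, h⟩
  -- the two points
  obtain ⟨l, hl⟩ : ∃ l, l ∉ J := by
    by_contra hno'
    push Not at hno'
    rw [Finset.eq_univ_of_forall hno', Finset.card_univ, Fintype.card_fin] at hJ
    omega
  have hJl : ∀ i, i ∉ J → i = l := fun i hi => by
    by_contra hne
    have h2 := Finset.card_le_univ (insert i (insert l J))
    rw [Finset.card_insert_of_notMem (by simp [hne, hi]), Finset.card_insert_of_notMem hl, Fintype.card_fin] at h2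
    omega
  set p₀ : Pts k := fun _ => 1 with hp₀
  set q₀ : Pts k := p₀ + Pi.single l 1 with hq₀
  have hpq : p₀ ≠ q₀ := fun h => by
    have h2 := congrFun h l
    simp [hq₀, hp₀] at h2
  have hchi : ∀ s, chi J s = 1 ↔ s ∈ ({p₀, q₀} : Finset (Pts k)) := by
    intro s
    rw [chi_eq_one, Finset.mem_insert, Finset.mem_singleton]
    constructor
    · intro hs
      rcases bit_cases (s l) with e1 | e1
      · right
        funext i
        rcases eq_or_ne i l with rfl | hi
        · simp [hq₀, hp₀, e1, show (1 : ZMod 2) + 1 = 0 by decide]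
        · simp [hq₀, hp₀, hi, hs i (by_contra fun h => hi (hJl i h))]
      · left
        funext i
        rcases eq_or_ne i l with rfl | hi
        · exact e1
        · exact hs i (by_contra fun h => hi (hJl i h))
    · rintro (rfl | rfl) i hi
      · rfl
      · simp [hq₀, hp₀, ne_of_mem_of_not_mem hi hl]
  have hblk : ∀ {x : O Q}, x ∈ blkG H J → H.Supp x {p₀, q₀} := fun {x} hx s hs =>
    blkG_fix H hx ((bit_cases _).resolve_right fun h => hs ((hchi s).1 h))
  -- a sign change on any two points is the one on the block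
  have hpair : ∀ {p q : Pts k} {f : O Q}, p ≠ q → f ∈ X → H.IsDiag f {p, q} → False := by
    intro p q f hne hf hfd
    obtain ⟨g, hg, hgp, hgq⟩ := exists_move2 H hX hne hpq
    refine hDX ?_
    suffices heq : Dsg H J = g * f * g⁻¹ by rw [heq]; exact X.mul_mem (X.mul_mem hg hf) (X.inv_mem hg)
    refine eq_mul_inv_iff_mul_eq.2 (H.ext_e fun s => ?_)
    rw [Subgroup.coe_mul, mul_app, Subgroup.coe_mul, mul_app, hfd s]
    have hgs : ∀ t, t ∉ ({p, q} : Finset (Pts k)) → (Dsg H J : V ≃ₗ[F] V) ((g : V ≃ₗ[F] V) (e t)) = (g : V ≃ₗ[F] V) (e t) := by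
      intro t ht
      rw [H.eq_sum ((g : V ≃ₗ[F] V) (e t)), map_sum]
      refine Finset.sum_congr rfl fun i _ => ?_
      rw [map_smul, Dsg_app]
      rcases bit_cases (chi J i) with hi | hi
      · rw [hi, bsign_zero, one_smul]
      suffices h0 : H.co i ((g : V ≃ₗ[F] V) (e t)) = 0 by rw [h0, zero_smul, zero_smul]
      simp only [Finset.mem_insert, Finset.mem_singleton, not_or] at ht
      rcases Finset.mem_insert.1 ((hchi i).1 hi) with rfl | hi'
      · unfold ONB.co; rw [← hgp, H.dot_app]; exact H.co_ne (Ne.symm ht.1)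
      · rw [Finset.mem_singleton] at hi'
        subst hi'
        unfold ONB.co; rw [← hgq, H.dot_app]; exact H.co_ne (Ne.symm ht.2)
    by_cases hs : s ∈ ({p, q} : Finset (Pts k))
    · rw [if_pos hs]
      simp only [Finset.mem_insert, Finset.mem_singleton] at hs
      rcases hs with rfl | rfl
      · rw [hgp, Dsg_app, (hchi p₀).2 (by simp), bsign_one, neg_one_smul, map_neg, hgp]
      · rw [hgq, Dsg_app, (hchi q₀).2 (by simp), bsign_one, neg_one_smul, map_neg, hgq]
    · rw [if_neg hs, hgs s hs]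
  -- three points and the group supported on them
  have hk := hX.four
  obtain ⟨r₀, hr₀⟩ : ∃ r₀, r₀ ∉ ({p₀, q₀} : Finset (Pts k)) := by
    by_contra hno'
    push Not at hno'
    have h2 := Finset.card_le_card (fun x _ => hno' x : (Finset.univ : Finset (Pts k)) ⊆ {p₀, q₀})
    rw [Finset.card_univ, Fintype.card_fun, ZMod.card, Fintype.card_fin, Finset.card_pair hpq] at h2
    have : 2 ^ 4 ≤ 2 ^ k := Nat.pow_le_pow_right (by norm_num) hk
    omega
  simp only [Finset.mem_insert, Finset.mem_singleton, not_or] at hr₀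
  set A3 : Finset (Pts k) := {p₀, q₀, r₀}
  set K := X ⊓ H.suppG A3
  -- the sign changes
  set P : Subgroup (O Q) :=
    { carrier := {g | ∃ a d, g = cP H ∅ a 0 d}
      one_mem' := ⟨0, 0, (cP_zero H ∅).symm⟩
      mul_mem' := by
        rintro _ _ ⟨a, d, rfl⟩ ⟨a', d', rfl⟩
        exact ⟨_, _, by rw [cP_mul H a a' (off_empty _) (off_empty _), add_zero, dotProduct_zero, add_zero]⟩
      inv_mem' := by
        rintro _ ⟨a, d, rfl⟩
        exact ⟨a, d, by rw [cP_inv H a (off_empty _), dotProduct_zero, add_zero]⟩ } with hP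
  have hsgn : ∀ (a : Pts k) d (s : Pts k), (cP H ∅ a 0 d : V ≃ₗ[F] V) (e s) = (bsign (a ⬝ᵥ s + d) : F) • e s :=
    fun a d s => by rw [cP_app H a (off_empty _)]; simp [chi_empty]
  have hPP : ∀ (a : Pts k) d, cP H ∅ a 0 d * cP H ∅ a 0 d = 1 := fun a d => by
    rw [cP_mul H a a (off_empty _) (off_empty _), Bit.vtwo, Bit.vtwo, dotProduct_zero, Bit.two, add_zero, cP_zero]
  have hPK : ∀ g ∈ P, ∀ y ∈ K, g * y * g⁻¹ ∈ K := by
    rintro _ ⟨a, d, rfl⟩ y ⟨hy, hys⟩
    refine ⟨X.mul_mem (X.mul_mem (cP_X H hX d) hy) (X.inv_mem (cP_X H hX d)), fun s hs => ?_⟩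
    rw [inv_eq_of_mul_eq_one_right (hPP a d), Subgroup.coe_mul, mul_app, Subgroup.coe_mul, mul_app, hsgn, map_smul,
      hys s hs, map_smul, hsgn, smul_smul, bsign_sq, one_smul]
  have hPp : IsPGroup 2 P := fun g => ⟨1, Subtype.ext (by
    obtain ⟨a, d, hg⟩ := g.2
    rw [SubmonoidClass.coe_pow, pow_one, pow_two, OneMemClass.coe_one, hg, hPP])⟩
  have hsel : ∀ x y z : Pts k, x ≠ y → x ≠ z → y ≠ z → ∃ a d, a ⬝ᵥ x + d = 1 ∧ a ⬝ᵥ y + d = 0 ∧ a ⬝ᵥ z + d = 0 := by
    intro x y z hxy hxz hyz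
    have key : ∀ {u v w : Pts k}, u + w = v + w → u = v := fun h => add_right_cancel h
    obtain ⟨a, ha1, ha2⟩ := exists_dual (w := x + y) (b := z + y)
      (fun h => hxy (key (h.trans (Bit.vtwo y).symm))) (fun h => hxz (key h))
    rw [dotProduct_add] at ha1 ha2
    refine ⟨a, a ⬝ᵥ y, ha2, Bit.two _, ha1⟩
  -- no involutions
  have hnoinv : ∀ y ∈ K, y * y = 1 → y = 1 := by
    intro y hy hyy
    by_contra hy1
    obtain ⟨t, ⟨htX, htS⟩, ht1, htP⟩ := almost_central K P ⊥ hPK
      (fun z hz w _ => by rw [Subgroup.mem_bot.1 hz, one_mul, mul_one]) hPp hy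
      (by rwa [Subgroup.mem_bot]) (by rw [hyy]; exact Subgroup.one_mem _)
    rw [Subgroup.mem_bot] at ht1
    have hdiag : ∀ s ∈ A3, (t : V ≃ₗ[F] V) (e s) = e s ∨ (t : V ≃ₗ[F] V) (e s) = -e s := by
      intro s hs
      have hax : H.Ax ((t : V ≃ₗ[F] V) (e s)) := H.ax_of_co (j := s) fun u hu => by
        by_cases huA : u ∈ A3
        swap
        · exact ONB.Supp.co_app H htS hs huA
        obtain ⟨w, hw, hwu, hws⟩ : ∃ w ∈ A3, w ≠ u ∧ w ≠ s := by
          by_contra hno'
          push Not at hno'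
          have h2 : A3.card ≤ 2 := (Finset.card_le_card (fun w hw => by
            by_cases h : w = u
            · simp [h]
            · simp [hno' w hw h] : A3 ⊆ {u, s})).trans Finset.card_le_two
          rw [Finset.card_eq_three.2 ⟨p₀, q₀, r₀, hpq, Ne.symm hr₀.1, Ne.symm hr₀.2, rfl⟩] at h2
          omega
        obtain ⟨a, d, h1, h2, h3⟩ := hsel s u w (Ne.symm hu) (Ne.symm hws) (Ne.symm hwu)
        have hc := htP _ ⟨a, d, rfl⟩
        rw [Subgroup.mem_bot, mul_inv_eq_one, mul_inv_eq_iff_eq_mul] at hc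
        have e1 := H.dot_app (cP H ∅ a 0 d) (e u) ((t : V ≃ₗ[F] V) (e s))
        rw [← mul_app _ (t : V ≃ₗ[F] V), ← Subgroup.coe_mul, hc, Subgroup.coe_mul, mul_app, hsgn, hsgn, h1, h2,
          bsign_zero, bsign_one, one_smul, neg_one_smul, map_neg, H.dot_neg_right] at e1
        exact (mul_eq_zero.1 (show (2 : F) * H.co u ((t : V ≃ₗ[F] V) (e s)) = 0 by
          unfold ONB.co; linear_combination -e1)).resolve_left H.two
      obtain ⟨j, hj⟩ := ONB.Ax.eq H hax (by rw [O.map_app, H.val])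
      obtain rfl : j = s := by
        by_contra hne
        obtain ⟨w, hw, hwu, hws⟩ : ∃ w ∈ A3, w ≠ j ∧ w ≠ s := by
          by_contra hno'
          push Not at hno'
          have h2 : A3.card ≤ 2 := (Finset.card_le_card (fun w hw => by
            by_cases h : w = j
            · simp [h]
            · simp [hno' w hw h] : A3 ⊆ {j, s})).trans Finset.card_le_two
          rw [Finset.card_eq_three.2 ⟨p₀, q₀, r₀, hpq, Ne.symm hr₀.1, Ne.symm hr₀.2, rfl⟩] at h2
          omega
        obtain ⟨a, d, h1, h2, h3⟩ := hsel s j w (Ne.symm hne) (Ne.symm hws) (Ne.symm hwu)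
        have hc := htP _ ⟨a, d, rfl⟩
        rw [Subgroup.mem_bot, mul_inv_eq_one, mul_inv_eq_iff_eq_mul] at hc
        have e1 := congrArg (fun g : O Q => (g : V ≃ₗ[F] V) (e s)) hc
        simp only [Subgroup.coe_mul, mul_app, hsgn, h1, bsign_one, neg_one_smul, map_neg] at e1
        rcases hj with hj | hj <;> rw [hj] at e1 <;>
          simp only [map_neg, hsgn, h2, bsign_zero, one_smul, neg_neg] at e1
        · exact H.e_ne_zero j ((smul_eq_zero.1 (show (2 : F) • e j = 0 by
            rw [two_smul]; exact eq_neg_iff_add_eq_zero.1 e1)).resolve_left H.two)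
        · exact H.e_ne_zero j ((smul_eq_zero.1 (show (2 : F) • e j = 0 by
            rw [two_smul]; exact neg_eq_iff_add_eq_zero.1 e1)).resolve_left H.two)
      exact hj
    set ε : Pts k → ZMod 2 := fun s => if (t : V ≃ₗ[F] V) (e s) = e s then 0 else 1
    have ht : t = mn H 1 ε := H.ext_e fun s => by
      rw [mn_app, Equiv.Perm.one_apply]
      by_cases hs : s ∈ A3
      · by_cases h : (t : V ≃ₗ[F] V) (e s) = e s
        · rw [show ε s = 0 from if_pos h, bsign_zero, one_smul]; exact h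
        · rw [show ε s = 1 from if_neg h, bsign_one, neg_one_smul]; exact (hdiag s hs).resolve_left h
      · rw [show ε s = 0 from if_pos (htS s hs), bsign_zero, one_smul]; exact htS s hs
    have hsum := sum_eq_zero_of_sign_mem H (ht ▸ hX.le htX)
    rw [← Finset.sum_subset (Finset.subset_univ A3) fun s _ hs => if_pos (htS s hs)] at hsum
    have hd : ∀ {x y : Pts k}, ε x = 1 → ε y = 1 → (∀ z, z ≠ x → z ≠ y → ε z = 0) → H.IsDiag t {x, y} := by
      intro x y hx' hy' hz s
      rw [ht, mn_app, Equiv.Perm.one_apply]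
      by_cases h : s ∈ ({x, y} : Finset (Pts k))
      · rw [if_pos h]
        simp only [Finset.mem_insert, Finset.mem_singleton] at h
        rcases h with rfl | rfl <;> simp [hx', hy', bsign_one]
      · rw [if_neg h]
        simp only [Finset.mem_insert, Finset.mem_singleton, not_or] at h
        rw [hz s h.1 h.2, bsign_zero, one_smul]
    have hout : ∀ z, z ≠ p₀ → z ≠ q₀ → z ≠ r₀ → ε z = 0 := fun z h1 h2 h3 =>
      if_pos (htS z (by simp [A3, h1, h2, h3]))
    rw [show A3 = {p₀, q₀, r₀} from rfl, Finset.sum_insert (by simp [hpq, Ne.symm hr₀.1]),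
      Finset.sum_pair (Ne.symm hr₀.2)] at hsum
    change ε p₀ + (ε q₀ + ε r₀) = 0 at hsum
    rcases bit_cases (ε p₀) with hp | hp <;> rcases bit_cases (ε q₀) with hq | hq <;>
      rcases bit_cases (ε r₀) with hr | hr <;> rw [hp, hq, hr] at hsum
    · refine ht1 ?_
      rw [ht]
      have hz : ε = 0 := funext fun z => by
        by_cases h1 : z = p₀
        · rw [h1, hp]; rfl
        by_cases h2 : z = q₀
        · rw [h2, hq]; rfl
        by_cases h3 : z = r₀
        · rw [h3, hr]; rfl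
        exact hout z h1 h2 h3
      rw [hz, mn_one]
    · exact absurd hsum (by decide)
    · exact absurd hsum (by decide)
    · exact hpair (Ne.symm hr₀.2) htX (hd hq hr fun z h1 h2 => by
        by_cases h3 : z = p₀
        · rw [h3, hp]
        · exact hout z h3 h1 h2)
    · exact absurd hsum (by decide)
    · exact hpair (Ne.symm hr₀.1) htX (hd hp hr fun z h1 h2 => by
        by_cases h3 : z = q₀
        · rw [h3, hq]
        · exact hout z h1 h3 h2)
    · exact hpair hpq htX (hd hp hq fun z h1 h2 => by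
        by_cases h3 : z = r₀
        · rw [h3, hr]
        · exact hout z h1 h2 h3)
    · exact absurd hsum (by decide)
  -- so K is odd and has no eigenvalue -1
  have hord : ∀ y ∈ K, Odd (orderOf y) := fun y hy => by
    rw [← Nat.not_even_iff_odd]
    rintro ⟨m, hm⟩
    have h1 : y ^ m = 1 := hnoinv _ (K.pow_mem hy m) (by rw [← pow_add, ← hm, pow_orderOf_eq_one])
    have := orderOf_pos y
    have := Nat.le_of_dvd (by omega) (orderOf_dvd_of_pow_eq_one h1)
    omega
  have hneg : ∀ y ∈ K, ∀ v, (y : V ≃ₗ[F] V) v = -v → v = 0 := fun y hy v hv => by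
    have hpow : ∀ j : ℕ, ((y ^ (2 * j + 1) : O Q) : V ≃ₗ[F] V) v = -v := fun j => by
      induction j with
      | zero => simpa using hv
      | succ j ih =>
        rw [show 2 * (j + 1) + 1 = 2 * j + 1 + 1 + 1 by ring, pow_succ, pow_succ, Subgroup.coe_mul, mul_app, hv,
          map_neg, Subgroup.coe_mul, mul_app, hv, map_neg, neg_neg, ih]
    obtain ⟨j, hj⟩ := hord y hy
    have h1 := hpow j
    rw [← hj, pow_orderOf_eq_one] at h1
    exact (smul_eq_zero.1 (show (2 : F) • v = 0 by rw [two_smul]; exact eq_neg_iff_add_eq_zero.1 h1)).resolve_left H.two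
  obtain ⟨x, hx, hxB, hxZ⟩ := h
  have hx1 : x ≠ 1 := fun h1 => hxZ (h1 ▸ .inl rfl)
  -- the stabiliser of a point in K
  have hstab : ∀ {u v w : Pts k}, u ≠ v → u ≠ w → v ≠ w → A3 = {u, v, w} →
      ∃ C : Subgroup K, 3 ≤ Nat.card C ∧ (∀ g, g ∈ C ↔ ((g : O Q) : V ≃ₗ[F] V) (e u) = e u) ∧
        ∀ g : K, g ∈ C → g ≠ 1 → ∀ z, ((g : O Q) : V ≃ₗ[F] V) z = z → z ∈ H.sub A3 → H.co v z = 0 ∧ H.co w z = 0 := by
    intro u v w huv huw hvw hA
    let C : Subgroup K :=
      { carrier := {g | ((g : O Q) : V ≃ₗ[F] V) (e u) = e u}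
        one_mem' := rfl
        mul_mem' := fun {a b} ha hb => by
          show ((a * b : K) : O Q).1 (e u) = e u
          rw [Subgroup.coe_mul, Subgroup.coe_mul, mul_app, hb, ha]
        inv_mem' := fun {a} ha => by
          show ((a⁻¹ : K) : O Q).1 (e u) = e u
          conv_lhs => rw [← ha]
          rw [Subgroup.coe_inv, ← mul_app, ← Subgroup.coe_mul, inv_mul_cancel]; rfl }
    have huA : u ∈ A3 := by rw [hA]; simp
    have hsupp : ∀ g : K, g ∈ C → H.Supp (g : O Q) {v, w} := fun g hg s hs => by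
      by_cases hsA : s ∈ A3
      · rw [hA, Finset.mem_insert] at hsA
        rcases hsA with rfl | hsA
        exacts [hg, absurd hsA hs]
      · exact g.2.2 s hsA
    refine ⟨C, ?_, fun g => Iff.rfl, fun g hg hg1 z hz hzA => ?_⟩
    · obtain ⟨g0, hg0, hgv, hgw⟩ := exists_move2 H hX hpq hvw
      have hy : g0 * x * g0⁻¹ ∈ K ∧ ((g0 * x * g0⁻¹ : O Q) : V ≃ₗ[F] V) (e u) = e u := by
        have hsx := hblk hxB
        have hfix : ∀ s, s ≠ v → s ≠ w → ((g0 * x * g0⁻¹ : O Q) : V ≃ₗ[F] V) (e s) = e s := by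
          intro s hsv hsw
          have hz : (x : V ≃ₗ[F] V) (((g0⁻¹ : O Q) : V ≃ₗ[F] V) (e s)) = ((g0⁻¹ : O Q) : V ≃ₗ[F] V) (e s) := by
            refine ONB.Supp.fix H hsx fun i hi => ?_
            unfold ONB.co
            rw [← H.dot_app g0, ← mul_app, ← Subgroup.coe_mul, mul_inv_cancel]
            simp only [Finset.mem_insert, Finset.mem_singleton] at hi
            rcases hi with rfl | rfl
            · rw [hgv]; exact H.co_ne (Ne.symm hsv)
            · rw [hgw]; exact H.co_ne (Ne.symm hsw)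
          rw [Subgroup.coe_mul, mul_app, Subgroup.coe_mul, mul_app, hz, ← mul_app, ← Subgroup.coe_mul, mul_inv_cancel]
          rfl
        refine ⟨⟨X.mul_mem (X.mul_mem hg0 hx) (X.inv_mem hg0), fun s hs => hfix s ?_ ?_⟩, hfix u huv huw⟩
        · rintro rfl; exact hs (by rw [hA]; simp)
        · rintro rfl; exact hs (by rw [hA]; simp)
      have hcy : (⟨⟨_, hy.1⟩, hy.2⟩ : C) ≠ 1 := fun h1 => hx1 (by
        have h2 : g0 * x * g0⁻¹ = 1 := congrArg (fun z : C => ((z : K) : O Q)) h1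
        rwa [conj_eq_one_iff] at h2)
      have hodd' : Odd (orderOf (⟨⟨_, hy.1⟩, hy.2⟩ : C)) := by
        rw [← Subgroup.orderOf_coe, ← Subgroup.orderOf_coe]
        exact hord _ hy.1
      have h1 : orderOf (⟨⟨_, hy.1⟩, hy.2⟩ : C) ≠ 1 := fun h1 => hcy (orderOf_eq_one_iff.1 h1)
      have h2 := Nat.le_of_dvd Nat.card_pos (orderOf_dvd_natCard (⟨⟨_, hy.1⟩, hy.2⟩ : C))
      obtain ⟨j, hj⟩ := hodd'
      omega
    · set z' := z - H.co u z • e u with hz'
      have hz'm : z' ∈ H.sub {v, w} := fun i hi => by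
        rw [hz', H.co_sub, H.co_smul]
        rcases eq_or_ne i u with rfl | hiu
        · rw [H.co_self, mul_one, sub_self]
        · rw [H.co_ne hiu, mul_zero, sub_zero]
          exact hzA i (by rw [hA, Finset.mem_insert, not_or]; exact ⟨hiu, hi⟩)
      have hz0 : z' = 0 := by
        by_contra hne
        refine hg1 (Subtype.ext (rot_fix H hvw (hsupp g hg) (hneg _ g.2) hz'm hne ?_))
        rw [hz', map_sub, map_smul, hz, hg]
      have hzu := sub_eq_zero.1 hz0
      rw [hzu, H.co_smul, H.co_smul, H.co_ne (Ne.symm huv), H.co_ne (Ne.symm huw), mul_zero]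
      exact ⟨rfl, rfl⟩
  obtain ⟨A, hA3, hAm, hAf⟩ := hstab (u := p₀) (v := q₀) (w := r₀) hpq (Ne.symm hr₀.1) (Ne.symm hr₀.2) rfl
  obtain ⟨B, hB3, hBm, hBf⟩ := hstab (u := q₀) (v := p₀) (w := r₀) hpq.symm (Ne.symm hr₀.2) (Ne.symm hr₀.1)
    (Finset.insert_comm _ _ _)
  -- a fixed vector of a conjugate
  have hpull : ∀ (g x : K) (u : Pts k), u ∈ A3 →
      (((g * x * g⁻¹ : K) : O Q) : V ≃ₗ[F] V) (e u) = e u →
      ((x : O Q) : V ≃ₗ[F] V) ((((g : O Q)⁻¹ : O Q) : V ≃ₗ[F] V) (e u)) = (((g : O Q)⁻¹ : O Q) : V ≃ₗ[F] V) (e u) ∧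
        (((g : O Q)⁻¹ : O Q) : V ≃ₗ[F] V) (e u) ∈ H.sub A3 := by
    intro g x u hu hfix
    refine ⟨?_, ONB.Supp.app_mem H (ONB.Supp.inv H g.2.2) (H.e_mem_sub hu)⟩
    rw [Subgroup.coe_mul, Subgroup.coe_mul, Subgroup.coe_inv, Subgroup.coe_mul, mul_app, Subgroup.coe_mul, mul_app] at hfix
    conv_rhs => rw [← hfix]
    rw [← mul_app (((g : O Q)⁻¹ : O Q) : V ≃ₗ[F] V), ← Subgroup.coe_mul, inv_mul_cancel]
    rfl
  have haxis : ∀ {g : O Q} {u v : Pts k}, H.Ax (((g⁻¹ : O Q) : V ≃ₗ[F] V) (e u)) →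
      H.co v (((g⁻¹ : O Q) : V ≃ₗ[F] V) (e u)) ≠ 0 →
      (g : V ≃ₗ[F] V) (e v) = e u ∨ (g : V ≃ₗ[F] V) (e v) = -e u := by
    intro g u v hax hco
    obtain ⟨j, hj⟩ := ONB.Ax.eq H hax (by rw [O.map_app, H.val])
    obtain rfl : v = j := by
      by_contra hne
      rcases hj with hj | hj <;> rw [hj] at hco
      · exact hco (H.co_ne hne)
      · exact hco (by rw [H.co_neg, H.co_ne hne, neg_zero])
    rcases hj with hj | hj
    · left; rw [← hj, ← mul_app, ← Subgroup.coe_mul, mul_inv_cancel]; rfl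
    · right
      rw [show e v = -(((g⁻¹ : O Q) : V ≃ₗ[F] V) (e u)) by rw [hj, neg_neg], map_neg, ← mul_app, ← Subgroup.coe_mul,
        mul_inv_cancel]
      rfl
  have hne0 : ∀ {z : V} {u v w : Pts k}, A3 = {u, v, w} → z ∈ H.sub A3 → z ≠ 0 → H.co v z = 0 → H.co w z = 0 →
      H.Ax z ∧ H.co u z ≠ 0 := by
    intro z u v w hA hz hz0 hv hw
    have hall : ∀ i, i ≠ u → H.co i z = 0 := fun i hiu => by
      by_cases h1 : i = v
      · rw [h1, hv]
      by_cases h2 : i = w
      · rw [h2, hw]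
      exact hz i (by rw [hA]; simp [hiu, h1, h2])
    refine ⟨H.ax_of_co hall, fun h0 => hz0 (H.ext_co fun i => ?_)⟩
    rw [H.co_zero]
    rcases eq_or_ne i u with rfl | hi
    exacts [h0, hall i hi]
  have hinvne : ∀ (g : O Q) (u : Pts k), ((g⁻¹ : O Q) : V ≃ₗ[F] V) (e u) ≠ 0 := fun g u h0 => H.e_ne_zero u
    (((g⁻¹ : O Q) : V ≃ₗ[F] V).map_eq_zero_iff.1 h0)
  refine no_two_families A B hA3 hB3 ?_ ?_ ?_
  · intro g x hx hx1 hgx
    obtain ⟨hf, hm⟩ := hpull g x p₀ (by simp [A3]) ((hAm _).1 hgx)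
    obtain ⟨h1, h2⟩ := hAf x hx hx1 _ hf hm
    obtain ⟨hax, hco⟩ := hne0 (u := p₀) rfl hm (hinvne _ _) h1 h2
    rcases haxis hax hco with h3 | h3
    · exact (hAm g).2 h3
    · exact absurd (hneg _ g.2 _ h3) (H.e_ne_zero _)
  · intro g x hx hx1 hgx
    obtain ⟨hf, hm⟩ := hpull g x q₀ (by simp [A3]) ((hBm _).1 hgx)
    obtain ⟨h1, h2⟩ := hBf x hx hx1 _ hf hm
    obtain ⟨hax, hco⟩ := hne0 (u := q₀) (Finset.insert_comm _ _ _) hm (hinvne _ _) h1 h2
    rcases haxis hax hco with h3 | h3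
    · exact (hBm g).2 h3
    · exact absurd (hneg _ g.2 _ h3) (H.e_ne_zero _)
  · intro g x hx hx1 hgx
    obtain ⟨hf, hm⟩ := hpull g x q₀ (by simp [A3]) ((hBm _).1 hgx)
    obtain ⟨h1, h2⟩ := hAf x hx hx1 _ hf hm
    obtain ⟨hax, hco⟩ := hne0 (u := p₀) rfl hm (hinvne _ _) h1 h2
    have hgpq := haxis hax hco
    -- the coset of such elements is odd and stable under a sign change
    obtain ⟨a, d, hap, haq, har⟩ := hsel p₀ q₀ r₀ hpq (Ne.symm hr₀.1) (Ne.symm hr₀.2)
    set s := cP H ∅ a 0 d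
    have hsi : s⁻¹ = s := inv_eq_of_mul_eq_one_right (hPP a d)
    let τ : K → K := fun y => ⟨s * y * s, by
      have h3 := hPK s ⟨a, d, rfl⟩ y y.2
      rwa [hsi] at h3⟩
    let C : Finset K := @Finset.filter _ (fun y : K => ((y : O Q) : V ≃ₗ[F] V) (e p₀) = e q₀ ∨
      ((y : O Q) : V ≃ₗ[F] V) (e p₀) = -e q₀) (Classical.decPred _) (@Finset.univ K (Fintype.ofFinite K))
    have hC : ∀ y : K, y ∈ C ↔ (((y : O Q) : V ≃ₗ[F] V) (e p₀) = e q₀ ∨ ((y : O Q) : V ≃ₗ[F] V) (e p₀) = -e q₀) :=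
      fun y => by simp [C]
    have hCcard : C.card = Nat.card A := by
      have := Fintype.ofFinite A
      rw [Nat.card_eq_fintype_card, ← Finset.card_univ]
      refine Finset.card_bij' (fun y hy => (⟨g⁻¹ * y, ?_⟩ : A)) (fun y _ => g * y.1) ?_ ?_ ?_ ?_
      · rw [hAm]
        show (((g⁻¹ * y : K) : O Q) : V ≃ₗ[F] V) (e p₀) = e p₀
        have hy' := (hC y).1 hy
        have hg' : ∀ v : V, (((g⁻¹ : K) : O Q) : V ≃ₗ[F] V) (((g : O Q) : V ≃ₗ[F] V) v) = v := fun v => by
          rw [← mul_app, ← Subgroup.coe_mul, ← Subgroup.coe_mul, inv_mul_cancel]; rfl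
        rw [Subgroup.coe_mul, Subgroup.coe_mul, mul_app]
        have hmain : ((y : O Q) : V ≃ₗ[F] V) (e p₀) = ((g : O Q) : V ≃ₗ[F] V) (e p₀) := by
          by_contra hne
          have h5 : ((y : O Q) : V ≃ₗ[F] V) (e p₀) = -((g : O Q) : V ≃ₗ[F] V) (e p₀) := by
            rcases hy' with h3 | h3 <;> rcases hgpq with h4 | h4 <;> rw [h3, h4] at hne ⊢ <;>
              first | exact absurd rfl hne | rw [neg_neg]
          refine H.e_ne_zero p₀ (hneg _ (g⁻¹ * y).2 _ ?_)
          rw [Subgroup.coe_mul, Subgroup.coe_mul, mul_app, h5, map_neg, hg']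
        rw [hmain, hg']
      · intro y _
        exact Finset.mem_univ _
      · intro y _
        rw [hC, Subgroup.coe_mul, Subgroup.coe_mul, mul_app, (hAm y.1).1 y.2]
        exact hgpq
      · intro y _; exact mul_inv_cancel_left g y
      · intro y _; exact Subtype.ext (inv_mul_cancel_left g _)
    have hCodd : Odd C.card := by
      rw [hCcard, ← Nat.not_even_iff_odd, even_iff_two_dvd]
      intro h2
      have := Fact.mk Nat.prime_two
      obtain ⟨y, hy⟩ := exists_prime_orderOf_dvd_card' 2 h2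
      have h3 := hord _ y.1.2
      rw [Subgroup.orderOf_coe, Subgroup.orderOf_coe, hy] at h3
      exact absurd h3 (by decide)
    obtain ⟨y, hy, hyfix⟩ : ∃ y ∈ C, τ y = y := by
      by_contra hno'
      push Not at hno'
      have hsum : ∑ _y ∈ C, (1 : ZMod 2) = 0 := Finset.sum_involution (fun y _ => τ y) (fun _ _ => by decide)
        (fun y hy _ => hno' y hy) (fun y hy => by
          rw [hC] at hy ⊢
          have hsq : ∀ t : Pts k, (s : V ≃ₗ[F] V) (e t) = (bsign (a ⬝ᵥ t + d) : F) • e t := hsgn a d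
          show ((s * (y : O Q) * s : O Q) : V ≃ₗ[F] V) (e p₀) = e q₀ ∨
            ((s * (y : O Q) * s : O Q) : V ≃ₗ[F] V) (e p₀) = -e q₀
          rw [Subgroup.coe_mul, mul_app, Subgroup.coe_mul, mul_app, hsq, hap, bsign_one, neg_one_smul, map_neg, map_neg]
          rcases hy with h3 | h3 <;> rw [h3] <;> simp [map_neg, hsq, haq, bsign_zero])
        (fun y _ => Subtype.ext (show s * (s * (y : O Q) * s) * s = y by
          rw [show s * (s * (y : O Q) * s) * s = s * s * y * (s * s) by group, hPP, one_mul, mul_one]))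
      obtain ⟨j, hj⟩ := hCodd
      rw [Finset.sum_const, hj, nsmul_one] at hsum
      push_cast at hsum
      rw [show (2 : ZMod 2) = 0 from rfl, zero_mul, zero_add] at hsum
      exact one_ne_zero hsum
    have e1 : s * (y : O Q) * s = y := congrArg Subtype.val hyfix
    have e2 := congrArg (fun z : O Q => (z : V ≃ₗ[F] V) (e p₀)) e1
    simp only [Subgroup.coe_mul, mul_app, s, hsgn, hap, bsign_one, neg_one_smul, map_neg] at e2
    rcases (hC y).1 hy with h3 | h3 <;> rw [h3] at e2 <;> simp only [map_neg, hsgn, haq, bsign_zero, one_smul,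
      neg_neg] at e2
    · exact H.e_ne_zero q₀ ((smul_eq_zero.1 (show (2 : F) • e q₀ = 0 by
        rw [two_smul]; exact neg_eq_iff_add_eq_zero.1 e2)).resolve_left H.two)
    · exact H.e_ne_zero q₀ ((smul_eq_zero.1 (show (2 : F) • e q₀ = 0 by
        rw [two_smul]; exact eq_neg_iff_add_eq_zero.1 e2)).resolve_left H.two)

/-- A nonscalar element on a block gives the sign change on a smaller one. -/
theorem dsg_of_nontriv {J : Finset (Fin k)} (h2 : 2 ≤ J.card) (hJ : J.card + 1 ≤ k) (h : Nontriv H X J) :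
    ∃ J' : Finset (Fin k), 3 ≤ J'.card ∧ J'.card + 1 ≤ k ∧ Dsg H J' ∈ X := by
  obtain ⟨n, hn⟩ : ∃ n, J.card + n + 1 = k := ⟨k - J.card - 1, by omega⟩
  induction n generalizing J with
  | zero =>
    obtain ⟨J', h1, h3⟩ := triple H hX (J := J) (by omega) h
    exact ⟨J', by have := hX.four; omega, by omega, h3⟩
  | succ n ih =>
    rcases descent H hX (by omega) h with ⟨J', h1, h3⟩ | ⟨J', h1, h3⟩
    · exact ⟨J', by omega, by omega, h3⟩
    · exact ih (J := J') (by omega) (by omega) h3 (by omega)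

end Coord

end Cfsg.Agent.H58.CSixPlus
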