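import Cfsg.Agent.H58.CSixPlus.Half
import Cfsg.Agent.H58.CSixPlus.Triple

/-!
An element outside the normaliser on a half can be taken to commute with a sign change, and gives a nonscalar
element on a quarter.
-/

set_option autoImplicit false
set_option linter.unusedSectionVars false

namespace Cfsg.Agent.H58.CSixPlus

open QuadraticMap Module Cfsg.Agent.Orthogonal
open Cfsg.Agent.H97.Frame (ONB)
open Cfsg.Agent.H12.CSix (bsign bsign_zero bsign_one bsign_add bsign_sq bsign_ne bit_cases)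
open Matrix

variable {F V : Type*} [Field F] [Fintype F] [AddCommGroup V] [Module F V] {k : ℕ}
variable {Q : QuadraticForm F V} {e : Pts k → V} {c : F}

namespace Coord

open Bit

variable (H : ONB Q e c)
include H

theorem label_inj {i : Fin k} {a b a' b' : Pts k} {d d' : ZMod 2} (ha : Off {i} a) (hb : Off {i} b)
    (ha' : Off {i} a') (hb' : Off {i} b') (h : cP H {i} a b d = cP H {i} a' b' d') : a = a' ∧ b = b' := by
  have hs : ∀ s : Pts k, s i = 1 →
      (bsign (a ⬝ᵥ s + d) : F) • e (s + b) = (bsign (a' ⬝ᵥ s + d') : F) • e (s + b') := fun s hs => by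
    have h1 := congrArg (fun g : O Q => (g : V ≃ₗ[F] V) (e s)) h
    simpa [cP_app H a hb, cP_app H a' hb', chi_one, hs] using h1
  have hbb : b = b' := by
    by_contra hne
    have h1 := congrArg (H.co (Pi.single i 1 + b)) (hs (Pi.single i 1) (Pi.single_eq_same i 1))
    rw [H.co_smul, H.co_smul, H.co_self, H.co_ne (fun h => hne (add_left_cancel h)), mul_zero, mul_one] at h1
    exact one_ne_zero (α := F) (by rw [← bsign_sq (a ⬝ᵥ Pi.single i 1 + d), h1, zero_mul])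
  subst hbb
  refine ⟨funext fun l => ?_, rfl⟩
  have h1 : ∀ s : Pts k, s i = 1 → a ⬝ᵥ s + d = a' ⬝ᵥ s + d' := fun s hs' =>
    bsign_inj H.two (smul_left_injective F (H.e_ne_zero _) (hs s hs'))
  rcases eq_or_ne l i with rfl | hl
  · rw [ha l (Finset.mem_singleton_self l), ha' l (Finset.mem_singleton_self l)]
  have e1 := h1 (Pi.single i 1) (Pi.single_eq_same i 1)
  have e2 := h1 (Pi.single i 1 + Pi.single l 1) (by simp [Ne.symm hl])
  rw [dotProduct_add, dotProduct_add] at e2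
  simp only [dotProduct_single, mul_one] at e1 e2
  linear_combination e2 - e1

/-- The element moves one label to another. -/
def Mv (J : Finset (Fin k)) (p : O Q) (x y : Pts k × Pts k) : Prop :=
  ∃ d, p * cP H J x.1 x.2 0 = cP H J y.1 y.2 d * p

variable {J : Finset (Fin k)}

theorem cP_split (a : Pts k) {b : Pts k} (hb : Off J b) (d : ZMod 2) :
    cP H J a b d = cP H J 0 0 d * cP H J a b 0 := by
  rw [cP_mul H 0 a (off_zero J) hb]; simp

theorem Dsg_comm_scl {p : O Q} (hp : p * Dsg H J = Dsg H J * p) (d : ZMod 2) :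
    p * cP H J 0 0 d = cP H J 0 0 d * p := (scl_comm H (cP_scl H J d) hp).symm

theorem Mv.to {p : O Q} {x y : Pts k × Pts k} (hp : p * Dsg H J = Dsg H J * p) (hx : Off J x.2) (hy : Off J y.2)
    (h : Mv H J p x y) (d0 : ZMod 2) : ∃ d, p * cP H J x.1 x.2 d0 = cP H J y.1 y.2 d * p := by
  obtain ⟨d, hd⟩ := h
  refine ⟨d0 + d, ?_⟩
  rw [cP_split H x.1 hx d0, ← mul_assoc, Dsg_comm_scl H hp, mul_assoc, hd, ← mul_assoc,
    cP_mul H 0 _ (off_zero J) hy]
  simp

theorem Mv.comp {p q : O Q} {x y z : Pts k × Pts k} (hq : q * Dsg H J = Dsg H J * q) (hy : Off J y.2)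
    (hz : Off J z.2) (h1 : Mv H J p x y) (h2 : Mv H J q y z) : Mv H J (q * p) x z := by
  obtain ⟨d, hd⟩ := h1
  obtain ⟨d', hd'⟩ := h2.to H hq hy hz d
  exact ⟨d', by rw [mul_assoc, hd, ← mul_assoc, hd', mul_assoc]⟩

theorem Mv.symm {p : O Q} {x y : Pts k × Pts k} (hp : p * Dsg H J = Dsg H J * p) (hx : Off J x.2)
    (hy : Off J y.2) (h : Mv H J p x y) : Mv H J p⁻¹ y x := by
  obtain ⟨d, hd⟩ := h
  refine ⟨d, ?_⟩
  rw [cP_split H y.1 hy d] at hd
  have hcc : cP H J 0 0 d * cP H J 0 0 d = 1 := by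
    rw [cP_mul H 0 0 (off_zero J) (off_zero J), Bit.two]; simp [cP_zero]
  rw [cP_split H x.1 hx d, eq_mul_inv_iff_mul_eq, mul_assoc, inv_mul_eq_iff_eq_mul, ← mul_assoc, Dsg_comm_scl H hp,
    mul_assoc, hd, ← mul_assoc, ← mul_assoc, hcc, one_mul]

theorem Mv.scl {p : O Q} {x : Pts k × Pts k} (hx : Off J x.2) (h : Mv H J p x x) :
    p * cP H J x.1 x.2 0 * p⁻¹ * (cP H J x.1 x.2 0)⁻¹ ∈ scl H J := by
  obtain ⟨d, hd⟩ := h
  rw [hd, mul_inv_cancel_right, cP_inv H x.1 hx, cP_mul H _ _ hx hx, Bit.vtwo, Bit.vtwo]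
  exact cP_scl H J _

theorem Mv.add {p : O Q} {x x' y y' : Pts k × Pts k} (hp : p * Dsg H J = Dsg H J * p) (hx : Off J x.2)
    (hx' : Off J x'.2) (hy : Off J y.2) (hy' : Off J y'.2) (h : Mv H J p x y) (h' : Mv H J p x' y') :
    Mv H J p (x + x') (y + y') := by
  obtain ⟨d, hd⟩ := h
  obtain ⟨d', hd'⟩ := h'
  have e1 : p * (cP H J x.1 x.2 0 * cP H J x'.1 x'.2 0) = cP H J y.1 y.2 d * cP H J y'.1 y'.2 d' * p := by
    rw [← mul_assoc, hd, mul_assoc, hd', ← mul_assoc]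
  rw [cP_mul H _ _ hx hx', cP_mul H _ _ hy hy', cP_split H _ (hx.add hx'), ← mul_assoc, Dsg_comm_scl H hp,
    mul_assoc, zero_add, zero_add] at e1
  refine ⟨x.1 ⬝ᵥ x'.2 + (d + d' + y.1 ⬝ᵥ y'.2), ?_⟩
  rw [Prod.fst_add, Prod.snd_add, Prod.fst_add, Prod.snd_add]
  have e2 := congrArg (fun w => cP H J 0 0 (x.1 ⬝ᵥ x'.2) * w) e1
  beta_reduce at e2
  simp only [← mul_assoc] at e2
  rw [cP_mul H 0 0 (off_zero J) (off_zero J), Bit.two, cP_mul H 0 _ (off_zero J) (hy.add hy')] at e2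
  simpa [cP_zero] using e2

theorem Mv.uniq {i : Fin k} {p : O Q} {x y y' : Pts k × Pts k} (ha : Off {i} y.1) (hb : Off {i} y.2)
    (ha' : Off {i} y'.1) (hb' : Off {i} y'.2) (h : Mv H {i} p x y) (h' : Mv H {i} p x y') : y = y' := by
  obtain ⟨d, hd⟩ := h
  obtain ⟨d', hd'⟩ := h'
  obtain ⟨h1, h2⟩ := label_inj H ha hb ha' hb' (mul_right_cancel (hd.symm.trans hd'))
  exact Prod.ext h1 h2

theorem Mv.form {i : Fin k} {p : O Q} {x y : Pts k × Pts k} (hp : p * Dsg H {i} = Dsg H {i} * p)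
    (hx : Off {i} x.2) (hy : Off {i} y.2) (h : Mv H {i} p x y) : y.1 ⬝ᵥ y.2 = x.1 ⬝ᵥ x.2 := by
  obtain ⟨d, hd⟩ := h
  have e1 : p * (cP H {i} x.1 x.2 0 * cP H {i} x.1 x.2 0) = cP H {i} y.1 y.2 d * cP H {i} y.1 y.2 d * p := by
    rw [← mul_assoc, hd, mul_assoc, hd, ← mul_assoc]
  rw [cP_mul H _ _ hx hx, cP_mul H _ _ hy hy, Bit.vtwo, Bit.vtwo, Bit.vtwo, Bit.vtwo, Bit.two, Bit.two, zero_add,
    zero_add, Dsg_comm_scl H hp] at e1
  have h2 := congrArg (fun g : O Q => (g : V ≃ₗ[F] V) (e (Pi.single i 1))) (mul_right_cancel e1)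
  simp only [cP_app H 0 (off_zero _), chi_one, Pi.single_eq_same, one_smul, zero_dotProduct, zero_add, one_mul,
    add_zero] at h2
  exact (bsign_inj H.two (smul_left_injective F (H.e_ne_zero _) h2)).symm

variable {X : Subgroup (O Q)} (hX : Hyp H X)
include hX

/-- Nothing outside the normaliser normalises the labels of a half without fixing a singular one. -/
theorem no_label_action {i : Fin k} {g : O Q} (hg : g ∈ X ⊓ blkG H {i})
    (hgn : ∀ a b, Off {i} a → Off {i} b → ∃ a' b', Off {i} a' ∧ Off {i} b' ∧ Mv H {i} g (a, b) (a', b'))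
    (hgE : g ∉ Subgroup.normalizer (pauli H : Set (O Q)))
    (hfree : ∀ p ∈ X ⊓ blkG H {i}, p ∉ Subgroup.normalizer (pauli H : Set (O Q)) → ∀ a b, Off {i} a → Off {i} b →
      (a ≠ 0 ∨ b ≠ 0) → a ⬝ᵥ b = 0 → ¬ Mv H {i} p (a, b) (a, b)) : False := by
  classical
  have hk := hX.four
  obtain ⟨l, m, n, hl, hm, hn, hlm, hln, hmn⟩ : ∃ l m n : Fin k, l ≠ i ∧ m ≠ i ∧ n ≠ i ∧ l ≠ m ∧ l ≠ n ∧ m ≠ n := by
    obtain ⟨l, hl, m, hm, n, hn, hlm, hln, hmn⟩ := Finset.two_lt_card.1 (show 2 < ({i}ᶜ : Finset (Fin k)).card by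
      rw [Finset.card_compl, Fintype.card_fin, Finset.card_singleton]; omega)
    simp only [Finset.mem_compl, Finset.mem_singleton] at hl hm hn
    exact ⟨l, m, n, hl, hm, hn, hlm, hln, hmn⟩
  have hol : Off {i} (Pi.single l 1 : Pts k) := off_single (by simpa using hl)
  have hom' : Off {i} (Pi.single m 1 : Pts k) := off_single (by simpa using hm)
  have hon : Off {i} (Pi.single n 1 : Pts k) := off_single (by simpa using hn)
  have hgD := blkG_comm H hg.2
  -- the action on labels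
  let L : Pts k × Pts k → Prop := fun x => Off {i} x.1 ∧ Off {i} x.2
  let R : Pts k × Pts k → Pts k × Pts k → Prop := fun x y => Mv H {i} g x y
  have hRex : ∀ x, L x → ∃ y, L y ∧ R x y := fun x hx => by
    obtain ⟨a, b, ha, hb, he⟩ := hgn x.1 x.2 hx.1 hx.2
    exact ⟨(a, b), ⟨ha, hb⟩, he⟩
  have hRuni : ∀ {x y y'}, L y → L y' → R x y → R x y' → y = y' := fun hy hy' h h' =>
    Mv.uniq H hy.1 hy.2 hy'.1 hy'.2 h h'
  have hRadd : ∀ {x x' y y'}, L x → L x' → L y → L y' → R x y → R x' y' → R (x + x') (y + y') :=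
    fun hx hx' hy hy' h h' => Mv.add H hgD hx.2 hx'.2 hy.2 hy'.2 h h'
  have hRQ : ∀ {x y}, L x → L y → R x y → y.1 ⬝ᵥ y.2 = x.1 ⬝ᵥ x.2 := fun hx hy h => Mv.form H hgD hx.2 hy.2 h
  have hfix : ∀ {x}, L x → (x.1 ≠ 0 ∨ x.2 ≠ 0) → x.1 ⬝ᵥ x.2 = 0 → ¬ R x x :=
    fun hx h0 hs => hfree g hg hgE _ _ hx.1 hx.2 h0 hs
  set s : Pts k × Pts k := (Pi.single l 1, 0)
  have hsL : L s := ⟨hol, off_zero _⟩
  obtain ⟨s', hs'L, hs'⟩ := hRex s hsL
  set f : Pts k × Pts k → ZMod 2 := fun x => bb s'.1 s'.2 x.1 x.2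
  have hfadd : ∀ x y, f (x + y) = f x + f y := fun x y => by
    simp only [f, bb, Prod.fst_add, Prod.snd_add, dotProduct_add, add_dotProduct]; ring
  -- an orthogonal pair orthogonal to both
  obtain ⟨u, w, hu1, hu2, huQ, huf, hul, hw1, hwb, hw0, hwu, hwf, hub⟩ : ∃ u w : Pts k × Pts k,
      Off {i} u.1 ∧ Off {i} u.2 ∧ u.1 ⬝ᵥ u.2 = 1 ∧ f u = 0 ∧ u.2 l = 0 ∧
      Off {i} w.1 ∧ w.2 = 0 ∧ w.1 ≠ 0 ∧ w.1 ⬝ᵥ u.2 = 0 ∧ f w = 0 ∧ ∃ j, j ≠ i ∧ u.2 j = 1 := by
    rcases bit_cases (s'.2 l) with h0 | h1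
    · have hfl : f (Pi.single l 1, 0) = 0 := by simp [f, bb, h0]
      set ym : Pts k × Pts k := (Pi.single m 1, Pi.single m 1) with hym
      set yn : Pts k × Pts k := (Pi.single n 1, Pi.single n 1) with hyn
      rcases bit_cases (f ym) with hfm | hfm
      · exact ⟨ym, (Pi.single l 1, 0), hom', hom', by simp [hym], hfm, by simp [hym, hlm], hol, rfl, single_ne l,
          by simp [hym, hlm], hfl, m, hm, by simp [hym]⟩
      rcases bit_cases (f yn) with hfn | hfn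
      · exact ⟨yn, (Pi.single l 1, 0), hon, hon, by simp [hyn], hfn, by simp [hyn, hln], hol, rfl, single_ne l,
          by simp [hyn, hln], hfl, n, hn, by simp [hyn]⟩
      rcases bit_cases (f ((0 : Pts k), (Pi.single n 1 : Pts k))) with hx0 | hx1
      · refine ⟨ym + (Pi.single n 1, 0), (Pi.single l 1, 0), hom'.add hon, by simpa [hym] using hom',
          by simp [hym, hmn], ?_, by simp [hym, hlm], hol, rfl, single_ne l, by simp [hym, hlm],
          hfl, m, hm, by simp [hym]⟩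
        have hsum : f yn = f (Pi.single n 1, 0) + f ((0 : Pts k), (Pi.single n 1 : Pts k)) := by
          rw [← hfadd]; simp [hyn]
        rw [hx0, add_zero, hfn] at hsum
        rw [hfadd, hfm, ← hsum, Bit.two]
      · refine ⟨ym + (0, Pi.single n 1), (Pi.single l 1, 0), by simpa [hym] using hom', hom'.add hon,
          by simp [hym, hmn], ?_, by simp [hym, hlm, hln], hol, rfl, single_ne l, by simp [hym, hlm, hln],
          hfl, m, hm, by simp [hym, hmn]⟩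
        rw [hfadd, hfm, hx1, Bit.two]
    · have hfl : f (Pi.single l 1, 0) = 1 := by simp [f, bb, h1]
      have hsm : ∀ z : ZMod 2, f (z • Pi.single l 1, 0) = z := fun z => by
        rcases bit_cases z with rfl | rfl
        · simp [f, bb]
        · rw [one_smul]; exact hfl
      set ym : Pts k × Pts k := (Pi.single m 1, Pi.single m 1) with hym
      have hoffs : ∀ z : ZMod 2, Off {i} (z • Pi.single l 1 : Pts k) := fun z j hj => by
        rw [Pi.smul_apply, hol j hj, smul_zero]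
      refine ⟨ym + (f ym • Pi.single l 1, 0),
        (Pi.single n 1, 0) + (f (Pi.single n 1, 0) • Pi.single l 1, 0),
        hom'.add (hoffs _), by simpa [hym] using hom', ?_, by rw [hfadd, hsm, Bit.two], by simp [hym, hlm],
        hon.add (hoffs _), by simp, ?_, by simp [hym, hmn, Ne.symm hmn, hlm], by rw [hfadd, hsm, Bit.two], m, hm,
        by simp [hym]⟩
      · simp [hym, hlm, add_dotProduct, Ne.symm hlm]
      · intro h0'
        have := congrFun h0' n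
        simp [hln, Ne.symm hln] at this
  set v := u + w
  have hvQ : v.1 ⬝ᵥ v.2 = 1 := by
    show (u.1 + w.1) ⬝ᵥ (u.2 + w.2) = 1
    rw [hwb, add_zero, add_dotProduct, huQ, hwu, add_zero]
  have huv : bb u.1 u.2 v.1 v.2 = 0 := by
    show u.1 ⬝ᵥ (u.2 + w.2) + (u.1 + w.1) ⬝ᵥ u.2 = 0
    rw [hwb, add_zero, add_dotProduct, huQ, hwu]; decide
  obtain ⟨j, hji, hj⟩ := hub
  set ii : Pts k := Pi.single i 1 with hii
  have hui : u.2 i = 0 := hu2 i (Finset.mem_singleton_self i)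
  have hui1 : u.1 i = 0 := hu1 i (Finset.mem_singleton_self i)
  have hwi1 : w.1 i = 0 := hw1 i (Finset.mem_singleton_self i)
  have hxQ : (Pi.single j 1 + ii) ⬝ᵥ ii = 1 := by simp [hii, Ne.symm hji]
  have hx1 : bb u.1 u.2 (Pi.single j 1 + ii) ii = 1 := by
    simp [bb, hii, hui, hui1, hj]
  have hx2 : bb (Pi.single j 1 + ii) ii v.1 v.2 = 1 := by
    show (Pi.single j 1 + ii) ⬝ᵥ (u.2 + w.2) + (u.1 + w.1) ⬝ᵥ ii = 1
    rw [hwb, add_zero]
    simp [hii, hui, hui1, hwi1, hj]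
  set U := cP H ∅ u.1 u.2 0
  set U' := cP H ∅ v.1 v.2 0
  set T := lift U U'
  have hTX : T ∈ X := hX.mem _ (lift_mem H (by omega) huQ hvQ hxQ hx1 hx2) (lift_nrm H huQ hvQ)
  have hv2 : Off {i} v.2 := by show Off {i} (u.2 + w.2); rw [hwb, add_zero]; exact hu2
  have hv1 : Off {i} v.1 := hu1.add hw1
  -- the action of the reflection pair
  let t : Pts k × Pts k → Pts k × Pts k := fun x =>
    x + bb v.1 v.2 x.1 x.2 • v + bb u.1 u.2 x.1 x.2 • u
  have hT : ∀ x, L x → ∀ d, ∃ d', T * cP H {i} x.1 x.2 d = cP H {i} (t x).1 (t x).2 d' * T := by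
    intro x hx d
    obtain ⟨d', hd'⟩ := lift_block H huQ hvQ hu2 hv2 x.1 hx.2 d
    refine ⟨d', ?_⟩
    have hb : bb u.1 u.2 (x.1 + bb v.1 v.2 x.1 x.2 • v.1) (x.2 + bb v.1 v.2 x.1 x.2 • v.2) = bb u.1 u.2 x.1 x.2 := by
      simp only [bb, dotProduct_add, add_dotProduct, dotProduct_smul, smul_dotProduct, smul_eq_mul]
      have := huv
      unfold bb at this
      linear_combination (v.1 ⬝ᵥ x.2 + x.1 ⬝ᵥ v.2) * this
    rw [hb] at hd'
    exact hd'
  have htL : ∀ x, L x → L (t x) := fun x hx =>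
    ⟨(hx.1.add fun j hj => by rw [Prod.smul_fst, Pi.smul_apply, hv1 j hj, smul_zero]).add fun j hj => by
        rw [Prod.smul_fst, Pi.smul_apply, hu1 j hj, smul_zero],
      (hx.2.add fun j hj => by rw [Prod.smul_snd, Pi.smul_apply, hv2 j hj, smul_zero]).add fun j hj => by
        rw [Prod.smul_snd, Pi.smul_apply, hu2 j hj, smul_zero]⟩
  have htfix : ∀ x, bb u.1 u.2 x.1 x.2 = 0 → bb v.1 v.2 x.1 x.2 = 0 → t x = x := fun x h1 h2 => by
    simp only [t, h1, h2, zero_smul, add_zero]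
  have hTD : T * Dsg H {i} = Dsg H {i} * T := by
    obtain ⟨d', hd'⟩ := hT (0, 0) ⟨off_zero _, off_zero _⟩ 1
    rw [htfix _ (by simp [bb]) (by simp [bb])] at hd'
    rcases bit_cases d' with rfl | rfl
    · rw [cP_zero, one_mul] at hd'
      have h1 := congrArg (fun g : O Q => (g : V ≃ₗ[F] V) (e ii)) (mul_eq_left.1 hd')
      simp only [cP_app H 0 (off_zero _)] at h1
      have h2 := congrArg (H.co ii) h1
      simp [hii, chi_one, bsign_one, H.co_neg, H.co_self] at h2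
      exact absurd (show (2 : F) = 0 by linear_combination -h2) H.two
    · exact hd'
  have hTi : T⁻¹ * Dsg H {i} = Dsg H {i} * T⁻¹ := ((show Commute T _ from hTD).inv_left).eq
  set h := g * (T * g⁻¹ * T⁻¹) with hh
  have hhG : h ∈ X ⊓ blkG H {i} := (X ⊓ blkG H {i}).mul_mem hg
    ⟨X.mul_mem (X.mul_mem hTX (X.inv_mem hg.1)) (X.inv_mem hTX), blkG_conj H hTD ((blkG H {i}).inv_mem hg.2)⟩
  have hfs : bb u.1 u.2 s.1 s.2 = 0 ∧ bb v.1 v.2 s.1 s.2 = 0 := by
    refine ⟨?_, ?_⟩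
    · simp [bb, s, hul]
    · show (u.1 + w.1) ⬝ᵥ (0 : Pts k) + (Pi.single l 1 : Pts k) ⬝ᵥ (u.2 + w.2) = 0
      rw [hwb, add_zero, dotProduct_zero, zero_add, single_dotProduct, one_mul, hul]
  have hfs' : bb u.1 u.2 s'.1 s'.2 = 0 ∧ bb v.1 v.2 s'.1 s'.2 = 0 := by
    have hsymm : ∀ x : Pts k × Pts k, bb x.1 x.2 s'.1 s'.2 = f x := fun x => by simp only [f, bb]; ring
    exact ⟨(hsymm u).trans huf, (hsymm v).trans (by rw [hfadd, huf, hwf, add_zero])⟩
  have hTs : Mv H {i} T s s := by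
    obtain ⟨d', hd'⟩ := hT s hsL 0
    rw [htfix _ hfs.1 hfs.2] at hd'
    exact ⟨d', hd'⟩
  have hTs' : Mv H {i} T s' s' := by
    obtain ⟨d', hd'⟩ := hT s' hs'L 0
    rw [htfix _ hfs'.1 hfs'.2] at hd'
    exact ⟨d', hd'⟩
  have hgi : g⁻¹ * Dsg H {i} = Dsg H {i} * g⁻¹ := ((show Commute g _ from hgD).inv_left).eq
  have hhs : Mv H {i} h s' s' := by
    have e1 := Mv.comp H hgi hs'L.2 hsL.2 (Mv.symm H hTD hs'L.2 hs'L.2 hTs') (Mv.symm H hgD hsL.2 hs'L.2 hs')
    have e2 := Mv.comp H hTD hsL.2 hsL.2 e1 hTs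
    have e3 := Mv.comp H hgD hsL.2 hs'L.2 e2 hs'
    rw [hh]
    simpa only [mul_assoc] using e3
  have hhN : h ∈ Subgroup.normalizer (pauli H : Set (O Q)) := by
    by_contra hne
    have hs'0 : s'.1 ≠ 0 ∨ s'.2 ≠ 0 := by
      by_contra h0
      rw [not_or, not_not, not_not] at h0
      have h3 := Mv.symm H hgD hsL.2 hs'L.2 hs'
      have h4 : Mv H {i} g⁻¹ s' (0, 0) := ⟨0, by rw [h0.1, h0.2, cP_zero, one_mul, mul_one]⟩
      have h5 := Mv.uniq H hsL.1 hsL.2 (off_zero _) (off_zero _) h3 h4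
      exact single_ne l (congrArg Prod.fst h5)
    exact hfree h hhG hne s'.1 s'.2 hs'L.1 hs'L.2 hs'0 (by rw [hRQ hsL hs'L hs']; simp [s]) hhs
  -- hence g commutes with the pair on labels
  obtain ⟨ea, eb, dh, hea, heb, hhe⟩ := nrm_half H hhG.2 hhN
  have hcomm : ∀ x y, L x → L y → R x y → R (t x) (t y) := by
    intro x y hx hy hxy
    obtain ⟨d1, e1⟩ := hT x hx 0
    obtain ⟨d2, e2⟩ := hT y hy 0
    have m1 := Mv.symm H hTD hx.2 (htL x hx).2 ⟨d1, e1⟩
    have m2 := Mv.comp H hgD hx.2 hy.2 m1 hxy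
    have m3 := Mv.comp H hTD hy.2 (htL y hy).2 m2 ⟨d2, e2⟩
    have m4 : Mv H {i} h (t y) (t y) := by
      refine ⟨bb ea eb (t y).1 (t y).2, ?_⟩
      rw [hhe, cP_comm H ea (t y).1 heb (htL y hy).2 dh 0, ← mul_assoc,
        ← cP_split H _ (htL y hy).2]
      rfl
    have m5 := Mv.comp H (by rw [hhe]; exact blkG_comm H (cP_blk H ea heb dh)) (htL y hy).2 (htL y hy).2 m3 m4
    show Mv H {i} g (t x) (t y)
    have hgh : g = h * (T * (g * T⁻¹)) := by rw [hh]; group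
    rwa [← hgh] at m5
  -- a label moved by u alone
  have hrange : ∀ {z : Pts k × Pts k}, L z → (∃ p : Pts k × Pts k, L p ∧ t p = p + z) → ∀ {gz}, L gz → R z gz →
      ∃ α β : ZMod 2, gz = α • v + β • u := by
    rintro z hz ⟨p, hp, hpz⟩ gz hgz hR
    obtain ⟨gp, hgp, hRp⟩ := hRex p hp
    have h1 := hcomm p gp hp hgp hRp
    rw [hpz] at h1
    have h2 := hRuni (htL gp hgp) ⟨hgp.1.add hgz.1, hgp.2.add hgz.2⟩ h1 (hRadd hp hz hgp hgz hRp hR)
    refine ⟨bb v.1 v.2 gp.1 gp.2, bb u.1 u.2 gp.1 gp.2, ?_⟩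
    simp only [t, add_assoc] at h2
    exact (add_left_cancel h2).symm
  have hv : v.1 ⬝ᵥ v.2 = 1 := hvQ
  have hQlab : ∀ {z : Pts k × Pts k}, L z → ∀ {gz}, L gz → R z gz → z.1 ⬝ᵥ z.2 = 1 → (∃ α β : ZMod 2, gz = α • v + β • u) →
      gz = u ∨ gz = v := by
    rintro z hz gz hgz hR hzQ ⟨α, β, rfl⟩
    have := hRQ hz hgz hR
    rw [hzQ] at this
    rcases bit_cases α with rfl | rfl <;> rcases bit_cases β with rfl | rfl <;>
      simp only [zero_smul, one_smul, zero_add, add_zero] at this ⊢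
    · simp at this
    · exact .inl trivial
    · exact .inr trivial
    · exfalso
      have hb := huv
      unfold bb at hb
      rw [Prod.fst_add, Prod.snd_add, add_dotProduct, dotProduct_add, dotProduct_add, hv, huQ] at this
      revert this
      rw [show (1 : ZMod 2) + v.1 ⬝ᵥ u.2 + (u.1 ⬝ᵥ v.2 + 1) = (u.1 ⬝ᵥ v.2 + v.1 ⬝ᵥ u.2) + (1 + 1) by ring, hb]
      decide
  have huL : L u := ⟨hu1, hu2⟩
  have hvL : L v := ⟨hv1, hv2⟩
  -- exhibit labels moved by u and by v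
  have hrg : ∀ {z}, (z = u ∨ z = v) → ∃ p : Pts k × Pts k, L p ∧ t p = p + z := by
    intro z hz
    obtain ⟨r, hr⟩ : ∃ r, w.1 r = 1 := by
      obtain ⟨r, hr⟩ := Function.ne_iff.1 hw0
      exact ⟨r, (bit_cases _).resolve_left hr⟩
    have hri : r ≠ i := fun h => by rw [h, hwi1] at hr; exact zero_ne_one hr
    have horl : Off {i} (Pi.single r 1 : Pts k) := off_single (by simpa using hri)
    have hojl : Off {i} (Pi.single j 1 : Pts k) := off_single (by simpa using hji)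
    let pick : ZMod 2 → Pts k × Pts k := fun z =>
      ((z + u.1 r) • Pi.single j 1, Pi.single r 1)
    have hpick : ∀ z, bb u.1 u.2 (pick z).1 (pick z).2 = z ∧ bb v.1 v.2 (pick z).1 (pick z).2 = z + 1 := fun z => by
      refine ⟨?_, ?_⟩
      · simp only [pick, bb, dotProduct_single, mul_one, smul_dotProduct, single_dotProduct, one_mul, hj,
          smul_eq_mul]
        linear_combination Bit.two (u.1 r)
      · show (u.1 + w.1) ⬝ᵥ (pick z).2 + (pick z).1 ⬝ᵥ (u.2 + w.2) = z + 1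
        rw [hwb, add_zero]
        simp only [pick, dotProduct_single, mul_one, smul_dotProduct, single_dotProduct, one_mul, hj,
          smul_eq_mul, Pi.add_apply, hr]
        linear_combination Bit.two (u.1 r)
    have hpL : ∀ z, L (pick z) := fun z => ⟨fun q hq => by
      show ((z + u.1 r) • (Pi.single j 1 : Pts k)) q = 0
      rw [Pi.smul_apply, hojl q hq, smul_zero], horl⟩
    rcases hz with rfl | rfl
    · refine ⟨pick 1, hpL 1, ?_⟩
      simp only [t, (hpick 1).1, (hpick 1).2, show (1 : ZMod 2) + 1 = 0 by decide, zero_smul, add_zero, one_smul]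
    · refine ⟨pick 0, hpL 0, ?_⟩
      simp only [t, (hpick 0).1, (hpick 0).2, zero_add, zero_smul, add_zero, one_smul]
  obtain ⟨gu, hguL, hgu⟩ := hRex u huL
  obtain ⟨gv, hgvL, hgv⟩ := hRex v hvL
  have hgu' := hQlab huL hguL hgu huQ (hrange huL (hrg (z := u) (Or.inl rfl)) hguL hgu)
  have hgv' := hQlab hvL hgvL hgv hvQ (hrange hvL (hrg (z := v) (Or.inr rfl)) hgvL hgv)
  have huw : u + v = w := by
    show u + (u + w) = w
    exact Prod.ext (by simp [← add_assoc, Bit.vtwo]) (by simp [← add_assoc, Bit.vtwo])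
  have hRw := hRadd huL hvL hguL hgvL hgu hgv
  rw [huw] at hRw
  have hwL : L w := ⟨hw1, by rw [hwb]; exact off_zero _⟩
  have hwQ : w.1 ⬝ᵥ w.2 = 0 := by rw [hwb, dotProduct_zero]
  have hzero : R w 0 → False := fun h3 => by
    have h4 : Mv H {i} g 0 0 := ⟨0, by rw [Prod.fst_zero, Prod.snd_zero, cP_zero, one_mul, mul_one]⟩
    exact hw0 (congrArg Prod.fst (Mv.uniq H hwL.1 hwL.2 (off_zero _) (off_zero _)
      (Mv.symm H hgD hwL.2 (off_zero _) h3) (Mv.symm H hgD (off_zero _) (off_zero _) h4)))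
  rcases hgu' with h1 | h1 <;> rcases hgv' with h2 | h2 <;> rw [h1, h2] at hRw
  · rw [show u + u = (0 : Pts k × Pts k) from Prod.ext (Bit.vtwo _) (Bit.vtwo _)] at hRw
    exact hzero hRw
  · rw [huw] at hRw; exact hfix hwL (Or.inl hw0) hwQ hRw
  · rw [add_comm v u, huw] at hRw; exact hfix hwL (.inl hw0) hwQ hRw
  · rw [show v + v = (0 : Pts k × Pts k) from Prod.ext (Bit.vtwo _) (Bit.vtwo _)] at hRw
    exact hzero hRw

/-- An element of the half outside the normaliser commuting up to sign with a singular element. -/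
theorem exists_commuting {i : Fin k} {y0 : O Q} (hy0 : y0 ∈ X) (hy0B : y0 ∈ blkG H {i})
    (hy0N : y0 ∉ Subgroup.normalizer (pauli H : Set (O Q))) :
    ∃ y ∈ X, y ∈ blkG H {i} ∧ y ∉ Subgroup.normalizer (pauli H : Set (O Q)) ∧
      ∃ a b, Off {i} a ∧ Off {i} b ∧ (a ≠ 0 ∨ b ≠ 0) ∧ a ⬝ᵥ b = 0 ∧
        y * cP H {i} a b 0 * y⁻¹ * (cP H {i} a b 0)⁻¹ ∈ scl H {i} := by
  classical
  by_contra hno
  push Not at hno
  set N := Subgroup.normalizer (pauli H : Set (O Q))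
  have hk := hX.four
  have hfin := finiteO H
  obtain ⟨l, m, n, hl, hm, hn, hlm, hln, hmn⟩ : ∃ l m n : Fin k, l ≠ i ∧ m ≠ i ∧ n ≠ i ∧ l ≠ m ∧ l ≠ n ∧ m ≠ n := by
    obtain ⟨l, hl, m, hm, n, hn, hlm, hln, hmn⟩ := Finset.two_lt_card.1 (show 2 < ({i}ᶜ : Finset (Fin k)).card by
      rw [Finset.card_compl, Fintype.card_fin, Finset.card_singleton]; omega)
    simp only [Finset.mem_compl, Finset.mem_singleton] at hl hm hn
    exact ⟨l, m, n, hl, hm, hn, hlm, hln, hmn⟩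
  have hol : Off {i} (Pi.single l 1 : Pts k) := off_single (by simpa using hl)
  have hom' : Off {i} (Pi.single m 1 : Pts k) := off_single (by simpa using hm)
  have hon : Off {i} (Pi.single n 1 : Pts k) := off_single (by simpa using hn)
  set G := X ⊓ blkG H {i}
  set E : Subgroup (O Q) :=
    { carrier := {g | ∃ a b d, Off {i} a ∧ Off {i} b ∧ g = cP H {i} a b d}
      one_mem' := ⟨0, 0, 0, off_zero _, off_zero _, (cP_zero H _).symm⟩
      mul_mem' := by
        rintro _ _ ⟨a, b, d, ha, hb, rfl⟩ ⟨a', b', d', ha', hb', rfl⟩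
        exact ⟨_, _, _, ha.add ha', hb.add hb', cP_mul H a a' hb hb' d d'⟩
      inv_mem' := by
        rintro _ ⟨a, b, d, ha, hb, rfl⟩
        exact ⟨_, _, _, ha, hb, cP_inv H a hb d⟩ }
  have hEG : E ≤ G := by
    rintro _ ⟨a, b, d, -, hb, rfl⟩
    exact ⟨cP_one_X H hX i (hb i (Finset.mem_singleton_self i)) d, cP_blk H a hb d⟩
  have hEN : E ≤ N := by
    rintro _ ⟨a, b, d, -, hb, rfl⟩; exact cP_half_nrm H a hb d
  have hNE : ∀ g ∈ G, g ∈ N → g ∈ E := fun g hg hgN => by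
    obtain ⟨a, b, d, ha, hb, rfl⟩ := nrm_half H hg.2 hgN
    exact ⟨a, b, d, ha, hb, rfl⟩
  have hy0E : y0 ∉ E := fun h => hy0N (hEN h)
  have hy0G : y0 ∈ G := ⟨hy0, hy0B⟩
  have hZ : scl H {i} ≤ E := by
    rintro z (rfl | rfl)
    exacts [E.one_mem, ⟨0, 0, 1, off_zero _, off_zero _, rfl⟩]
  -- nothing outside E centralises a singular label
  have hfree : ∀ g ∈ G, g ∉ E → ∀ a b, Off {i} a → Off {i} b → (a ≠ 0 ∨ b ≠ 0) → a ⬝ᵥ b = 0 →
      g * cP H {i} a b 0 * g⁻¹ * (cP H {i} a b 0)⁻¹ ∉ scl H {i} := fun g hg hgE a b ha hb h0 hs =>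
    hno g hg.1 hg.2 (fun h => hgE (hNE g hg h)) a b ha hb h0 hs
  have hZc : ∀ z ∈ scl H {i}, ∀ g ∈ G, z * g = g * z := fun z hz g hg => scl_comm H hz (blkG_comm H hg.2)
  by_cases hnorm : ∃ g ∈ G, g ∉ E ∧ ∀ x ∈ E, g * x * g⁻¹ ∈ E
  · obtain ⟨g, hg, hgE, hgn⟩ := hnorm
    refine no_label_action H hX hg (fun a b ha hb => ?_) (fun h => hgE (hNE g hg h)) ?_
    · obtain ⟨a', b', d, ha', hb', he⟩ := hgn _ ⟨a, b, 0, ha, hb, rfl⟩
      exact ⟨a', b', ha', hb', d, mul_inv_eq_iff_eq_mul.1 he⟩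
    · intro p hp hpN a b ha hb h0 hs hm
      exact hfree p hp (fun h => hpN (hEN h)) a b ha hb h0 hs (Mv.scl (x := (a, b)) H hb hm)
  · -- E is self-normalising
    push Not at hnorm
    let K := (scl H {i}).subgroupOf G
    have hK : K.Normal := ⟨fun n hn g => by
      rw [Subgroup.mem_subgroupOf] at hn ⊢
      rw [Subgroup.coe_mul, Subgroup.coe_mul, ← hZc n hn g g.2, Subgroup.coe_inv, mul_inv_cancel_right]
      exact hn⟩
    let π := QuotientGroup.mk' K
    have hπ : ∀ {x : G}, π x ∈ (E.subgroupOf G).map π → (x : O Q) ∈ E := by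
      rintro x ⟨y, hy, he⟩
      have h1 : (y⁻¹ * x : G) ∈ K := QuotientGroup.eq.1 he
      rw [Subgroup.mem_subgroupOf] at h1
      have := E.mul_mem (Subgroup.mem_subgroupOf.1 hy) (hZ h1)
      simpa using this
    have hcent : ∀ (a b : Pts k) (ha : Off {i} a) (hb : Off {i} b), (a ≠ 0 ∨ b ≠ 0) → a ⬝ᵥ b = 0 →
        ∀ q, q * π ⟨cP H {i} a b 0, hEG ⟨a, b, 0, ha, hb, rfl⟩⟩ = π ⟨cP H {i} a b 0, hEG ⟨a, b, 0, ha, hb, rfl⟩⟩ * q →
          q ∈ (E.subgroupOf G).map π := by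
      intro a b ha hb h0 hs q hq
      obtain ⟨x, rfl⟩ := QuotientGroup.mk'_surjective K q
      by_cases hxE : (x : O Q) ∈ E
      · exact ⟨x, hxE, rfl⟩
      refine absurd ?_ (hfree x x.2 hxE a b ha hb h0 hs)
      have e1 : π (x * ⟨cP H {i} a b 0, hEG ⟨a, b, 0, ha, hb, rfl⟩⟩ * x⁻¹ *
          (⟨cP H {i} a b 0, hEG ⟨a, b, 0, ha, hb, rfl⟩⟩ : G)⁻¹) = 1 := by
        rw [map_mul, map_mul, map_mul, map_inv, map_inv]
        dsimp only [π] at hq ⊢
        rw [hq]; group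
      exact Subgroup.mem_subgroupOf.1 ((QuotientGroup.eq_one_iff _).1 e1)
    have hm0 : (Pi.single l 1 + Pi.single m 1 : Pts k) ≠ 0 := pair_ne hlm
    have htop := eq_top_of_self_normalizing ((E.subgroupOf G).map π) (by
      rintro _ ⟨y, hy, rfl⟩
      obtain ⟨a, b, d, -, hb, he⟩ := Subgroup.mem_subgroupOf.1 hy
      rw [← map_mul]
      refine (QuotientGroup.eq_one_iff _).2 (Subgroup.mem_subgroupOf.2 ?_)
      rw [Subgroup.coe_mul, he, cP_mul H a a hb hb, Bit.vtwo, Bit.vtwo]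
      exact cP_scl H {i} _) (by
      intro q hq
      obtain ⟨x, rfl⟩ := QuotientGroup.mk'_surjective K q
      by_cases hxE : (x : O Q) ∈ E
      · exact ⟨x, hxE, rfl⟩
      obtain ⟨y, hy, hyx⟩ := hnorm x x.2 hxE
      refine absurd ?_ hyx
      have h1 := hq (π ⟨y, hEG hy⟩) ⟨⟨y, hEG hy⟩, hy, rfl⟩
      rw [← map_inv, ← map_mul, ← map_mul] at h1
      exact hπ h1)
      (a := π ⟨cP H {i} (Pi.single l 1) 0 0, hEG ⟨_, _, _, hol, off_zero _, rfl⟩⟩)
      (b := π ⟨cP H {i} (Pi.single m 1) 0 0, hEG ⟨_, _, _, hom', off_zero _, rfl⟩⟩)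
      ⟨_, ⟨_, _, _, hol, off_zero _, rfl⟩, rfl⟩ ⟨_, ⟨_, _, _, hom', off_zero _, rfl⟩, rfl⟩
      (hcent _ _ hol (off_zero _) (.inl (single_ne l)) (dotProduct_zero _))
      (hcent _ _ hom' (off_zero _) (.inl (single_ne m)) (dotProduct_zero _))
      (by
        have e1 : (⟨cP H {i} (Pi.single l 1) 0 0, hEG ⟨_, _, _, hol, off_zero _, rfl⟩⟩ : G) *
            ⟨cP H {i} (Pi.single m 1) 0 0, hEG ⟨_, _, _, hom', off_zero _, rfl⟩⟩ =
            ⟨cP H {i} (Pi.single l 1 + Pi.single m 1) 0 0,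
              hEG ⟨_, _, _, hol.add hom', off_zero _, rfl⟩⟩ := Subtype.ext (by
          show cP H {i} _ 0 0 * cP H {i} _ 0 0 = _
          rw [cP_mul H _ _ (off_zero _) (off_zero _), dotProduct_zero, add_zero, add_zero, add_zero])
        rw [← map_mul, e1]
        exact hcent _ _ (hol.add hom') (off_zero _) (.inl hm0) (dotProduct_zero _))
    exact hy0E (hπ (x := ⟨y0, hy0G⟩) (htop ▸ Subgroup.mem_top _))

end Coord

end Cfsg.Agent.H58.CSixPlus
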